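import Groth.Agent.CohqA.PullbackQCoh
import Groth.Agent.CohqA.BaseChangePushout
import Groth.Agent.Ega1.QcqsPush
import Mathlib.AlgebraicGeometry.Morphisms.Flat

/-!
# Affine base change

For a cartesian square with `f : X ⟶ S` affine, the base change map `f_* M ⟶ g_* f'_* g'^* M` is
universal, i.e. `g^* f_* M ⟶ f'_* g'^* M` is an isomorphism.
-/

set_option autoImplicit false
universe u

open CategoryTheory AlgebraicGeometry Limits Opposite TopologicalSpace AlgebraicGeometry.Scheme.Modules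

namespace Groth.Agent.CohqA.AffineBaseChange

open Groth.Agent.CohqA.PullbackUniv Groth.Agent.CohqA.BaseChangeMod Groth.Agent.CohqA.PullbackAffine
  Groth.Agent.CohqA.PullbackSections Groth.Agent.CohqA.PullbackQCoh
  Groth.Agent.CohqA.BaseChangePushout

variable {X S X' S' : Scheme.{u}} (f : X ⟶ S) (g : S' ⟶ S) (g' : X' ⟶ X) (f' : X' ⟶ S')

/-- The morphism `f_* M ⟶ g_* f'_* N` attached to `a : M ⟶ g'_* N` and a commutative square. -/
noncomputable def pushSquare (w : g' ≫ f = f' ≫ g) {M : X.Modules} {N : X'.Modules}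
    (a : M ⟶ (pushforward g').obj N) :
    (pushforward f).obj M ⟶ (pushforward g).obj ((pushforward f').obj N) :=
  (pushforward f).map a ≫ (pushforwardComp g' f).hom.app N ≫ (pushforwardCongr w).hom.app N ≫
    (pushforwardComp f' g).inv.app N

lemma secMap_pushSquare (w : g' ≫ f = f' ≫ g) {M : X.Modules} {N : X'.Modules}
    (a : M ⟶ (pushforward g').obj N) (V : S.Opens) (V' : S'.Opens) (e : V' ≤ g ⁻¹ᵁ V)
    (e' : f' ⁻¹ᵁ V' ≤ g' ⁻¹ᵁ (f ⁻¹ᵁ V)) (x : Γ(M, f ⁻¹ᵁ V)) :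
    secMap g (pushSquare f g g' f' w a) V V' e x =
      secMap g' a (f ⁻¹ᵁ V) (f' ⁻¹ᵁ V') e' x := by
  have e1 : f' ⁻¹ᵁ V' ≤ f' ⁻¹ᵁ (g ⁻¹ᵁ V) := f'.preimage_mono e
  have e2 : f' ⁻¹ᵁ (g ⁻¹ᵁ V) ≤ g' ⁻¹ᵁ (f ⁻¹ᵁ V) := by
    rw [← Scheme.Hom.comp_preimage, ← Scheme.Hom.comp_preimage, w]
  exact map_map' N e1 e2 (a.app (f ⁻¹ᵁ V) x)

variable {f g g' f'}

lemma preimage_le (w : g' ≫ f = f' ≫ g) (V : S.Opens) (V' : S'.Opens) (e : V' ≤ g ⁻¹ᵁ V) :
    f' ⁻¹ᵁ V' ≤ g' ⁻¹ᵁ (f ⁻¹ᵁ V) := by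
  rw [← Scheme.Hom.comp_preimage, w, Scheme.Hom.comp_preimage]
  exact f'.preimage_mono e

lemma isPushout_appLE (h : IsPullback g' f' f g) [IsAffineHom f] {V : S.Opens} {V' : S'.Opens}
    (hV : IsAffineOpen V) (hV' : IsAffineOpen V') (e : V' ≤ g ⁻¹ᵁ V) :
    IsPushout (g.appLE V V' e) (f.appLE V (f ⁻¹ᵁ V) le_rfl) (f'.appLE V' (f' ⁻¹ᵁ V') le_rfl)
      (g'.appLE (f ⁻¹ᵁ V) (f' ⁻¹ᵁ V') (preimage_le h.w V V' e)) := by
  have hUY : f' ⁻¹ᵁ V' = g' ⁻¹ᵁ (f ⁻¹ᵁ V) ⊓ f' ⁻¹ᵁ V' :=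
    (inf_eq_right.2 (preimage_le h.w V V' e)).symm
  have h1 := isIso_pushoutSection_of_isAffineOpen h (US := V) (UT := V') (UX := f ⁻¹ᵁ V) e le_rfl hUY
    hV hV' (hV.preimage f)
  exact ((isIso_pushoutSection_iff ..).1 h1).flip

/-- **Affine base change**, for the tautological map `f_* M ⟶ g_* f'_* N` where `N` is "the" pullback
of `M`. -/
theorem isUniv_pushSquare (h : IsPullback g' f' f g) [IsAffineHom f] {M : X.Modules}
    [M.IsQuasicoherent] {N : X'.Modules} (a : M ⟶ (pushforward g').obj N) (ha : IsUniv g' a) :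
    IsUniv g (pushSquare f g g' f' h.w a) := by
  have hf' : IsAffineHom f' := MorphismProperty.of_isPullback h ‹_›
  have hN : N.IsQuasicoherent := isQuasicoherent_of_isUniv g' a ha
  have h1 : ((pushforward f).obj M).IsQuasicoherent :=
    Groth.Agent.Ega1.QcqsPush.isQCoh_pushforward f M ‹_›
  have h2 : ((pushforward f').obj N).IsQuasicoherent :=
    Groth.Agent.Ega1.QcqsPush.isQCoh_pushforward f' N ‹_›
  refine isUniv_of_isBC_cover g _ fun y => ?_
  obtain ⟨V, V', hV, hV', hy, e⟩ := exists_affine_pair g y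
  refine ⟨V, V', hV, hV', e, hy, ?_⟩
  have h3 := isBC_secMap g' a ha (hV.preimage f) (hV'.preimage f') (preimage_le h.w V V' e)
  have h4 : secMap g (pushSquare f g g' f' h.w a) V V' e =
      secMap g' a (f ⁻¹ᵁ V) (f' ⁻¹ᵁ V') (preimage_le h.w V V' e) := by
    ext x
    exact secMap_pushSquare f g g' f' h.w a V V' e _ x
  rw [h4]
  let : Module Γ(S, V) Γ(M, f ⁻¹ᵁ V) := (((pushforward f).obj M).val.obj (.op V)).isModule
  let : Module Γ(S', V') Γ(N, f' ⁻¹ᵁ V') := (((pushforward f').obj N).val.obj (.op V')).isModule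
  refine isBC_of_isPushout (M := Γ(M, f ⁻¹ᵁ V)) (M' := Γ(N, f' ⁻¹ᵁ V'))
    (isPushout_appLE h hV hV' e) ?_ ?_ h3
  · intro r x
    rw [Scheme.Hom.appLE_eq_app]
    rfl
  · intro r x
    rw [Scheme.Hom.appLE_eq_app]
    rfl

theorem nonempty_iso (h : IsPullback g' f' f g) [IsAffineHom f] (M : X.Modules)
    [M.IsQuasicoherent] :
    Nonempty ((Scheme.Modules.pullback g).obj ((pushforward f).obj M) ≅
      (pushforward f').obj ((Scheme.Modules.pullback g').obj M)) := by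
  obtain ⟨e, -⟩ := (isUniv_pbUnit g ((pushforward f).obj M)).exists_iso
    (isUniv_pushSquare h (pbUnit g' M) (isUniv_pbUnit g' M))
  exact ⟨e⟩

end Groth.Agent.CohqA.AffineBaseChange
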