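import Groth.Agent.Fdesc.AssPoints
import Groth.Agent.Ega1.SubSheaf
import Groth.Agent.Ega1.QCohLoc
import Groth.Agent.Ega1.ReducedSub

/-!
# Associated points of quasi-coherent modules and injectivity of restriction maps
-/

universe u

open CategoryTheory CategoryTheory.Limits AlgebraicGeometry TopologicalSpace Opposite

namespace Groth.Agent.CohqA.AssInj

open AlgebraicGeometry.Scheme.Modules Groth.Agent.Ega1

variable {X : Scheme.{u}}

section

variable [IsLocallyNoetherian X] {M : X.Modules} (hM : Coh.IsQCoh M)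

include hM

/-- A nonzero section over an affine open has an associated point where its annihilator vanishes. -/
theorem exists_mem_ass {U : X.Opens} (hU : IsAffineOpen U) (s : Γ(M, U)) (hs : s ≠ 0) :
    ∃ (x : X) (_ : x ∈ U), x ∈ AssSch.Ass M ∧ ∀ a : Γ(X, U), a • s = 0 → x ∉ X.basicOpen a := by
  have : IsNoetherianRing Γ(X, U) := IsLocallyNoetherian.component_noetherian ⟨U, hU⟩
  obtain ⟨P, hP, hle⟩ := exists_le_isAssociatedPrime_of_isNoetherianRing Γ(X, U) s hs
  have := hP.isPrime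
  obtain ⟨x, hx, hxP⟩ := Fdesc.AssPoints.exists_primeIdealOf_eq hU P
  refine ⟨x, hx, ?_, fun a ha => ?_⟩
  · rw [Fdesc.AssPoints.mem_Ass_iff M hU hM x hx, hxP]
    exact hP
  · rw [Fdesc.QCohStalk.mem_basicOpen_iff hU x hx a, hxP, not_not]
    exact hle (Submodule.mem_colon_singleton.mpr (by simpa using ha))

/-- If a point of `U` is associated, there is a section over `U` with annihilator the prime of the
point. -/
theorem exists_section_of_mem_ass {U : X.Opens} (hU : IsAffineOpen U) (x : X) (hx : x ∈ U)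
    (h : x ∈ AssSch.Ass M) : ∃ m : Γ(M, U), ∀ a : Γ(X, U), a • m = 0 ↔ x ∉ X.basicOpen a := by
  have : IsNoetherianRing Γ(X, U) := IsLocallyNoetherian.component_noetherian ⟨U, hU⟩
  rw [Fdesc.AssPoints.mem_Ass_iff M hU hM x hx] at h
  obtain ⟨-, m, hm⟩ := isAssociatedPrime_iff.mp h
  refine ⟨m, fun a => ?_⟩
  rw [Fdesc.QCohStalk.mem_basicOpen_iff hU x hx a, hm, not_not, Submodule.mem_colon_singleton]
  simp

/-- Sections of `M` over `V` vanishing on an open subset which contains all associated points of `M`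
in `V` are zero. -/
theorem res_injective {V V' : X.Opens} (h : V' ≤ V) (hA : ∀ x ∈ AssSch.Ass M, x ∈ V → x ∈ V') :
    Function.Injective (SubSheaf.res M h) := by
  rw [injective_iff_map_eq_zero]
  intro s hs
  refine SubSheaf.section_ext M _ _ fun y hy => ?_
  obtain ⟨W, hW, hyW, hWV⟩ := Opens.isBasis_iff_nbhd.mp X.isBasis_affineOpens hy
  refine ⟨W, hWV, hyW, ?_⟩
  rw [map_zero]
  by_contra hne
  obtain ⟨x, hxW, hxA, hx⟩ := exists_mem_ass hM hW _ hne
  obtain ⟨f, hf, hxf⟩ := hW.exists_basicOpen_le ⟨x, hA x hxA (hWV hxW)⟩ hxW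
  have h1 : QCohLoc.res M (X.basicOpen_le f) (SubSheaf.res M hWV s) = 0 := by
    have h2 : QCohLoc.res M (X.basicOpen_le f) (SubSheaf.res M hWV s) =
        SubSheaf.res M hf (SubSheaf.res M h s) :=
      (SubSheaf.res_res M hWV (X.basicOpen_le f) s).trans (SubSheaf.res_res M h hf s).symm
    rw [h2, hs, map_zero]
  obtain ⟨n, hn⟩ := (QCohLoc.isLocAt_of_isQCoh hM hW f).inj _ h1
  refine hx (f ^ n) hn ?_
  rcases Nat.eq_zero_or_pos n with rfl | h0
  · rw [pow_zero]
    simpa using hxW
  · rwa [X.basicOpen_pow _ h0]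

/-- a nonzero quasi-coherent module has an associated point. -/
theorem exists_mem_ass_of_not_isZero (h0 : ¬ IsZero M) : ∃ x, x ∈ AssSch.Ass M := by
  by_contra hne
  push Not at hne
  apply h0
  rw [IsZero.iff_id_eq_zero]
  ext U s
  have : SubSheaf.res M (bot_le : (⊥ : X.Opens) ≤ U) s = SubSheaf.res M (bot_le : ⊥ ≤ U) 0 :=
    SubSheaf.section_ext M _ _ fun x hx => absurd hx (by simp)
  exact res_injective hM _ (fun x hx => absurd hx (hne x)) this

end

theorem ass_subset_of_mono [IsLocallyNoetherian X] {M N : X.Modules} (hM : Coh.IsQCoh M)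
    (hN : Coh.IsQCoh N) (f : N ⟶ M) [Mono f] : AssSch.Ass N ⊆ AssSch.Ass M := by
  intro x hx
  obtain ⟨U, hU, hxU, -⟩ := Opens.isBasis_iff_nbhd.mp X.isBasis_affineOpens
    (show x ∈ (⊤ : X.Opens) from trivial)
  have hf := (SubSheaf.mono_iff_injective f).mp inferInstance U
  rw [Fdesc.AssPoints.mem_Ass_iff N hU hN x hxU] at hx
  rw [Fdesc.AssPoints.mem_Ass_iff M hU hM x hxU]
  exact hx.map_of_injective
    { toFun := f.app U
      map_add' := map_add _
      map_smul' := fun r s => SubSheaf.app_smul' f r s } hf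

/-- Quasi-coherence of a submodule of a quasi-coherent module. -/
theorem isQCoh_toModules {M : X.Modules} (hM : Coh.IsQCoh M) (N : SubSheaf.Sub M)
    (h : ∀ (V : X.Opens), IsAffineOpen V → ∀ (f : Γ(X, V)) (s : Γ(M, V)),
      SubSheaf.res M (X.basicOpen_le f) s ∈ N.obj (X.basicOpen f) → ∃ n : ℕ, f ^ n • s ∈ N.obj V) :
    Coh.IsQCoh N.toModules := by
  refine QCohLoc.isQCoh_of_isLocOnAffines _ fun V hV f => ?_
  have hloc := QCohLoc.isLocAt_of_isQCoh hM hV f
  constructor
  · intro s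
    obtain ⟨n, t, ht⟩ := hloc.surj (N.ι.app _ s)
    have ht' : SubSheaf.res M (X.basicOpen_le f) t ∈ N.obj (X.basicOpen f) := by
      have : SubSheaf.res M (X.basicOpen_le f) t = _ := ht
      rw [this]
      exact (N.obj _).smul_mem _ (N.ι_app_mem s)
    obtain ⟨m, hm⟩ := h V hV f t ht'
    refine ⟨m + n, N.sec (f ^ m • t) hm, ?_⟩
    apply N.ι_app_injective
    have h1 : N.ι.app (X.basicOpen f) (QCohLoc.res N.toModules (X.basicOpen_le f)
        (N.sec (f ^ m • t) hm)) = QCohLoc.res M (X.basicOpen_le f) (f ^ m • t) :=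
      SubSheaf.app_res N.ι (X.basicOpen_le f) _
    rw [h1, SubSheaf.app_smul']
    have h2 : QCohLoc.res M (X.basicOpen_le f) (f ^ m • t) =
        QCohLoc.resO (X.basicOpen_le f) (f ^ m) • QCohLoc.res M (X.basicOpen_le f) t :=
      SubSheaf.res_smul M (X.basicOpen_le f) _ _
    rw [h2, ht, smul_smul, map_pow, ← pow_add]
  · intro t ht
    have h1 : QCohLoc.res M (X.basicOpen_le f) (N.ι.app V t) = 0 := by
      have h2 : N.ι.app (X.basicOpen f) (QCohLoc.res N.toModules (X.basicOpen_le f) t) =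
        QCohLoc.res M (X.basicOpen_le f) (N.ι.app V t) :=
        SubSheaf.app_res N.ι (X.basicOpen_le f) _
      rw [← h2, ht, map_zero]
    obtain ⟨n, hn⟩ := hloc.inj _ h1
    refine ⟨n, N.ι_app_injective V ?_⟩
    rw [SubSheaf.app_smul', hn, map_zero]

end Groth.Agent.CohqA.AssInj
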