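import Groth.Agent.CohqA.AssSub
import Groth.Agent.PerfA.CohSerre

/-!
# Coherent modules contain push-forwards of ideals of integral closed subschemes
-/

universe u

open CategoryTheory CategoryTheory.Limits AlgebraicGeometry TopologicalSpace Opposite

namespace Groth.Agent.CohqA.AssNum

open AlgebraicGeometry.Scheme.Modules Groth.Agent.Ega1 Groth.Agent.CohqA.AssInj

variable {X : Scheme.{u}}

/-- sections of the structure module are functions. -/
def fn {V : X.Opens} (a : Γ(Coh.structureModule X, V)) : Γ(X, V) := a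

/-- functions are sections of the structure module. -/
def toSec {V : X.Opens} (a : Γ(X, V)) : Γ(Coh.structureModule X, V) := a

theorem fn_toSec {V : X.Opens} (a : Γ(X, V)) : fn (toSec a) = a := rfl

theorem toSec_fn {V : X.Opens} (a : Γ(Coh.structureModule X, V)) : toSec (fn a) = a := rfl

theorem fn_add {V : X.Opens} (a b : Γ(Coh.structureModule X, V)) : fn (a + b) = fn a + fn b := rfl

theorem fn_zero {V : X.Opens} : fn (0 : Γ(Coh.structureModule X, V)) = 0 := rfl

theorem fn_smul {V : X.Opens} (r : Γ(X, V)) (a : Γ(Coh.structureModule X, V)) :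
    fn (r • a) = r * fn a := rfl

theorem fn_res {V W : X.Opens} (h : W ≤ V) (a : Γ(Coh.structureModule X, V)) :
    fn (SubSheaf.res _ h a) = QCohLoc.resO h (fn a) := rfl

theorem resO_resO {V W T : X.Opens} (h : W ≤ V) (h' : T ≤ W) (a : Γ(X, V)) :
    QCohLoc.resO h' (QCohLoc.resO h a) = QCohLoc.resO (h'.trans h) a := by
  change (X.presheaf.map _ ≫ X.presheaf.map _).hom a = _
  rw [← Functor.map_comp]
  rfl

section num

variable (Q : X.Modules) {U : X.Opens} (m : Γ(Q, U))

/-- `a` is a numerator: `a • m` extends from `V ⊓ U` to `V`. -/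
def IsNum {V : X.Opens} (a : Γ(X, V)) (q : Γ(Q, V)) : Prop :=
  SubSheaf.res Q (inf_le_left : V ⊓ U ≤ V) q =
    QCohLoc.resO (inf_le_left : V ⊓ U ≤ V) a • SubSheaf.res Q (inf_le_right : V ⊓ U ≤ U) m

variable {Q m}

theorem IsNum.res {V W : X.Opens} (h : W ≤ V) {a : Γ(X, V)} {q : Γ(Q, V)} (H : IsNum Q m a q) :
    IsNum Q m (QCohLoc.resO h a) (SubSheaf.res Q h q) := by
  have h1 := congrArg (SubSheaf.res Q (inf_le_inf_right U h)) H
  rw [SubSheaf.res_smul, SubSheaf.res_res, SubSheaf.res_res] at h1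
  unfold IsNum
  rw [SubSheaf.res_res, h1, resO_resO]
  congr 1
  exact resO_resO _ _ _

theorem IsNum.add {V : X.Opens} {a b : Γ(X, V)} {q r : Γ(Q, V)} (H : IsNum Q m a q)
    (H' : IsNum Q m b r) : IsNum Q m (a + b) (q + r) := by
  unfold IsNum at *
  rw [map_add, map_add, H, H', add_smul]

theorem IsNum.smul {V : X.Opens} {a b : Γ(X, V)} {q : Γ(Q, V)} (H : IsNum Q m a q) :
    IsNum Q m (b * a) (b • q) := by
  unfold IsNum at *
  rw [SubSheaf.res_smul, H, map_mul, mul_smul]
  rfl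

theorem IsNum.zero {V : X.Opens} : IsNum Q m (0 : Γ(X, V)) (0 : Γ(Q, V)) := by
  unfold IsNum
  rw [map_zero, map_zero, zero_smul]

theorem IsNum.of_local {V : X.Opens} {a : Γ(X, V)} {q : Γ(Q, V)}
    (h : ∀ x ∈ V, ∃ (W : X.Opens) (hW : W ≤ V), x ∈ W ∧
      IsNum Q m (QCohLoc.resO hW a) (SubSheaf.res Q hW q)) : IsNum Q m a q := by
  unfold IsNum
  refine SubSheaf.section_ext Q _ _ fun x hx => ?_
  obtain ⟨W, hW, hxW, h'⟩ := h x hx.1
  refine ⟨W ⊓ U, inf_le_inf_right U hW, ⟨hxW, hx.2⟩, ?_⟩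
  unfold IsNum at h'
  rw [SubSheaf.res_smul, SubSheaf.res_res, SubSheaf.res_res]
  rw [SubSheaf.res_res, resO_resO] at h'
  rw [h']
  congr 1
  exact (resO_resO _ _ _).symm

variable [IsLocallyNoetherian X] (hQ : Coh.IsQCoh Q) (hA : ∀ x ∈ AssSch.Ass Q, x ∈ U)

include hQ hA

theorem IsNum.eq {V : X.Opens} {a : Γ(X, V)} {q r : Γ(Q, V)} (H : IsNum Q m a q)
    (H' : IsNum Q m a r) : q = r := by
  refine res_injective hQ (inf_le_left : V ⊓ U ≤ V) (fun x hx hxV => ⟨hxV, hA x hx⟩) ?_
  exact H.trans H'.symm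

/-- The sheaf of numerators. -/
noncomputable def num : SubSheaf.Sub (Coh.structureModule X) where
  obj V :=
    { carrier := {a | ∃ q : Γ(Q, V), IsNum Q m (fn a) q}
      add_mem' := by
        rintro a b ⟨q, hq⟩ ⟨r, hr⟩
        exact ⟨q + r, hq.add hr⟩
      zero_mem' := ⟨0, IsNum.zero⟩
      smul_mem' := by
        rintro b a ⟨q, hq⟩
        exact ⟨b • q, hq.smul⟩ }
  map_mem := by
    rintro V W h a ⟨q, hq⟩
    exact ⟨SubSheaf.res Q h q, hq.res h⟩
  local_mem := by
    intro V a h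
    choose W hW hxW q hq using h
    obtain ⟨T, hT⟩ := SubSheaf.exists_glue Q (U := V) (fun x : {x : X // x ∈ V} => W x.1 x.2)
      (fun x => hW x.1 x.2) (fun x hx => ⟨⟨x, hx⟩, hxW x hx⟩) (fun x => q x.1 x.2) (fun x y => by
        refine IsNum.eq hQ hA ((hq x.1 x.2).res inf_le_left) ?_
        have h1 := ((hq y.1 y.2).res (inf_le_right : W x.1 x.2 ⊓ W y.1 y.2 ≤ _))
        rw [fn_res, resO_resO] at h1 ⊢
        exact h1)
    refine ⟨T, IsNum.of_local fun x hx => ⟨W x hx, hW x hx, hxW x hx, ?_⟩⟩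
    rw [hT ⟨x, hx⟩]
    exact hq x hx

omit hQ hA in
theorem isCompact_inf {V : X.Opens} (hV : IsAffineOpen V) (U : X.Opens) :
    IsCompact ((V ⊓ U : X.Opens) : Set X) := by
  have : IsNoetherianRing Γ(X, V) := IsLocallyNoetherian.component_noetherian ⟨V, hV⟩
  have : NoetherianSpace V := noetherianSpace_of_isAffineOpen V hV
  have h2 := NoetherianSpace.isCompact (V.ι ⁻¹' (U : Set X))
  have h3 := h2.image V.ι.continuous
  rw [Set.image_preimage_eq_inter_range, Scheme.Opens.range_ι] at h3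
  rw [inf_comm]
  exact h3

theorem isQCoh_num : Coh.IsQCoh (num hQ hA (m := m)).toModules := by
  refine isQCoh_toModules (PerfA.QCohSerre.isQCoh_unit X) _ fun V hV f a ha => ?_
  obtain ⟨q, hq⟩ := ha
  obtain ⟨n, r, hr⟩ := (QCohLoc.isLocAt_of_isQCoh hQ hV f).surj q
  have hc := isCompact_inf hV U
  -- compare `r` and `f ^ n • a • m` on `V ⊓ U`
  have h1 : IsNum Q m (fn (SubSheaf.res _ (X.basicOpen_le f) (f ^ n • a)))
      (QCohLoc.res Q (X.basicOpen_le f) r) := by
    rw [hr, SubSheaf.res_smul]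
    have h2 := hq.smul (b := QCohLoc.resO (X.basicOpen_le f) f ^ n)
    rw [← map_pow] at h2 ⊢
    exact h2
  rw [fn_res] at h1
  unfold IsNum at h1
  obtain ⟨k, hk⟩ := QCohLoc.inj_of_isCompact (QCohLoc.isLocOnAffines_of_isQCoh Q hQ) hc
    (QCohLoc.resO inf_le_left f) (SubSheaf.res Q (inf_le_left : V ⊓ U ≤ V) r -
      QCohLoc.resO (inf_le_left : V ⊓ U ≤ V) (fn (f ^ n • a)) •
        SubSheaf.res Q (inf_le_right : V ⊓ U ≤ U) m)
    (W := X.basicOpen f ⊓ U) (by
      rw [QCohLoc.basicOpen_resO]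
      apply le_antisymm
      · exact le_inf (inf_le_inf_right U (X.basicOpen_le f)) inf_le_left
      · exact le_inf inf_le_right (inf_le_left.trans inf_le_right))
    (inf_le_inf_right U (X.basicOpen_le f))
    (by
      rw [map_sub, sub_eq_zero]
      refine (SubSheaf.res_res Q _ _ r).trans ?_
      refine ((SubSheaf.res_res Q _ _ r).symm.trans h1).trans ?_
      symm
      refine (SubSheaf.res_smul Q (inf_le_inf_right U (X.basicOpen_le f)) _ _).trans ?_
      rw [SubSheaf.res_res]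
      congr 1
      exact (resO_resO _ _ _).trans (resO_resO _ _ _).symm)
  rw [smul_sub, sub_eq_zero] at hk
  refine ⟨k + n, f ^ k • r, ?_⟩
  unfold IsNum
  rw [SubSheaf.res_smul, pow_add, mul_smul, fn_smul, map_mul, mul_smul]
  rw [← map_pow] at hk
  exact hk

/-- The map from numerators to `Q`. -/
noncomputable def toQ : (num hQ hA (m := m)).toModules ⟶ Q :=
  SubSheaf.homMk (fun V => AddMonoidHom.mk' (fun a => ((num hQ hA (m := m)).ι_app_mem a).choose)
    (fun a b => by
      refine IsNum.eq (m := m) hQ hA ((num hQ hA (m := m)).ι_app_mem (a + b)).choose_spec ?_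
      rw [map_add, fn_add]
      exact ((num hQ hA (m := m)).ι_app_mem a).choose_spec.add
        ((num hQ hA (m := m)).ι_app_mem b).choose_spec))
    (fun V W h a => by
      refine IsNum.eq (m := m) hQ hA ((num hQ hA (m := m)).ι_app_mem (SubSheaf.res _ h a)).choose_spec ?_
      rw [SubSheaf.app_res, fn_res]
      exact ((num hQ hA (m := m)).ι_app_mem a).choose_spec.res h)
    (fun V r a => by
      refine IsNum.eq (m := m) hQ hA ((num hQ hA (m := m)).ι_app_mem (r • a)).choose_spec ?_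
      rw [SubSheaf.app_smul', fn_smul]
      exact ((num hQ hA (m := m)).ι_app_mem a).choose_spec.smul)

theorem toQ_spec {V : X.Opens} (a : Γ((num hQ hA (m := m)).toModules, V)) :
    IsNum Q m (fn ((num hQ hA (m := m)).ι.app V a)) ((toQ hQ hA).app V a) :=
  ((num hQ hA (m := m)).ι_app_mem a).choose_spec

theorem toQ_eq_zero_iff {V : X.Opens} (a : Γ((num hQ hA (m := m)).toModules, V)) :
    (toQ hQ hA).app V a = 0 ↔ QCohLoc.resO (inf_le_left : V ⊓ U ≤ V)
      (fn ((num hQ hA (m := m)).ι.app V a)) • SubSheaf.res Q (inf_le_right : V ⊓ U ≤ U) m = 0 := by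
  have h := toQ_spec hQ hA a
  unfold IsNum at h
  rw [← h]
  constructor
  · intro h0
    rw [h0, map_zero]
  · intro h0
    exact res_injective hQ (inf_le_left : V ⊓ U ≤ V) (fun x hx hxV => ⟨hxV, hA x hx⟩)
      (h0.trans (map_zero _).symm)

end num

end Groth.Agent.CohqA.AssNum
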