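import Groth.Agent.CohqA.ClosedPush
import Groth.Agent.Ega1.SubSheaf
import Groth.Agent.Ega1.QCohLoc

/-!
# Submodules of push-forwards along a closed immersion
-/

universe u

open CategoryTheory CategoryTheory.Limits AlgebraicGeometry TopologicalSpace Opposite

namespace Groth.Agent.CohqA.ClosedSub

open AlgebraicGeometry.Scheme.Modules Groth.Agent.CohqA.ClosedPush Groth.Agent.Ega1

variable {Z X : Scheme.{u}} (i : Z ⟶ X) [IsClosedImmersion i]

theorem le_ext {V : Z.Opens} {W : X.Opens} (h : i ⁻¹ᵁ W ≤ V) : W ≤ ext i V :=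
  (le_ext_preimage i W).trans (ext_mono i h)

/-- The complement of the closed subset. -/
def away : X.Opens := ⟨(Set.range i)ᶜ, i.isClosedEmbedding.isClosed_range.isOpen_compl⟩

theorem preimage_away_le (W : X.Opens) (hW : W ≤ away i) (V : Z.Opens) : i ⁻¹ᵁ W ≤ V := by
  intro z hz
  exact absurd ⟨z, rfl⟩ (hW hz)

theorem subsingleton_of_le_bot (G : Z.Modules) {V : Z.Opens} (hV : V ≤ ⊥) :
    Subsingleton Γ(G, V) := by
  refine ⟨fun s t => eq_of_forall_mem G s t fun x hx => absurd (hV hx) (by simp)⟩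

section

variable {G : Z.Modules} {K : X.Modules} (k : K ⟶ (pushforward i).obj G)

/-- the predicate defining the submodule. -/
def P (V : Z.Opens) (s : Γ(G, V)) : Prop :=
  ∃ t : Γ(K, ext i V), k.app (ext i V) t = SubSheaf.res G (preimage_ext i V).le s

theorem P.exists {V : Z.Opens} {s : Γ(G, V)} (h : P i k V s) (W : X.Opens) (hW : i ⁻¹ᵁ W ≤ V) :
    ∃ t : Γ(K, W), k.app W t = SubSheaf.res G hW s := by
  obtain ⟨t, ht⟩ := h
  refine ⟨SubSheaf.res K (le_ext i hW) t, ?_⟩
  rw [SubSheaf.app_res, ht]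
  exact SubSheaf.res_res G _ _ s

theorem P.of_forall [Mono k] {V : Z.Opens} {s : Γ(G, V)}
    (h : ∀ z ∈ V, ∃ (W : X.Opens) (hW : i ⁻¹ᵁ W ≤ V) (t : Γ(K, W)), i z ∈ W ∧
      k.app W t = SubSheaf.res G hW s) : P i k V s := by
  have hk := (SubSheaf.mono_iff_injective k).mp inferInstance
  have H : ∀ x : {x : X // x ∈ ext i V}, ∃ (W : X.Opens) (hW : i ⁻¹ᵁ W ≤ V) (t : Γ(K, W)),
      x.1 ∈ W ∧ k.app W t = SubSheaf.res G hW s := by
    rintro ⟨x, hx⟩
    by_cases hxr : x ∈ Set.range i
    · obtain ⟨z, rfl⟩ := hxr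
      exact h z ((mem_ext i V _).mp hx z rfl)
    · refine ⟨away i, preimage_away_le i _ le_rfl _, 0, hxr, ?_⟩
      have := subsingleton_of_le_bot G (preimage_away_le i (away i) le_rfl ⊥)
      exact Subsingleton.elim (α := Γ(G, i ⁻¹ᵁ (away i))) _ _
  choose W hW t hxW ht using H
  obtain ⟨T, hT⟩ := SubSheaf.exists_glue K (U := ext i V) W (fun x => le_ext i (hW x))
    (fun x hx => ⟨⟨x, hx⟩, hxW ⟨x, hx⟩⟩) t (fun x y => by
      apply hk
      rw [SubSheaf.app_res, SubSheaf.app_res, ht, ht]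
      refine (SubSheaf.res_res G _ _ s).trans (SubSheaf.res_res G _ _ s).symm)
  refine ⟨T, ?_⟩
  refine SubSheaf.section_ext ((pushforward i).obj G) _ _ fun x hx => ?_
  refine ⟨W ⟨x, hx⟩, le_ext i (hW ⟨x, hx⟩), hxW ⟨x, hx⟩, ?_⟩
  rw [← SubSheaf.app_res, hT, ht]
  exact (SubSheaf.res_res G _ _ s).symm

/-- The sub-`O_Z`-module of `G` attached to a morphism `K ⟶ i_* G`: the sections of `G` over `V`
which, as sections of `i_* G` over the largest open with trace `V`, come from `K`. -/
noncomputable def sub [Mono k] : SubSheaf.Sub G where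
  obj V :=
    { carrier := {s | P i k V s}
      add_mem' := by
        rintro a b ⟨s, hs⟩ ⟨t, ht⟩
        exact ⟨s + t, by rw [map_add, map_add, hs, ht]; rfl⟩
      zero_mem' := ⟨0, by rw [map_zero, map_zero]; rfl⟩
      smul_mem' := by
        intro r s h
        refine P.of_forall i k fun z hz => ?_
        obtain ⟨W, hW, a, hzW, ha⟩ := exists_local_lift i V r z hz
        obtain ⟨t, ht⟩ := h.exists i k W hW
        refine ⟨W, hW, a • t, hzW, ?_⟩
        rw [SubSheaf.app_smul', ht, SubSheaf.res_smul, ← ha]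
        rfl }
  map_mem := by
    intro V V' h s hs
    refine P.of_forall i k fun z hz => ?_
    obtain ⟨t, ht⟩ := P.exists i k hs (ext i V') ((preimage_ext i V').le.trans h)
    refine ⟨ext i V', (preimage_ext i V').le, t, (preimage_ext i V').ge hz, ?_⟩
    rw [ht, SubSheaf.res_res]
  local_mem := by
    intro V s h
    refine P.of_forall i k fun z hz => ?_
    obtain ⟨V', hV', hz', h'⟩ := h z hz
    obtain ⟨t, ht⟩ := P.exists i k h' (ext i V') (preimage_ext i V').le
    refine ⟨ext i V', (preimage_ext i V').le.trans hV', t, (preimage_ext i V').ge hz', ?_⟩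
    rw [ht, SubSheaf.res_res]

theorem mem_sub [Mono k] {V : Z.Opens} (s : Γ(G, V)) : s ∈ (sub i k).obj V ↔ P i k V s := Iff.rfl

end

/-- A submodule of `i_* G` is `i_* G'` for a submodule `G'` of `G`. -/
theorem exists_sub_of_mono {G : Z.Modules} {K : X.Modules} (k : K ⟶ (pushforward i).obj G)
    [Mono k] : ∃ (G' : Z.Modules) (ι : G' ⟶ G) (_ : Mono ι) (e : K ≅ (pushforward i).obj G'),
      e.hom ≫ (pushforward i).map ι = k := by
  have : Mono ((pushforward i).map (sub i k).ι) := inferInstance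
  have h1 : ∀ (W : X.Opens) (s : Γ(K, W)),
      ∃ t, ((pushforward i).map (sub i k).ι).app W t = k.app W s := by
    intro W s
    have hs : P i k (i ⁻¹ᵁ W) (k.app W s) := by
      refine P.of_forall i k fun z hz => ⟨W, le_rfl, s, hz, ?_⟩
      exact (SubSheaf.res_self G le_rfl _).symm
    exact ⟨(sub i k).sec (k.app W s) hs, rfl⟩
  have h2 : ∀ (W : X.Opens) (s : Γ((pushforward i).obj (sub i k).toModules, W)),
      ∃ t, k.app W t = ((pushforward i).map (sub i k).ι).app W s := by
    intro W s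
    have hs := (sub i k).ι_app_mem (U := i ⁻¹ᵁ W) s
    obtain ⟨t, ht⟩ := P.exists i k ((mem_sub i k _).mp hs) W le_rfl
    exact ⟨t, ht.trans (SubSheaf.res_self G le_rfl _)⟩
  obtain ⟨e, he⟩ := SubSheaf.exists_iso k ((pushforward i).map (sub i k).ι) h1 h2
  exact ⟨(sub i k).toModules, (sub i k).ι, inferInstance, e, he⟩

/-- Quasi-coherence can be checked after push-forward along a closed immersion. -/
theorem isQCoh_of_isQCoh_pushforward (G : Z.Modules)
    (h : Coh.IsQCoh ((pushforward i).obj G)) : Coh.IsQCoh G := by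
  refine QCohLoc.isQCoh_of_forall_exists G fun z => ?_
  obtain ⟨W, hW, hzW, -⟩ := Opens.isBasis_iff_nbhd.mp X.isBasis_affineOpens
    (show i z ∈ (⊤ : X.Opens) from trivial)
  refine ⟨i ⁻¹ᵁ W, hzW, hW.preimage i, fun f => ?_⟩
  obtain ⟨a, rfl⟩ := i.app_surjective W hW f
  have hloc := QCohLoc.isLocAt_of_isQCoh h hW a
  have e : i ⁻¹ᵁ X.basicOpen a = Z.basicOpen (i.app W a) := Scheme.preimage_basicOpen i a
  constructor
  · intro s
    obtain ⟨n, t, ht⟩ := hloc.surj (SubSheaf.res G e.le s)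
    refine ⟨n, t, ?_⟩
    have h1 := congrArg (SubSheaf.res G e.ge) ht
    have h2 : SubSheaf.res G e.ge (QCohLoc.res ((pushforward i).obj G) (X.basicOpen_le a) t) =
        QCohLoc.res G (Z.basicOpen_le (i.app W a)) t :=
      SubSheaf.res_res G (i.preimage_mono (X.basicOpen_le a)) _ t
    rw [h2] at h1
    rw [h1]
    have h3 : SubSheaf.res G e.ge ((QCohLoc.resO (X.basicOpen_le a) a ^ n) •
        (show Γ((pushforward i).obj G, X.basicOpen a) from SubSheaf.res G e.le s)) =
        SubSheaf.res G e.ge ((i.app (X.basicOpen a) (QCohLoc.resO (X.basicOpen_le a) a ^ n)) •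
        (show Γ(G, i ⁻¹ᵁ X.basicOpen a) from SubSheaf.res G e.le s)) := rfl
    refine h3.trans ?_
    rw [SubSheaf.res_smul, SubSheaf.res_res, SubSheaf.res_self]
    congr 1
    have h4 : i.app (X.basicOpen a) (QCohLoc.resO (X.basicOpen_le a) a) =
        Z.presheaf.map (homOfLE (i.preimage_mono (X.basicOpen_le a))).op (i.app W a) :=
      congr($(i.naturality (homOfLE (X.basicOpen_le a)).op) a)
    rw [map_pow, map_pow, h4, ← Z.presheaf.map_comp_apply]
    rfl
  · intro t ht
    have h1 : QCohLoc.res ((pushforward i).obj G) (X.basicOpen_le a) t = 0 := by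
      have h2 := congrArg (SubSheaf.res G e.le) ht
      rw [map_zero] at h2
      refine Eq.trans ?_ h2
      exact (SubSheaf.res_res G _ _ t).symm
    obtain ⟨n, hn⟩ := hloc.inj t h1
    refine ⟨n, ?_⟩
    rw [← map_pow]
    exact hn

end Groth.Agent.CohqA.ClosedSub
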