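import Groth.Agent.CohqA.AssInj
import Groth.Agent.CohqA.ClosedSub

/-!
# Sections with support in a closed set; extension of a multiple of a section
-/

universe u

open CategoryTheory CategoryTheory.Limits AlgebraicGeometry TopologicalSpace Opposite

namespace Groth.Agent.CohqA.AssSub

open AlgebraicGeometry.Scheme.Modules Groth.Agent.Ega1 Groth.Agent.CohqA.AssInj

variable {X : Scheme.{u}}

/-- The submodule of sections vanishing on the open set `U`. -/
noncomputable def vanish (M : X.Modules) (U : X.Opens) : SubSheaf.Sub M where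
  obj V :=
    { carrier := {s | SubSheaf.res M (inf_le_left : V ⊓ U ≤ V) s = 0}
      add_mem' := by
        intro a b ha hb
        change SubSheaf.res M _ (a + b) = 0
        rw [map_add, ha, hb, add_zero]
      zero_mem' := map_zero _
      smul_mem' := by
        intro r s hs
        change SubSheaf.res M _ (r • s) = 0
        rw [SubSheaf.res_smul, hs, smul_zero] }
  map_mem := by
    intro V V' h s hs
    change SubSheaf.res M _ (SubSheaf.res M h s) = 0
    have hs' : SubSheaf.res M (inf_le_left : V ⊓ U ≤ V) s = 0 := hs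
    rw [SubSheaf.res_res, ← SubSheaf.res_res M (inf_le_left : V ⊓ U ≤ V)
      (inf_le_inf_right U h) s, hs', map_zero]
  local_mem := by
    intro V s h
    change SubSheaf.res M _ s = 0
    refine SubSheaf.section_ext M _ _ fun x hx => ?_
    obtain ⟨V', hV', hxV', h'⟩ := h x hx.1
    have h'' : SubSheaf.res M (inf_le_left : V' ⊓ U ≤ V') (SubSheaf.res M hV' s) = 0 := h'
    refine ⟨V' ⊓ U, inf_le_inf_right U hV', ⟨hxV', hx.2⟩, ?_⟩
    rw [map_zero, SubSheaf.res_res]
    rw [SubSheaf.res_res] at h''
    exact h''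

theorem mem_vanish {M : X.Modules} {U V : X.Opens} {s : Γ(M, V)} :
    s ∈ (vanish M U).obj V ↔ SubSheaf.res M (inf_le_left : V ⊓ U ≤ V) s = 0 := Iff.rfl

theorem isQCoh_vanish [IsLocallyNoetherian X] {M : X.Modules} (hM : Coh.IsQCoh M) (U : X.Opens) :
    Coh.IsQCoh (vanish M U).toModules := by
  refine isQCoh_toModules hM _ fun V hV f s hs => ?_
  rw [mem_vanish, SubSheaf.res_res] at hs
  have : IsNoetherianRing Γ(X, V) := IsLocallyNoetherian.component_noetherian ⟨V, hV⟩
  have hc : IsCompact ((V ⊓ U : X.Opens) : Set X) := by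
    have : NoetherianSpace V := noetherianSpace_of_isAffineOpen V hV
    have h2 := NoetherianSpace.isCompact (V.ι ⁻¹' (U : Set X))
    have h3 := h2.image V.ι.continuous
    rw [Set.image_preimage_eq_inter_range, Scheme.Opens.range_ι] at h3
    rw [inf_comm]
    exact h3
  have h2 := QCohLoc.inj_of_isCompact (QCohLoc.isLocOnAffines_of_isQCoh M hM) hc
    (QCohLoc.resO inf_le_left f) (SubSheaf.res M (inf_le_left : V ⊓ U ≤ V) s)
    (W := X.basicOpen f ⊓ U) (by
      rw [QCohLoc.basicOpen_resO]
      apply le_antisymm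
      · exact le_inf (inf_le_inf_right U (X.basicOpen_le f)) inf_le_left
      · exact le_inf inf_le_right (inf_le_left.trans inf_le_right))
    (inf_le_inf_right U (X.basicOpen_le f))
    ((SubSheaf.res_res M _ _ s).trans hs)
  obtain ⟨n, hn⟩ := h2
  refine ⟨n, ?_⟩
  rw [mem_vanish, SubSheaf.res_smul, map_pow]
  exact hn

/-- The support of the sections vanishing on `U`. -/
theorem ass_vanish [IsLocallyNoetherian X] {M : X.Modules} (hM : Coh.IsQCoh M) (U : X.Opens)
    (x : X) (hx : x ∈ AssSch.Ass (vanish M U).toModules) : x ∈ AssSch.Ass M ∧ x ∉ U := by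
  refine ⟨ass_subset_of_mono hM (isQCoh_vanish hM U) (vanish M U).ι hx, fun hxU => ?_⟩
  obtain ⟨W, hW, hxW, hWU⟩ := Opens.isBasis_iff_nbhd.mp X.isBasis_affineOpens hxU
  obtain ⟨m, hm⟩ := exists_section_of_mem_ass (isQCoh_vanish hM U) hW x hxW hx
  have h1 : m = 0 := by
    apply (vanish M U).ι_app_injective
    rw [map_zero]
    have h2 := mem_vanish.mp ((vanish M U).ι_app_mem m)
    have h3 : SubSheaf.res M (le_inf le_rfl hWU : W ≤ W ⊓ U)
      (SubSheaf.res M (inf_le_left : W ⊓ U ≤ W) ((vanish M U).ι.app W m)) =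
      (vanish M U).ι.app W m := by
      rw [SubSheaf.res_res, SubSheaf.res_self]
    rw [← h3, h2, map_zero]
  have h2 := (hm 1).mp (by rw [h1, smul_zero])
  apply h2
  rw [Scheme.basicOpen_one]
  exact hxW

end Groth.Agent.CohqA.AssSub
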