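import Groth.Agent.CohqA.DualBasisMap
import Groth.Prelude.Def_Coh
import Mathlib.RingTheory.Finiteness.Projective

/-!
# The dual basis maps over `Spec B ⟶ Spec A` for `B` finite projective over `A`
-/

set_option autoImplicit false
universe u

open CategoryTheory AlgebraicGeometry Limits Opposite TopologicalSpace AlgebraicGeometry.Scheme.Modules

namespace Groth.Agent.CohqA.DualBasisSpec

open Groth.Agent.CohqA.PullbackUniv Groth.Agent.CohqA.BaseChangeMod Groth.Agent.CohqA.PullbackAffine
  Groth.Agent.CohqA.PullbackSections Groth.Agent.CohqA.PullbackQCoh Groth.Agent.CohqA.BasisHom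
  Groth.Agent.CohqA.BaseChangePushout Groth.Agent.CohqA.DualBasisMap

/-- A finite projective module has a finite dual basis. -/
theorem exists_dualBasis_module (A B : Type u) [CommRing A] [AddCommGroup B] [Module A B]
    [Module.Finite A B] [Module.Projective A B] :
    ∃ (n : ℕ) (b : Fin n → B) (lam : Fin n → B →ₗ[A] A), ∀ x, ∑ j, lam j x • b j = x := by
  obtain ⟨n, f, g, hf, hg, hfg⟩ := Module.Finite.exists_comp_eq_id_of_projective A B
  refine ⟨n, fun j => f (Pi.single j 1), fun j => LinearMap.proj j ∘ₗ g, fun x => ?_⟩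
  have h1 : f (g x) = x := LinearMap.congr_fun hfg x
  have h2 : g x = ∑ j, g x j • (Pi.single j 1 : Fin n → A) := pi_eq_sum_univ' (g x)
  conv_rhs => rw [← h1, h2, map_sum]
  refine Finset.sum_congr rfl fun j _ => ?_
  rw [_root_.map_smul]
  rfl

/-- Scalars of `B` as functions on an open of a scheme over `Spec B`. -/
noncomputable def sc {B : Type u} [CommRing B] {X : Scheme.{u}} (p : X ⟶ Spec (CommRingCat.of B))
    (V : X.Opens) : B →+* Γ(X, V) :=
  (fn p V).comp (Scheme.ΓSpecIso (CommRingCat.of B)).inv.hom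

/-- The action of `sc` is the action used for `Coh.HH`. -/
lemma sc_smul {B : Type u} [CommRing B] {X : Scheme.{u}} (p : X ⟶ Spec (CommRingCat.of B))
    (N : X.Modules) (V : X.Opens) (t : B) (y : Γ(N, V)) :
    sc p V t • y = (Coh.smulAb N (Coh.toGlobal p t)).hom.app (op V) y := rfl

theorem exists_dualBasis_spec (A B : Type u) [CommRing A] [CommRing B] [Algebra A B]
    [Module.Finite A B] [Module.Projective A B] {X X' : Scheme.{u}}
    (p : X ⟶ Spec (CommRingCat.of A)) (p' : X' ⟶ Spec (CommRingCat.of B)) (g : X' ⟶ X)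
    (h : IsPullback g p' p (Spec.map (CommRingCat.ofHom (algebraMap A B))))
    {M : X.Modules} {N : X'.Modules} [M.IsQuasicoherent]
    (a : M ⟶ (pushforward g).obj N) (ha : IsUniv g a) :
    ∃ (n : ℕ) (b : Fin n → B) (lam : Fin n → B →ₗ[A] A)
      (φ : Fin n → ((pushforward g).obj N ⟶ M)),
      (∀ x, ∑ j, lam j x • b j = x) ∧
      (∀ (j : Fin n) (U : X.Opens) (t : B) (x : Γ(M, U)),
        (φ j).app U (sc p' (g ⁻¹ᵁ U) t • (show Γ(N, g ⁻¹ᵁ U) from a.app U x)) =
          sc p U (lam j t) • x) ∧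
      ∀ (U : X.Opens) (y : Γ(N, g ⁻¹ᵁ U)),
        ∑ j, sc p' (g ⁻¹ᵁ U) (b j) • (show Γ(N, g ⁻¹ᵁ U) from a.app U ((φ j).app U y)) = y := by
  obtain ⟨n, b, lam, hb⟩ := exists_dualBasis_module A B
  let eA := (Scheme.ΓSpecIso (CommRingCat.of A)).commRingCatIsoToRingEquiv
  let eB := (Scheme.ΓSpecIso (CommRingCat.of B)).commRingCatIsoToRingEquiv
  have hq : ∀ r, (Spec.map (CommRingCat.ofHom (algebraMap A B))).appTop r =
      eB.symm (algebraMap A B (eA r)) := by
    intro r
    have h1 := Scheme.ΓSpecIso_naturality (CommRingCat.ofHom (algebraMap A B))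
    have h2 := congr($h1 r)
    apply eB.injective
    rw [eB.apply_symm_apply]
    exact h2
  have key := exists_dualBasis a h ha (fun j => eB.symm (b j))
    (fun j => (eA.symm : A →+ _).comp ((lam j).toAddMonoidHom.comp (eB : _ →+ B))) ?_ ?_
  · obtain ⟨φ, h1, h2⟩ := key
    refine ⟨n, b, lam, φ, hb, fun j U t x => ?_, fun U y => h2 U y⟩
    have h3 := h1 j U (eB.symm t) x
    refine h3.trans ?_
    have h4 : eA.symm (lam j (eB (eB.symm t))) = eA.symm (lam j t) := by
      rw [eB.apply_symm_apply]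
    exact congrArg (fun z => fn p U z • x) h4
  · intro j r s
    change eA.symm (lam j (eB (_ * s))) = r * eA.symm (lam j (eB s))
    rw [hq, map_mul, eB.apply_symm_apply, ← Algebra.smul_def, _root_.map_smul, smul_eq_mul, map_mul,
      eA.symm_apply_apply]
  · intro t
    change ∑ j, (Spec.map (CommRingCat.ofHom (algebraMap A B))).appTop (eA.symm (lam j (eB t))) *
      eB.symm (b j) = t
    apply eB.injective
    rw [map_sum]
    conv_rhs => rw [← hb (eB t)]
    refine Finset.sum_congr rfl fun j _ => ?_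
    rw [hq, map_mul, eB.apply_symm_apply, eB.apply_symm_apply, eA.apply_symm_apply,
      Algebra.smul_def]

end Groth.Agent.CohqA.DualBasisSpec
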