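import Groth.Agent.CohqA.BCMain
import Groth.Agent.CohqA.DualBasisSpec

/-!
# Finite projective base change, on the level of the constant sheaf
-/

set_option autoImplicit false

open CategoryTheory Abelian Limits TensorProduct Opposite TopologicalSpace AlgebraicGeometry

universe u

namespace Groth.Agent.CohqA.BCDual

open Groth.Agent.CohqA.BCExt Groth.Agent.CohqA.BCMod Groth.Agent.CohqA.BCMain
open Groth.Agent.CohqA.DualBasisSpec Groth.Agent.CohqA.PullbackSections

variable {A B : Type u} [CommRing A] [CommRing B] [Algebra A B] {X Y : Scheme.{u}}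
  (f : X ⟶ Spec (CommRingCat.of A)) (f' : Y ⟶ Spec (CommRingCat.of B)) (g : Y ⟶ X)
  (M : X.Modules)

theorem sum_app {X : TopCat.{u}}
    {F G : Sheaf (Opens.grothendieckTopology X) AddCommGrpCat.{u}} {ι : Type*}
    (s : Finset ι) (t : ι → (F ⟶ G)) (U : Opens X) (y : F.obj.obj (op U)) :
    (∑ j ∈ s, t j).hom.app (op U) y = ∑ j ∈ s, (t j).hom.app (op U) y := by
  classical
  induction s using Finset.induction_on with
  | empty => rfl
  | insert a s ha ih =>
    rw [Finset.sum_insert ha, Finset.sum_insert ha, ← ih]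
    rfl

theorem good_of_finite_projective [Module.Finite A B] [Module.Projective A B]
    (h : IsPullback g f' f (Spec.map (CommRingCat.ofHom (algebraMap A B))))
    (hM : Coh.IsQCoh M) (K : Sheaf (Opens.grothendieckTopology X) AddCommGrpCat.{u}) :
    Good (rho f M) (sig f' g ((Scheme.Modules.pullback g).obj M)) (eta g M)
      (hcomm f f' g M h.w) K := by
  obtain ⟨n, b, lam, φ, hb, h1, h2⟩ := exists_dualBasis_spec A B f f' g h
    (pbUnit g M) (isUniv_pbUnit g M)
  refine good_of_dualBasis (rho f M) (sig f' g ((Scheme.Modules.pullback g).obj M)) (eta g M)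
    (hcomm f f' g M h.w) b lam hb
    (fun j => ((SheafOfModules.toSheaf X.ringCatSheaf).map (φ j) :
      (Coh.pushAb g).obj (Coh.toAb ((Scheme.Modules.pullback g).obj M)) ⟶ Coh.toAb M)) ?_ ?_ K
  · intro j x
    ext U m
    obtain ⟨U⟩ := U
    exact h1 j U x m
  · ext U y
    obtain ⟨U⟩ := U
    refine Eq.trans ?_ (h2 U y)
    exact sum_app Finset.univ _ U y

end Groth.Agent.CohqA.BCDual
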