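import Groth.Agent.CohqA.QisoLocal
import Groth.Agent.VarietyB.ProjForm
import Groth.Agent.VarietyB.PullSec
import Groth.Agent.Dcoh.TMod
import Groth.Agent.Models2.FMExact

/-!
The functor `M ↦ K ⊗ q^* M`, and the base change map `G ⊗ g^* f_* M ⟶ f'_* (f'^* G ⊗ g'^* M)`.
-/

set_option autoImplicit false
set_option backward.isDefEq.respectTransparency.types true
universe u

open CategoryTheory CategoryTheory.Limits AlgebraicGeometry Opposite TopologicalSpace

namespace Groth.Agent.CohqA.BCT71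

open Groth.Agent.VarietyB.TensLoc Groth.Agent.VarietyB.ExactLoc Groth.Agent.CycB.StalkExact
open Groth.Agent.VarietyB.PullLoc Groth.Agent.VarietyB.ProjForm
open Groth.Agent.Fdesc.LocGen (pullSec pullSec_smul res_pullSec pullSec_add mkHom mkHom_app
  pullback_map_pullSec homEquiv_app)
open Groth.Agent.VarietyB.PullSec (sec sec_apply sec_smul sec_res)

section Functor

variable {X Z : Scheme.{u}} (q : Z ⟶ X) (K : Z.Modules)

/-- `M ↦ K ⊗ q^* M`. -/
noncomputable abbrev E : X.Modules ⥤ Z.Modules :=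
  Scheme.Modules.pullback q ⋙ DCoh.tensorBi.obj K

/-- The two orders of the factors. -/
noncomputable def eIso : E q K ≅ Models2.FMExact.G q K :=
  Functor.isoWhiskerLeft _ (Dcoh.TMod.braidIso K)

instance : (Scheme.Modules.pullback q).Additive := Models2.FMExact.additive_pullback q

instance : (E q K).Additive := inferInstance

instance : PreservesFiniteColimits (E q K) :=
  preservesFiniteColimits_of_natIso (eIso q K).symm

theorem preservesFiniteLimits_E (hK : FlatMod.IsFlatOver q K) : PreservesFiniteLimits (E q K) :=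
  have := Models2.FMExact.preservesFiniteLimits_G q K hK
  preservesFiniteLimits_of_natIso (eIso q K).symm

theorem E_map_app_tmul {M N : X.Modules} (φ : M ⟶ N) {U : Z.Opens} (k : Γ(K, U))
    (m : Γ((Scheme.Modules.pullback q).obj M, U)) :
    ((E q K).map φ).app U (tmul k m) = tmul k (((Scheme.Modules.pullback q).map φ).app U m) :=
  tensorBi_map_app_tmul _ _ _ _

theorem pullback_map_sec {M N : X.Modules} (φ : M ⟶ N) {U : X.Opens} {V : Z.Opens}
    (e : V ≤ q ⁻¹ᵁ U) (m : Γ(M, U)) :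
    ((Scheme.Modules.pullback q).map φ).app V (sec q M e m) = sec q N e (φ.app U m) := by
  rw [sec_apply, sec_apply]
  refine (app_res _ e _).trans ?_
  exact congrArg (res _ e) (pullback_map_pullSec q φ m)

theorem E_map_app_tmul_sec {M N : X.Modules} (φ : M ⟶ N) {U : X.Opens} {V : Z.Opens}
    (e : V ≤ q ⁻¹ᵁ U) (k : Γ(K, V)) (m : Γ(M, U)) :
    ((E q K).map φ).app V (tmul k (sec q M e m)) = tmul k (sec q N e (φ.app U m)) := by
  rw [E_map_app_tmul, pullback_map_sec]

end Functor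

section BC

variable {X S X' S' : Scheme.{u}} {f : X ⟶ S} {g : S' ⟶ S} {g' : X' ⟶ X} {f' : X' ⟶ S'}
  (w : g' ≫ f = f' ≫ g)

include w in
theorem pre_le {V : S.Opens} {V' : S'.Opens} (e : V' ≤ g ⁻¹ᵁ V) : f' ⁻¹ᵁ V' ≤ g' ⁻¹ᵁ (f ⁻¹ᵁ V) := by
  rw [← Scheme.Hom.comp_preimage, w, Scheme.Hom.comp_preimage]
  exact f'.preimage_mono e

include w in
theorem scalar (U : S.Opens) (a : Γ(S, U)) :
    g'.appLE (f ⁻¹ᵁ U) (f' ⁻¹ᵁ (g ⁻¹ᵁ U)) (pre_le w (le_refl (g ⁻¹ᵁ U))) (f.app U a) =
      f'.app (g ⁻¹ᵁ U) (g.app U a) := by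
  have h : f.app U ≫ g'.appLE (f ⁻¹ᵁ U) (f' ⁻¹ᵁ (g ⁻¹ᵁ U)) (pre_le w (le_refl (g ⁻¹ᵁ U))) =
      g.app U ≫ f'.app (g ⁻¹ᵁ U) := by
    rw [Scheme.Hom.app_eq_appLE, Scheme.Hom.app_eq_appLE, Scheme.Hom.app_eq_appLE,
      Scheme.Hom.appLE_comp_appLE, Scheme.Hom.appLE_comp_appLE]
    simp only [w]
  exact congr(($h) a)

/-- `f_* M ⟶ g_* f'_* g'^* M`. -/
noncomputable def bcAdj (M : X.Modules) : (Scheme.Modules.pushforward f).obj M ⟶
    (Scheme.Modules.pushforward g).obj ((Scheme.Modules.pushforward f').obj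
      ((Scheme.Modules.pullback g').obj M)) :=
  mkHom (fun U => (sec g' M (pre_le w (le_refl (g ⁻¹ᵁ U))) :
      Γ(M, f ⁻¹ᵁ U) →+ Γ((Scheme.Modules.pullback g').obj M, f' ⁻¹ᵁ (g ⁻¹ᵁ U))))
    (fun U a m => by
      refine (sec_smul g' M (pre_le w (le_refl (g ⁻¹ᵁ U))) (f.app U a) m).trans ?_
      rw [scalar w]
      rfl)
    (fun U V h m => (sec_res g' M (pre_le w (le_refl (g ⁻¹ᵁ U))) (pre_le w (le_refl (g ⁻¹ᵁ V)))
      (f.preimage_mono h) (f'.preimage_mono (g.preimage_mono h)) m).symm)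

theorem bcAdj_app (M : X.Modules) {U : S.Opens} (m : Γ(M, f ⁻¹ᵁ U)) :
    (bcAdj w M).app U m = sec g' M (pre_le w (le_refl (g ⁻¹ᵁ U))) m := rfl

/-- The base change map `g^* f_* M ⟶ f'_* g'^* M`. -/
noncomputable def bc (M : X.Modules) :
    (Scheme.Modules.pullback g).obj ((Scheme.Modules.pushforward f).obj M) ⟶
      (Scheme.Modules.pushforward f').obj ((Scheme.Modules.pullback g').obj M) :=
  ((Scheme.Modules.pullbackPushforwardAdjunction g).homEquiv _ _).symm (bcAdj w M)

theorem bc_app_pullSec (M : X.Modules) {U : S.Opens} (m : Γ(M, f ⁻¹ᵁ U)) :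
    (bc w M).app (g ⁻¹ᵁ U) (pullSec g (show Γ((Scheme.Modules.pushforward f).obj M, U) from m)) =
      sec g' M (pre_le w (le_refl (g ⁻¹ᵁ U))) m := by
  refine (homEquiv_app g (bc w M)
    (show Γ((Scheme.Modules.pushforward f).obj M, U) from m)).symm.trans ?_
  rw [bc, Equiv.apply_symm_apply]
  rfl

theorem bc_app_sec (M : X.Modules) {U : S.Opens} {V' : S'.Opens} (e : V' ≤ g ⁻¹ᵁ U)
    (m : Γ(M, f ⁻¹ᵁ U)) :
    (bc w M).app V' (sec g _ e (show Γ((Scheme.Modules.pushforward f).obj M, U) from m)) =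
      sec g' M (pre_le w e) m := by
  rw [sec_apply]
  refine (app_res (bc w M) e _).trans ?_
  refine (congrArg (res _ e) (bc_app_pullSec w M m)).trans ?_
  have h := sec_res g' M (pre_le w (le_refl (g ⁻¹ᵁ U))) (pre_le w e) (le_refl (f ⁻¹ᵁ U))
    (f'.preimage_mono e) m
  have h2 : M.presheaf.map (homOfLE (le_refl (f ⁻¹ᵁ U))).op m = m := res_self M _ m
  rw [h2] at h
  exact h

theorem bcAdj_naturality {M N : X.Modules} (φ : M ⟶ N) :
    (Scheme.Modules.pushforward f).map φ ≫ bcAdj w N =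
      bcAdj w M ≫ (Scheme.Modules.pushforward g).map ((Scheme.Modules.pushforward f').map
        ((Scheme.Modules.pullback g').map φ)) := by
  ext U m
  exact (pullback_map_sec g' φ (pre_le w (le_refl (g ⁻¹ᵁ U))) m).symm

theorem bc_naturality {M N : X.Modules} (φ : M ⟶ N) :
    (Scheme.Modules.pullback g).map ((Scheme.Modules.pushforward f).map φ) ≫ bc w N =
      bc w M ≫ (Scheme.Modules.pushforward f').map ((Scheme.Modules.pullback g').map φ) := by
  apply ((Scheme.Modules.pullbackPushforwardAdjunction g).homEquiv _ _).injective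
  rw [Adjunction.homEquiv_naturality_left, Adjunction.homEquiv_naturality_right, bc, bc,
    Equiv.apply_symm_apply, Equiv.apply_symm_apply]
  exact bcAdj_naturality w φ

variable (G : S'.Modules)

/-- `G ⊗ g^* f_* M ⟶ f'_* (f'^* G ⊗ g'^* M)`. -/
noncomputable def bApp (M : X.Modules) :
    (E g G).obj ((Scheme.Modules.pushforward f).obj M) ⟶
      (Scheme.Modules.pushforward f').obj
        ((E g' ((Scheme.Modules.pullback f').obj G)).obj M) :=
  (DCoh.tensorBi.obj G).map (bc w M) ≫ projMor f' G ((Scheme.Modules.pullback g').obj M)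

theorem bApp_tmul (M : X.Modules) {V' : S'.Opens} (n : Γ(G, V'))
    (t : Γ((Scheme.Modules.pullback g).obj ((Scheme.Modules.pushforward f).obj M), V')) :
    (bApp w G M).app V' (tmul n t) = tmul (pullSec f' n)
      (show Γ((Scheme.Modules.pullback g').obj M, f' ⁻¹ᵁ V') from (bc w M).app V' t) := by
  have h1 : ((DCoh.tensorBi.obj G).map (bc w M)).app V' (tmul n t) =
      tmul n ((bc w M).app V' t) := tensorBi_map_app_tmul _ _ _ _
  refine (congrArg (fun s => (projMor f' G ((Scheme.Modules.pullback g').obj M)).app V' s)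
    h1).trans ?_
  exact projMor_tmul f' G _ n _

theorem bApp_tmul_sec (M : X.Modules) {U : S.Opens} {V' : S'.Opens} (e : V' ≤ g ⁻¹ᵁ U)
    (n : Γ(G, V')) (m : Γ(M, f ⁻¹ᵁ U)) :
    (bApp w G M).app V' (tmul n
      (sec g _ e (show Γ((Scheme.Modules.pushforward f).obj M, U) from m))) =
      tmul (pullSec f' n) (sec g' M (pre_le w e) m) := by
  rw [bApp_tmul, bc_app_sec]

/-- The base change map, natural in `M`. -/
noncomputable def b : Scheme.Modules.pushforward f ⋙ E g G ⟶
    E g' ((Scheme.Modules.pullback f').obj G) ⋙ Scheme.Modules.pushforward f' where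
  app M := bApp w G M
  naturality M N φ := by
    apply Groth.Agent.Ega2.Tens.hom_ext
    intro U n t
    change (bApp w G N).app U (((E g G).map ((Scheme.Modules.pushforward f).map φ)).app U
      (tmul n t)) = ((E g' ((Scheme.Modules.pullback f').obj G)).map φ).app (f' ⁻¹ᵁ U)
        ((bApp w G M).app U (tmul n t))
    rw [E_map_app_tmul, bApp_tmul, bApp_tmul, E_map_app_tmul]
    have h := bc_naturality w φ
    have h2 := congr(($h).app U t)
    exact congrArg (tmul (pullSec f' n)) h2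

theorem b_app_tmul_sec (M : X.Modules) {U : S.Opens} {V' : S'.Opens} (e : V' ≤ g ⁻¹ᵁ U)
    (n : Γ(G, V')) (m : Γ(M, f ⁻¹ᵁ U)) :
    ((b w G).app M).app V' (tmul n
      (sec g _ e (show Γ((Scheme.Modules.pushforward f).obj M, U) from m))) =
      tmul (pullSec f' n) (sec g' M (pre_le w e) m) :=
  bApp_tmul_sec w G M e n m

end BC

end Groth.Agent.CohqA.BCT71
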