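import Groth.Agent.CohqA.PullbackQCoh

/-!
# Morphisms of modules from compatible linear maps on a basis
-/

set_option autoImplicit false
universe u

open CategoryTheory AlgebraicGeometry Limits Opposite TopologicalSpace AlgebraicGeometry.Scheme.Modules

namespace Groth.Agent.CohqA.BasisHom

open Groth.Agent.CohqA.PullbackSections

variable {X : Scheme.{u}}

/-- Sections of a module agreeing locally are equal. -/
lemma eq_of_locally_eq (N : X.Modules) {V : X.Opens} (s t : Γ(N, V))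
    (h : ∀ x ∈ V, ∃ (W : X.Opens) (i : W ≤ V), x ∈ W ∧
      N.presheaf.map (homOfLE i).op s = N.presheaf.map (homOfLE i).op t) : s = t := by
  choose W i hx hW using h
  refine TopCat.Sheaf.eq_of_locally_eq' (F := (⟨N.presheaf, N.isSheaf⟩ : TopCat.Sheaf Ab.{u} X))
    (fun x : V => W x.1 x.2) V (fun x => homOfLE (i x.1 x.2)) ?_ s t ?_
  · intro x hxV
    rw [Opens.mem_iSup]
    exact ⟨⟨x, hxV⟩, hx x hxV⟩
  · exact fun x => hW x.1 x.2

/-- Morphisms of modules agreeing on a basis of opens are equal. -/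
lemma hom_ext_of_basis {M N : X.Modules} {ι : Type*} (B : ι → X.Opens)
    (hB : Opens.IsBasis (Set.range B)) {φ ψ : M ⟶ N}
    (h : ∀ i x, φ.app (B i) x = ψ.app (B i) x) : φ = ψ := by
  ext V s
  apply eq_of_locally_eq
  intro x hx
  obtain ⟨_, ⟨_, ⟨i, rfl⟩, rfl⟩, hxi, hiV⟩ := hB.exists_subset_of_mem_open hx V.isOpen
  refine ⟨B i, hiV, hxi, ?_⟩
  rw [← app_map φ hiV, ← app_map ψ hiV, h]

/-- Compatible linear maps on a basis of opens glue to a morphism of modules. -/
theorem exists_hom_of_basis {M N : X.Modules} {ι : Type u} (B : ι → X.Opens)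
    (hB : Opens.IsBasis (Set.range B)) (φ : ∀ i, Γ(M, B i) →+ Γ(N, B i))
    (hres : ∀ (i j : ι) (h : B i ≤ B j) (x : Γ(M, B j)),
      φ i (M.presheaf.map (homOfLE h).op x) = N.presheaf.map (homOfLE h).op (φ j x))
    (hlin : ∀ (i : ι) (r : Γ(X, B i)) (x : Γ(M, B i)), φ i (r • x) = r • φ i x) :
    ∃ ψ : M ⟶ N, ∀ (i : ι) (x : Γ(M, B i)), ψ.app (B i) x = φ i x := by
  let F' : TopCat.Sheaf Ab.{u} X := ⟨N.presheaf, N.isSheaf⟩
  let α : (inducedFunctor B).op ⋙ M.presheaf ⟶ (inducedFunctor B).op ⋙ F'.1 :=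
    { app := fun i => AddCommGrpCat.ofHom (φ i.unop)
      naturality := fun i j f => by
        ext x
        exact hres j.unop i.unop (leOfHom f.unop.hom) x }
  let ψ₀ : M.presheaf ⟶ F'.1 := TopCat.Sheaf.restrictHomEquivHom M.presheaf F' hB α
  have hψ₀ : ∀ i x, ψ₀.app (op (B i)) x = φ i x := fun i x => by
    have := TopCat.Sheaf.extend_hom_app (F := M.presheaf) (F' := F') hB α i
    exact congr($this x)
  have hnat : ∀ {V W : X.Opens} (h : V ≤ W) (x : Γ(M, W)),
      ψ₀.app (op V) (M.presheaf.map (homOfLE h).op x) =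
        N.presheaf.map (homOfLE h).op (ψ₀.app (op W) x) := fun h x =>
    congr($(ψ₀.naturality (homOfLE h).op) x)
  have hl : ∀ (V : X.Opens) (r : Γ(X, V)) (m : Γ(M, V)),
      (show Γ(N, V) from ψ₀.app (op V) (r • m)) = r • (show Γ(N, V) from ψ₀.app (op V) m) := by
    intro V r m
    apply eq_of_locally_eq
    intro x hx
    obtain ⟨_, ⟨_, ⟨i, rfl⟩, rfl⟩, hxi, hiV⟩ := hB.exists_subset_of_mem_open hx V.isOpen
    refine ⟨B i, hiV, hxi, ?_⟩
    have e1 := hnat (show B i ≤ V from hiV) (r • m)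
    have e2 := hnat (show B i ≤ V from hiV) m
    refine e1.symm.trans ?_
    have e3 := Scheme.Modules.map_smul M (homOfLE (show B i ≤ V from hiV)) r m
    rw [e3, hψ₀, hlin]
    have e4 := Scheme.Modules.map_smul N (homOfLE (show B i ≤ V from hiV)) r
      (show Γ(N, V) from ψ₀.app (op V) m)
    refine Eq.trans ?_ e4.symm
    congr 1
    rw [← hψ₀]
    exact e2
  refine ⟨⟨PresheafOfModules.homMk ψ₀ fun V r m => hl V.unop r m⟩, fun i x => hψ₀ i x⟩

end Groth.Agent.CohqA.BasisHom
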