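import Groth.Agent.CohqA.CechE0
import Mathlib.RingTheory.TensorProduct.IsBaseChangePi

/-!
# Base change for the augmented Čech complex of the structure sheaf
-/

set_option autoImplicit false
universe u v

open CategoryTheory TopologicalSpace Opposite Limits AlgebraicGeometry TensorProduct

namespace Groth.Agent.CohqA.CechE

open Groth.Agent.Ega3B.CubeData Groth.Agent.Ega3B.CombRes Groth.Agent.CohqA.FlatCpx
open Groth.Agent.CohqA.CechZero Groth.Agent.CohqA.CechK

theorem preimage_inf {X X' : Scheme.{u}} (g : X' ⟶ X) {ι : Type} (U : ι → X.Opens)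
    (s : Finset ι) : g ⁻¹ᵁ (s.inf U) = s.inf (fun i => g ⁻¹ᵁ U i) := by
  classical
  induction s using Finset.induction_on with
  | empty => rfl
  | insert a s ha ih =>
    rw [Finset.inf_insert, Finset.inf_insert, ← ih]
    rfl

theorem appLE_res {X X' : Scheme.{u}} (g : X' ⟶ X) (W : X.Opens) (W' : X'.Opens)
    (h : W' ≤ g ⁻¹ᵁ W) (s : Γ(X, ⊤)) :
    (g.appLE W W' h).hom ((X.presheaf.map (homOfLE (le_top : W ≤ ⊤)).op).hom s) =
      (X'.presheaf.map (homOfLE (le_top : W' ≤ ⊤)).op).hom ((g.app ⊤).hom s) := by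
  have h1 : X.presheaf.map (homOfLE (le_top : W ≤ ⊤)).op ≫ g.appLE W W' h =
      g.app ⊤ ≫ X'.presheaf.map (homOfLE (le_top : W' ≤ ⊤)).op := by
    rw [Scheme.Hom.map_appLE, Scheme.Hom.appLE]
    rfl
  exact congrArg (fun f => f.hom s) h1

section

variable {X X' : Scheme.{u}} (g : X' ⟶ X) {A A' R R' : Type u} [CommRing A] [CommRing A']
  [CommRing R] [CommRing R'] [Algebra R A] [Algebra R A'] [Algebra A A'] [IsScalarTower R A A']
  [Algebra R R'] [Algebra R' A'] [IsScalarTower R R' A']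
  (φ : A →+* Γ(X, ⊤)) (φ' : A' →+* Γ(X', ⊤))
  (hφ : ∀ a, φ' (algebraMap A A' a) = (g.app ⊤).hom (φ a))

/-- pullback of sections -/
noncomputable def pullSec (W : X.Opens) (W' : X'.Opens) (h : W' ≤ g ⁻¹ᵁ W) :
    Sec φ W →ₐ[R] Sec φ' W' where
  __ := (g.appLE W W' h).hom
  commutes' r := by
    change (g.appLE W W' h).hom ((X.presheaf.map (homOfLE le_top).op).hom (φ (algebraMap R A r))) =
      (X'.presheaf.map (homOfLE le_top).op).hom (φ' (algebraMap R A' r))
    rw [IsScalarTower.algebraMap_apply R A A', hφ]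
    exact appLE_res g W W' h _

theorem pullSec_apply (W : X.Opens) (W' : X'.Opens) (h : W' ≤ g ⁻¹ᵁ W) (x : Sec φ W) :
    pullSec (R := R) g φ φ' hφ W W' h x = (g.appLE W W' h).hom x := rfl

theorem resS_pullSec {W₁ W₂ : X.Opens} {W₁' W₂' : X'.Opens} (h₁ : W₁' ≤ g ⁻¹ᵁ W₁)
    (h₂ : W₂' ≤ g ⁻¹ᵁ W₂) (h : W₂ ≤ W₁) (h' : W₂' ≤ W₁') (x : Sec φ W₁) :
    pullSec (R := R) g φ φ' hφ W₂ W₂' h₂ (resS φ h x) =
      resS φ' h' (pullSec (R := R) g φ φ' hφ W₁ W₁' h₁ x) := by
  rw [pullSec_apply, pullSec_apply, resS_apply, resS_apply, ← CommRingCat.comp_apply,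
    ← CommRingCat.comp_apply, Scheme.Hom.map_appLE, Scheme.Hom.appLE_map]

variable {ι : Type} [LinearOrder ι] [Fintype ι] (U : ι → X.Opens)

/-- the pulled back family -/
abbrev U' : ι → X'.Opens := fun i => g ⁻¹ᵁ U i

theorem W_eq (n : ℕ) (b : (DD U).B n) :
    (DD (U' g U)).W n b = g ⁻¹ᵁ ((DD U).W n b : X.Opens) := (preimage_inf g U b.1).symm

/-- pullback of cochains -/
noncomputable def pullE : ∀ n, E φ U n →ₗ[R] E φ' (U' g U) n
  | 0 => (IsScalarTower.toAlgHom R A A').toLinearMap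
  | n + 1 => LinearMap.pi (fun b : (DD U).B n =>
      (pullSec (R := R) g φ φ' hφ ((DD U).W n b) ((DD (U' g U)).W n b)
        (W_eq g U n b).le).toLinearMap ∘ₗ
        (LinearMap.proj b : (∀ b : (DD U).B n, Sec φ ((DD U).W n b)) →ₗ[R] _))

theorem pullE_succ_apply (n : ℕ) (x : E φ U (n + 1)) (b : (DD U).B n) :
    pullE (R := R) g φ φ' hφ U (n + 1) x b =
      pullSec (R := R) g φ φ' hφ ((DD U).W n b) ((DD (U' g U)).W n b) (W_eq g U n b).le (x b) := rfl

theorem W_le_iff_of_le {n : ℕ} {b : (DD U).B (n + 1)} {b' : (DD U).B n}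
    (h : (DD U).m n b b' ≠ 0) : (DD U).W (n + 1) b ≤ (DD U).W n b' := (DD U).le n b b' h

open Classical in
/-- the differential as a sum over `b'` with nonzero coefficient -/
theorem dS_term (n : ℕ) (x : E φ U (n + 1)) (b : (DD U).B (n + 1)) :
    dS φ U n x b = ∑ b' : (DD U).B n,
      if h : (DD U).m n b b' ≠ 0 then
        (DD U).m n b b' • resS φ ((DD U).le n b b' h) (x b') else 0 := by
  rw [dS_apply]
  refine Finset.sum_congr rfl fun b' _ => ?_
  by_cases h : (DD U).m n b b' = 0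
  · rw [dif_neg (not_not.2 h)]
    split_ifs with h2
    · rw [h, zero_smul]
    · rfl
  · rw [dif_pos h, dif_pos ((DD U).le n b b' h)]

theorem pullE_dE : ∀ (n : ℕ) (x : E φ U n),
    pullE (R := R) g φ φ' hφ U (n + 1) (dE φ U n x) =
      dE φ' (U' g U) n (pullE (R := R) g φ φ' hφ U n x)
  | 0, a => by
    funext b
    change (g.appLE _ _ _).hom ((X.presheaf.map (homOfLE le_top).op).hom (φ a)) =
      (X'.presheaf.map (homOfLE le_top).op).hom (φ' (algebraMap A A' a))
    rw [hφ]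
    exact appLE_res g _ _ _ _
  | n + 1, x => by
    classical
    funext b
    refine (pullE_succ_apply g φ φ' hφ U (n + 1) _ b).trans ?_
    change pullSec (R := R) g φ φ' hφ _ _ _ (dS φ U n x b) =
      dS φ' (U' g U) n (pullE (R := R) g φ φ' hφ U (n + 1) x) b
    rw [dS_term, dS_term, map_sum]
    refine Finset.sum_congr rfl fun b' _ => ?_
    by_cases h : (DD U).m n b b' = 0
    · have h' : (DD (U' g U)).m n b b' = 0 := h
      rw [dif_neg (not_not.2 h)]
      refine (map_zero _).trans ?_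
      rw [dif_neg (not_not.2 h')]
    · have h' : (DD (U' g U)).m n b b' ≠ 0 := h
      rw [dif_pos h]
      refine (map_zsmul _ _ _).trans ?_
      rw [dif_pos h']
      exact congrArg (fun t => (DD U).m n b b' • t) (resS_pullSec (R := R) g φ φ' hφ _ _ _ _ _)

/-- Base change of the augmented Čech complex. -/
theorem isBaseChange_pullE
    (hA : IsBaseChange R' (IsScalarTower.toAlgHom R A A').toLinearMap)
    (hW : ∀ (n : ℕ) (b : (DD U).B n), IsBaseChange R'
      (pullSec (R := R) g φ φ' hφ ((DD U).W n b) ((DD (U' g U)).W n b)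
        (W_eq g U n b).le).toLinearMap) :
    ∀ n, IsBaseChange R' (pullE (R := R) g φ φ' hφ U n)
  | 0 => hA
  | n + 1 => IsBaseChange.pi _ (hW n)

/-- `E ⊗[R] R' ≃ E'` -/
noncomputable def equivE (hE : ∀ n, IsBaseChange R' (pullE (R := R) g φ φ' hφ U n)) (n : ℕ) :
    E φ U n ⊗[R] R' ≃+ E φ' (U' g U) n :=
  (TensorProduct.comm R (E φ U n) R').toAddEquiv.trans (hE n).equiv.toAddEquiv

theorem equivE_tmul (hE : ∀ n, IsBaseChange R' (pullE (R := R) g φ φ' hφ U n)) (n : ℕ)
    (x : E φ U n) (r : R') :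
    equivE g φ φ' hφ U hE n (x ⊗ₜ[R] r) = r • pullE (R := R) g φ φ' hφ U n x :=
  (hE n).equiv_tmul r x

theorem equivE_dE (hE : ∀ n, IsBaseChange R' (pullE (R := R) g φ φ' hφ U n)) (n : ℕ)
    (x : E φ U n ⊗[R] R') :
    equivE g φ φ' hφ U hE (n + 1) (((dE φ U n).restrictScalars R).rTensor R' x) =
      dE φ' (U' g U) n (equivE g φ φ' hφ U hE n x) := by
  induction x using TensorProduct.induction_on with
  | zero => simp
  | tmul x r =>
    rw [LinearMap.rTensor_tmul, equivE_tmul, equivE_tmul, LinearMap.restrictScalars_apply,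
      pullE_dE, ← algebraMap_smul A' r, ← algebraMap_smul A' r, map_smul]
  | add x y hx hy => rw [map_add, map_add, map_add, map_add, hx, hy]

/-- Exactness after base change. -/
theorem exAt_baseChange_iff (hE : ∀ n, IsBaseChange R' (pullE (R := R) g φ φ' hφ U n)) (n : ℕ) :
    ExAt (X := fun n => E φ U n ⊗[R] R')
        (fun n => (((dE φ U n).restrictScalars R).rTensor R' : _ → _)) n ↔
      ExAt (fun n => (dE φ' (U' g U) n : E φ' (U' g U) n → E φ' (U' g U) (n + 1))) n :=
  ExAt.iff_of_equiv (equivE g φ φ' hφ U hE) (equivE_dE g φ φ' hφ U hE)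

end

end Groth.Agent.CohqA.CechE
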