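import Groth.Agent.CohqA.CechBC
import Mathlib.AlgebraicGeometry.Morphisms.Flat

/-!
# Base change for the augmented Čech complex of the structure sheaf: geometric form
-/

set_option autoImplicit false
universe u v

open CategoryTheory TopologicalSpace Opposite Limits AlgebraicGeometry TensorProduct

namespace Groth.Agent.CohqA.CechE

open Groth.Agent.Ega3B.CubeData Groth.Agent.Ega3B.CombRes Groth.Agent.CohqA.FlatCpx
open Groth.Agent.CohqA.CechZero Groth.Agent.CohqA.CechK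

section

variable {X X' : Scheme.{u}} (g : X' ⟶ X) {A A' R R' : Type u} [CommRing A] [CommRing A']
  [CommRing R] [CommRing R'] [Algebra R A] [Algebra R A'] [Algebra A A'] [IsScalarTower R A A']
  [Algebra R R'] [Algebra R' A'] [IsScalarTower R R' A']
  (φ : A →+* Γ(X, ⊤)) (φ' : A' →+* Γ(X', ⊤))
  (hφ : ∀ a, φ' (algebraMap A A' a) = (g.app ⊤).hom (φ a))

theorem isBaseChange_pullSec_of_isPushout (W : X.Opens) (W' : X'.Opens) (h : W' ≤ g ⁻¹ᵁ W)
    (H : IsPushout (CommRingCat.ofHom (algebraMap R R'))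
      (CommRingCat.ofHom (algebraMap R (Sec φ W)))
      (CommRingCat.ofHom (algebraMap R' (Sec φ' W')))
      (CommRingCat.ofHom (pullSec (R := R) g φ φ' hφ W W' h).toRingHom)) :
    IsBaseChange R' (pullSec (R := R) g φ φ' hφ W W' h).toLinearMap := by
  letI : Algebra (Sec φ W) (Sec φ' W') := (pullSec (R := R) g φ φ' hφ W W' h).toRingHom.toAlgebra
  haveI : IsScalarTower R (Sec φ W) (Sec φ' W') := IsScalarTower.of_algebraMap_eq fun r =>
    ((pullSec (R := R) g φ φ' hφ W W' h).commutes r).symm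
  have H2 := CommRingCat.isPushout_iff_isPushout.1 H
  exact H2.out

theorem isBaseChange_pullSec {S T : Scheme.{u}} [IsAffine S] [IsAffine T] {p : X ⟶ S}
    {p' : X' ⟶ T} {h : T ⟶ S} (sq : IsPullback g p' p h) (eR : R ≃+* Γ(S, ⊤))
    (eR' : R' ≃+* Γ(T, ⊤)) (heR : ∀ r, eR' (algebraMap R R' r) = (h.app ⊤).hom (eR r))
    (hp : ∀ r, (p.app ⊤).hom (eR r) = φ (algebraMap R A r))
    (hp' : ∀ r, (p'.app ⊤).hom (eR' r) = φ' (algebraMap R' A' r))
    (W : X.Opens) (hW : IsAffineOpen W) (W' : X'.Opens) (hWW : W' = g ⁻¹ᵁ W) :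
    IsBaseChange R' (pullSec (R := R) g φ φ' hφ W W' hWW.le).toLinearMap := by
  apply isBaseChange_pullSec_of_isPushout
  have h1 := isIso_pushoutSection_of_isAffineOpen sq (US := ⊤) (UT := ⊤) (UX := W) (UY := W')
    le_top le_top (by rw [hWW]; exact (inf_top_eq _).symm) (isAffineOpen_top S) (isAffineOpen_top T) hW
  rw [isIso_pushoutSection_iff] at h1
  refine h1.flip.of_iso (RingEquiv.toCommRingCatIso eR.symm) (RingEquiv.toCommRingCatIso eR'.symm)
    (Iso.refl _) (Iso.refl _) ?_ ?_ ?_ ?_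
  · ext s
    obtain ⟨r, rfl⟩ := eR.surjective s
    apply eR'.injective
    change eR' (eR'.symm ((h.appLE ⊤ ⊤ _).hom (eR r))) = eR' (algebraMap R R' (eR.symm (eR r)))
    rw [eR'.apply_symm_apply, eR.symm_apply_apply, heR, Scheme.Hom.app_eq_appLE]
    rfl
  · ext s
    obtain ⟨r, rfl⟩ := eR.surjective s
    change (p.appLE ⊤ W le_top).hom (eR r) = toSec φ W (algebraMap R A (eR.symm (eR r)))
    rw [eR.symm_apply_apply]
    change _ = (X.presheaf.map (homOfLE le_top).op).hom (φ (algebraMap R A r))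
    rw [← hp]
    rfl
  · ext s
    obtain ⟨r, rfl⟩ := eR'.surjective s
    change (p'.appLE ⊤ W' le_top).hom (eR' r) = toSec φ' W' (algebraMap R' A' (eR'.symm (eR' r)))
    rw [eR'.symm_apply_apply]
    change _ = (X'.presheaf.map (homOfLE le_top).op).hom (φ' (algebraMap R' A' r))
    rw [← hp']
    rfl
  · rfl

variable {ι : Type} [LinearOrder ι] [Fintype ι] (U : ι → X.Opens)

theorem isBaseChange_pullE_of_sq {S T : Scheme.{u}} [IsAffine S] [IsAffine T] {p : X ⟶ S}
    {p' : X' ⟶ T} {h : T ⟶ S} (sq : IsPullback g p' p h) (eR : R ≃+* Γ(S, ⊤))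
    (eR' : R' ≃+* Γ(T, ⊤)) (heR : ∀ r, eR' (algebraMap R R' r) = (h.app ⊤).hom (eR r))
    (hp : ∀ r, (p.app ⊤).hom (eR r) = φ (algebraMap R A r))
    (hp' : ∀ r, (p'.app ⊤).hom (eR' r) = φ' (algebraMap R' A' r))
    (hA : IsBaseChange R' (IsScalarTower.toAlgHom R A A').toLinearMap) (hU : IsAffCov U) :
    ∀ n, IsBaseChange R' (pullE (R := R) g φ φ' hφ U n) :=
  isBaseChange_pullE g φ φ' hφ U hA fun n b =>
    isBaseChange_pullSec g φ φ' hφ sq eR eR' heR hp hp' ((DD U).W n b) (isAffineOpen_W hU n b)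
      ((DD (U' g U)).W n b) (W_eq g U n b)

end

theorem isAffCov_preimage {X X' : Scheme.{u}} (g : X' ⟶ X) [IsAffineHom g]
    {ι : Type} [LinearOrder ι] [Fintype ι] {U : ι → X.Opens} (hU : IsAffCov U) :
    IsAffCov (U' g U) where
  cov := by
    have h1 : g ⁻¹ᵁ (⨆ i, U i) = ⊤ := by rw [hU.cov]; rfl
    rw [← h1, Scheme.Hom.preimage_iSup]
  aff s hs := by
    rw [← preimage_inf]
    exact (hU.aff s hs).preimage g

end Groth.Agent.CohqA.CechE
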