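import Groth.Agent.CohqA.CechK

/-!
# The augmented ordered Čech complex of the structure sheaf, as a complex of modules

For a ring map `φ : A →+* Γ(X, ⊤)` and a finite family `U` of opens of `X`:
`E φ U 0 = A`, `E φ U (n + 1) = ∏ Γ(X, U_{i₀} ∩ … ∩ U_{iₙ})` with differential `dE`.
-/

set_option autoImplicit false
universe u v

open CategoryTheory TopologicalSpace Opposite Limits AlgebraicGeometry

namespace Groth.Agent.CohqA.CechE

open Groth.Agent.Ega3B.CubeData Groth.Agent.Ega3B.CombRes Groth.Agent.CohqA.FlatCpx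
open Groth.Agent.CohqA.CechZero Groth.Agent.CohqA.CechK

variable {X : Scheme.{u}} {A : Type u} [CommRing A]

/-- sections over `W`, as an algebra over `A` through `φ` -/
def Sec (_φ : A →+* Γ(X, ⊤)) (W : X.Opens) : Type u := Γ(X, W)

variable (φ : A →+* Γ(X, ⊤))

noncomputable instance (W : X.Opens) : CommRing (Sec φ W) := inferInstanceAs (CommRing Γ(X, W))

/-- structure map -/
noncomputable def toSec (W : X.Opens) : A →+* Sec φ W :=
  ((X.presheaf.map (homOfLE (le_top : W ≤ ⊤)).op).hom).comp φ

noncomputable instance {R : Type v} [CommRing R] [Algebra R A] (W : X.Opens) :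
    Algebra R (Sec φ W) :=
  ((toSec φ W).comp (algebraMap R A)).toAlgebra

theorem algebraMap_sec {R : Type v} [CommRing R] [Algebra R A] (W : X.Opens) (r : R) :
    algebraMap R (Sec φ W) r = toSec φ W (algebraMap R A r) := rfl

instance {R R' : Type*} [CommRing R] [CommRing R'] [Algebra R A] [Algebra R' A] [Algebra R R']
    [IsScalarTower R R' A] (W : X.Opens) : IsScalarTower R R' (Sec φ W) :=
  IsScalarTower.of_algebraMap_eq fun r => by
    rw [algebraMap_sec, algebraMap_sec, IsScalarTower.algebraMap_apply R R' A]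

/-- restriction -/
noncomputable def resS {W W' : X.Opens} (h : W' ≤ W) : Sec φ W →ₐ[A] Sec φ W' where
  __ := (X.presheaf.map (homOfLE h).op).hom
  commutes' a := by
    change (X.presheaf.map (homOfLE h).op).hom ((X.presheaf.map (homOfLE le_top).op).hom (φ a)) =
      (X.presheaf.map (homOfLE le_top).op).hom (φ a)
    rw [← CommRingCat.comp_apply, ← X.presheaf.map_comp]
    rfl

theorem resS_apply {W W' : X.Opens} (h : W' ≤ W) (x : Sec φ W) :
    resS φ h x = (X.presheaf.map (homOfLE h).op).hom x := rfl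

variable {ι : Type} [LinearOrder ι] [Fintype ι] (U : ι → X.Opens)

/-- The augmented Čech complex. -/
def E : ℕ → Type u
  | 0 => A
  | n + 1 => ∀ b : (DD U).B n, Sec φ ((DD U).W n b)

noncomputable instance : ∀ n, AddCommGroup (E φ U n)
  | 0 => inferInstanceAs (AddCommGroup A)
  | n + 1 => inferInstanceAs (AddCommGroup (∀ b : (DD U).B n, Sec φ ((DD U).W n b)))

noncomputable instance {R : Type v} [CommRing R] [Algebra R A] : ∀ n, Module R (E φ U n)
  | 0 => inferInstanceAs (Module R A)
  | n + 1 => inferInstanceAs (Module R (∀ b : (DD U).B n, Sec φ ((DD U).W n b)))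

instance {R R' : Type*} [CommRing R] [CommRing R'] [Algebra R A] [Algebra R' A] [Algebra R R']
    [IsScalarTower R R' A] : ∀ n, IsScalarTower R R' (E φ U n)
  | 0 => inferInstanceAs (IsScalarTower R R' A)
  | n + 1 => inferInstanceAs (IsScalarTower R R' (∀ b : (DD U).B n, Sec φ ((DD U).W n b)))

/-- The structure sheaf as abelian presheaf. -/
noncomputable abbrev GO (X : Scheme.{u}) : (Opens X)ᵒᵖ ⥤ AddCommGrpCat.{u} :=
  (Coh.toAb (Coh.structureModule X)).obj

/-- sections as sections of the abelian presheaf -/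
noncomputable def toG (W : X.Opens) : Sec φ W ≃+ (GO X).obj (op W) :=
  AddEquiv.refl (Sec φ W)

theorem toG_resS {W W' : X.Opens} (h : W' ≤ W) (x : Sec φ W) :
    toG φ W' (resS φ h x) = (GO X).map (homOfLE h).op (toG φ W x) := rfl

/-- cochains of positive degree as cochains of the abelian presheaf -/
noncomputable def toK (n : ℕ) : E φ U (n + 1) ≃+ (DD U).K n (GO X) where
  toFun x b := toG φ _ (x b)
  invFun x b := (toG φ _).symm (x b)
  left_inv x := by
    funext b
    exact (toG φ _).symm_apply_apply _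
  right_inv x := by
    funext b
    exact (toG φ _).apply_symm_apply _
  map_add' x y := by
    funext b
    exact (toG φ _).map_add _ _

theorem toK_apply (n : ℕ) (x : E φ U (n + 1)) (b : (DD U).B n) :
    toK φ U n x b = toG φ _ (x b) := rfl

open Classical in
/-- the differential in positive degree, as a function -/
noncomputable def dSfun (n : ℕ) (x : E φ U (n + 1)) (b : (DD U).B (n + 1)) :
    Sec φ ((DD U).W (n + 1) b) :=
  ∑ b' : (DD U).B n, if h : (DD U).W (n + 1) b ≤ (DD U).W n b' then
    (DD U).m n b b' • resS φ h (x b') else 0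

open Classical in
theorem dSfun_add (n : ℕ) (x y : E φ U (n + 1)) (b : (DD U).B (n + 1)) :
    dSfun φ U n (x + y) b = dSfun φ U n x b + dSfun φ U n y b := by
  unfold dSfun
  rw [← Finset.sum_add_distrib]
  refine Finset.sum_congr rfl fun b' _ => ?_
  split_ifs with h
  · rw [← smul_add, ← map_add]
    rfl
  · rw [add_zero]

open Classical in
theorem dSfun_smul (n : ℕ) (a : A) (x : E φ U (n + 1)) (b : (DD U).B (n + 1)) :
    dSfun φ U n (a • x) b = a • dSfun φ U n x b := by
  unfold dSfun
  rw [Finset.smul_sum]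
  refine Finset.sum_congr rfl fun b' _ => ?_
  split_ifs with h
  · have h1 : resS φ h ((a • x) b') = a • resS φ h (x b') := map_smul (resS φ h) a (x b')
    rw [h1]
    exact smul_comm _ _ _
  · rw [smul_zero]

/-- The differential in positive degree. -/
noncomputable def dS (n : ℕ) : E φ U (n + 1) →ₗ[A] E φ U (n + 2) where
  toFun x := dSfun φ U n x
  map_add' x y := funext fun b => dSfun_add φ U n x y b
  map_smul' a x := funext fun b => dSfun_smul φ U n a x b

open Classical in
theorem dS_apply (n : ℕ) (x : E φ U (n + 1)) (b : (DD U).B (n + 1)) :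
    dS φ U n x b = ∑ b' : (DD U).B n,
      if h : (DD U).W (n + 1) b ≤ (DD U).W n b' then
        (DD U).m n b b' • resS φ h (x b') else 0 := by
  change dSfun φ U n x b = _
  unfold dSfun
  rfl

theorem toK_dS (n : ℕ) (x : E φ U (n + 1)) :
    toK φ U (n + 1) (dS φ U n x) = (DD U).δ n (GO X) (toK φ U n x) := by
  classical
  funext b
  rw [toK_apply, dS_apply, Data.δ_apply, map_sum]
  refine Finset.sum_congr rfl fun b' _ => ?_
  split_ifs with h
  · rw [map_zsmul, toG_resS]
    rfl
  · rw [map_zero]

/-- The augmentation. -/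
noncomputable def d0 : E φ U 0 →ₗ[A] E φ U 1 :=
  LinearMap.pi (fun b : (DD U).B 0 => Algebra.linearMap A (Sec φ ((DD U).W 0 b)))

/-- The differential. -/
noncomputable def dE : ∀ n, E φ U n →ₗ[A] E φ U (n + 1)
  | 0 => d0 φ U
  | n + 1 => dS φ U n

theorem d0_apply (a : E φ U 0) (b : (DD U).B 0) : d0 φ U a b = toSec φ _ a := rfl

theorem dS_d0 (x : E φ U 0) : dS φ U 0 (d0 φ U x) = 0 := by
  apply (toK φ U 1).injective
  rw [toK_dS, map_zero]
  refine (δ_zero_eq_zero_iff (X := X.toTopCat) U _).2 fun i j h => ?_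
  have h1 := (resS φ (le_left (X := X.toTopCat) U h)).commutes x
  have h2 := (resS φ (le_right (X := X.toTopCat) U h)).commutes x
  exact congrArg (toG φ _) (h1.trans h2.symm)

theorem dS_dS (n : ℕ) (x : E φ U (n + 1)) : dS φ U (n + 1) (dS φ U n x) = 0 := by
  apply (toK φ U (n + 2)).injective
  rw [toK_dS, toK_dS, map_zero]
  exact (DD U).δ_δ n _

theorem dE_dE : ∀ (n : ℕ) (x : E φ U n), dE φ U (n + 1) (dE φ U n x) = 0
  | 0, x => dS_d0 φ U x
  | n + 1, x => dS_dS φ U n x

theorem subsingleton_E : ∃ N, ∀ n, N ≤ n → Subsingleton (E φ U n) := by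
  refine ⟨Fintype.card ι + 2, fun n hn => ?_⟩
  obtain ⟨m, rfl⟩ : ∃ m, n = m + 1 := ⟨n - 1, by omega⟩
  have : IsEmpty ((DD U).B m) := by
    constructor
    rintro ⟨s, hs, hs'⟩
    have := Finset.card_le_univ s
    omega
  exact inferInstanceAs (Subsingleton (∀ b : (DD U).B m, Sec φ ((DD U).W m b)))

variable {U}

theorem exAt_succ_succ_iff (hU : IsAffCov U) [(Coh.structureModule X).IsQuasicoherent] (n : ℕ) :
    ExAt (fun n => (dE φ U n : E φ U n → E φ U (n + 1))) (n + 2) ↔
      Subsingleton (Coh.HH X (Coh.structureModule X) (n + 1)) := by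
  rw [subsingleton_HH_iff hU]
  constructor
  · intro h x hx
    obtain ⟨y, hy⟩ := h ((toK φ U (n + 1)).symm x) (by
      change dS φ U (n + 1) _ = 0
      apply (toK φ U (n + 2)).injective
      rw [toK_dS, map_zero, AddEquiv.apply_symm_apply]
      exact hx)
    refine ⟨toK φ U n y, ?_⟩
    change (DD U).δ n _ _ = x
    rw [← toK_dS]
    exact (congrArg _ hy).trans ((toK φ U (n + 1)).apply_symm_apply x)
  · intro h x hx
    obtain ⟨y, hy⟩ := h (toK φ U (n + 1) x) (by
      change (DD U).δ (n + 1) _ _ = 0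
      rw [← toK_dS]
      exact (congrArg _ hx).trans (map_zero _))
    refine ⟨(toK φ U n).symm y, ?_⟩
    change dS φ U n _ = x
    apply (toK φ U (n + 1)).injective
    rw [toK_dS, AddEquiv.apply_symm_apply]
    exact hy

end Groth.Agent.CohqA.CechE
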