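import Groth.Agent.CohqA.CechE

/-!
# Degrees 0 and 1 of the augmented Čech complex of the structure sheaf
-/

set_option autoImplicit false
universe u v

open CategoryTheory TopologicalSpace Opposite Limits AlgebraicGeometry

namespace Groth.Agent.CohqA.CechE

open Groth.Agent.Ega3B.CubeData Groth.Agent.Ega3B.CombRes Groth.Agent.CohqA.FlatCpx
open Groth.Agent.CohqA.CechZero Groth.Agent.CohqA.CechK

variable {X : Scheme.{u}} {A : Type u} [CommRing A] (φ : A →+* Γ(X, ⊤))
variable {ι : Type} [LinearOrder ι] [Fintype ι] {U : ι → X.Opens}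

/-- the cover -/
noncomputable abbrev V0 (U : ι → X.Opens) (i : ι) : X.Opens := (DD U).W 0 (sing (X := X.toTopCat) U i)

theorem top_le_iSup (hcov : ⨆ i, U i = ⊤) : (⊤ : X.Opens) ≤ ⨆ i, V0 U i := by
  rw [← hcov]
  exact iSup_mono fun i => (W_sing (X := X.toTopCat) U i).ge

theorem eq_zero_of_res (hcov : ⨆ i, U i = ⊤) (s : Γ(X, ⊤))
    (h : ∀ i, (X.presheaf.map (homOfLE (le_top : V0 U i ≤ ⊤)).op).hom s = 0) : s = 0 := by
  refine X.sheaf.eq_of_locally_eq' (V0 U) ⊤ (fun i => homOfLE le_top) (top_le_iSup hcov) _ _ ?_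
  intro i
  refine (h i).trans ?_
  exact (map_zero (X.presheaf.map (homOfLE (le_top : V0 U i ≤ ⊤)).op).hom).symm

theorem exists_glue (hcov : ⨆ i, U i = ⊤) (x : E φ U 1) (hx : dS φ U 0 x = 0) :
    ∃ s : Γ(X, ⊤), ∀ b : (DD U).B 0,
      ((X.presheaf.map (homOfLE (le_top : (DD U).W 0 b ≤ ⊤)).op).hom s : Sec φ ((DD U).W 0 b)) =
        x b := by
  have hK : (DD U).δ 0 (GO X) (toK φ U 0 x) = 0 := by
    rw [← toK_dS, hx, map_zero]
  obtain ⟨s, hs, -⟩ := X.sheaf.existsUnique_gluing' (V0 U) ⊤ (fun i => homOfLE le_top)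
    (top_le_iSup hcov) (fun i => x (sing (X := X.toTopCat) U i)) (by
      intro i j
      exact compatible_of_δ_zero (X := X.toTopCat) U hK i j (V0 U i ⊓ V0 U j) inf_le_left
        inf_le_right)
  refine ⟨s, fun b => ?_⟩
  obtain ⟨i, rfl⟩ := exists_sing (X := X.toTopCat) U b
  exact hs i

theorem exAt_zero_one_iff (hcov : ⨆ i, U i = ⊤) :
    (ExAt (fun n => (dE φ U n : E φ U n → E φ U (n + 1))) 0 ∧
      ExAt (fun n => (dE φ U n : E φ U n → E φ U (n + 1))) 1) ↔ Function.Bijective φ := by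
  constructor
  · rintro ⟨h0, h1⟩
    refine ⟨(injective_iff_map_eq_zero φ).2 fun a ha => h0 a ?_, fun s => ?_⟩
    · funext b
      change (X.presheaf.map (homOfLE le_top).op).hom (φ a) = 0
      rw [ha, map_zero]
    · let x : E φ U 1 := fun b => (X.presheaf.map (homOfLE (le_top : (DD U).W 0 b ≤ ⊤)).op).hom s
      have hx : dS φ U 0 x = 0 := by
        apply (toK φ U 1).injective
        rw [toK_dS, map_zero]
        refine (δ_zero_eq_zero_iff (X := X.toTopCat) U _).2 fun i j h => ?_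
        change (X.presheaf.map (homOfLE _).op).hom ((X.presheaf.map (homOfLE _).op).hom s) =
          (X.presheaf.map (homOfLE _).op).hom ((X.presheaf.map (homOfLE _).op).hom s)
        rw [← CommRingCat.comp_apply, ← CommRingCat.comp_apply, ← X.presheaf.map_comp,
          ← X.presheaf.map_comp]
        rfl
      obtain ⟨a, ha⟩ := h1 x hx
      refine ⟨a, ?_⟩
      rw [← sub_eq_zero]
      refine eq_zero_of_res hcov _ fun i => ?_
      rw [map_sub, sub_eq_zero]
      exact congrFun ha (sing (X := X.toTopCat) U i)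
  · rintro ⟨h0, h1⟩
    constructor
    · intro a ha
      have h2 : φ a = φ 0 := (eq_zero_of_res hcov _ fun i =>
        congrFun ha (sing (X := X.toTopCat) U i)).trans (map_zero φ).symm
      exact h0 h2
    · intro x hx
      obtain ⟨s, hs⟩ := exists_glue φ hcov x hx
      obtain ⟨a, rfl⟩ := h1 s
      exact ⟨a, funext hs⟩

/-- Exactness of the whole augmented complex. -/
theorem exAt_iff (hU : IsAffCov U) [(Coh.structureModule X).IsQuasicoherent] :
    (∀ n, ExAt (fun n => (dE φ U n : E φ U n → E φ U (n + 1))) n) ↔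
      Function.Bijective φ ∧ ∀ n, Subsingleton (Coh.HH X (Coh.structureModule X) (n + 1)) := by
  rw [← exAt_zero_one_iff φ hU.cov]
  constructor
  · intro h
    exact ⟨⟨h 0, h 1⟩, fun n => (exAt_succ_succ_iff φ hU n).1 (h (n + 2))⟩
  · rintro ⟨⟨h0, h1⟩, h2⟩ n
    match n with
    | 0 => exact h0
    | 1 => exact h1
    | n + 2 => exact (exAt_succ_succ_iff φ hU n).2 (h2 n)

end Groth.Agent.CohqA.CechE
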