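import Groth.Agent.CohqA.CechBasic

/-!
# Exactness of the Čech complex for localization-type presheaves

`cech_exact_of_localization`: if `F` is a presheaf of `A`-modules, `f k` (`k : ι`, `ι` finite) generate the unit
ideal of `A` and the restriction from a finite intersection `V` of the `U i` to `U k ⊓ V` is, up to powers of `f k`,
injective and surjective, then the Čech complex of `F` is exact in positive degrees.
-/

universe u
open CategoryTheory Limits Opposite TopologicalSpace Simplicial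

namespace Groth.Agent.CohqA.CechLoc

open CechBasic

variable {X : TopCat.{u}} {ι : Type u} (U : ι → Opens X)
  (F : TopCat.Presheaf AddCommGrpCat.{u} X)

lemma inf_eq_iInf_cons {p : ℕ} (k : ι) (i : Fin (p+1) → ι) :
    (⨅ a, U ((Fin.cons k i : Fin (p+2) → ι) a)) = U k ⊓ ⨅ a, U (i a) := by
  apply le_antisymm
  · refine le_inf ?_ (le_iInf fun a => ?_)
    · simpa using iInf_le (fun a => U ((Fin.cons k i : Fin (p+2) → ι) a)) 0
    · simpa using iInf_le (fun a => U ((Fin.cons k i : Fin (p+2) → ι) a)) a.succ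
  · refine le_iInf fun a => ?_
    refine Fin.cases ?_ (fun b => ?_) a
    · simp
    · simpa using inf_le_right.trans (iInf_le (fun a => U (i a)) b)

/-- transport along equality of indices -/
lemma res_congr {p : ℕ} (s : Cochain U F p) {i i' : Fin (p+1) → ι} (h : i = i')
    {V : Opens X} (hV : V ≤ ⨅ a, U (i a)) (hV' : V ≤ ⨅ a, U (i' a)) :
    res F hV (s i) = res F hV' (s i') := by
  subst h; rfl

lemma cons_comp_succ_succAbove {p : ℕ} (k : ι) (i : Fin (p+2) → ι) (j : Fin (p+2)) :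
    (Fin.cons k i : Fin (p+3) → ι) ∘ (j.succ).succAbove =
      (Fin.cons k (i ∘ j.succAbove) : Fin (p+2) → ι) := by
  funext a
  refine Fin.cases ?_ (fun b => ?_) a
  · simp
  · simp

lemma cons_comp_zero_succAbove {p : ℕ} (k : ι) (i : Fin (p+2) → ι) :
    (Fin.cons k i : Fin (p+3) → ι) ∘ (0 : Fin (p+3)).succAbove = i := by
  funext a
  simp

lemma le_cons {p : ℕ} {k : ι} {i : Fin (p+1) → ι} {V : Opens X} (hV : V ≤ U k ⊓ ⨅ a, U (i a)) :
    V ≤ ⨅ a, U ((Fin.cons k i : Fin (p+2) → ι) a) :=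
  hV.trans (inf_eq_iInf_cons U k i).ge

lemma le_face_inf {p : ℕ} {k : ι} {i : Fin (p+2) → ι} {V : Opens X}
    (hV : V ≤ U k ⊓ ⨅ a, U (i a)) (j : Fin (p+2)) :
    V ≤ U k ⊓ ⨅ a, U ((i ∘ j.succAbove) a) :=
  hV.trans (inf_le_inf_left _ (le_face U i j))

/-- The cocycle relation for `Fin.cons k i`. -/
lemma cocycle_cons {p : ℕ} (s : Cochain U F (p+1)) (hs : dC U F (p+1) s = 0) (k : ι)
    (i : Fin (p+2) → ι) {V : Opens X} (hV : V ≤ U k ⊓ ⨅ a, U (i a)) :
    res F (hV.trans inf_le_right) (s i) =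
      ∑ j : Fin (p+2), (-1 : ℤ)^(j : ℕ) •
        res F (le_cons U (le_face_inf U hV j)) (s (Fin.cons k (i ∘ j.succAbove))) := by
  have := congr_fun hs (Fin.cons k i)
  rw [dC_apply] at this
  have := congr_arg (res F (le_cons U hV)) this
  rw [map_sum, Pi.zero_apply, map_zero, Fin.sum_univ_succ] at this
  simp only [map_zsmul, res_res] at this
  rw [Fin.val_zero, pow_zero, one_smul, add_eq_zero_iff_eq_neg] at this
  rw [res_congr U F s (cons_comp_zero_succAbove k i) _ (hV.trans inf_le_right)] at this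
  rw [this, ← Finset.sum_neg_distrib]
  refine Finset.sum_congr rfl fun j _ => ?_
  rw [res_congr U F s (cons_comp_succ_succAbove k i j) _ (le_cons U (le_face_inf U hV j)),
    ← neg_smul, Fin.val_succ, pow_succ, mul_neg, mul_one, neg_neg]

/-- Exactness of the Čech complex for presheaves of localization type. -/
theorem exact_of_localization [Finite ι] {A : Type*} [CommRing A]
    [∀ V : Opens X, Module A (F.obj (op V))]
    (hlin : ∀ {V W : Opens X} (h : V ≤ W) (a : A) (x : F.obj (op W)),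
      res F h (a • x) = a • res F h x)
    (f : ι → A) (hf : Ideal.span (Set.range f) = ⊤) (p : ℕ)
    (h1 : ∀ (k : ι) (i : Fin (p+2) → ι) (x : F.obj (op (⨅ a, U (i a)))),
      res F (inf_le_right : U k ⊓ ⨅ a, U (i a) ≤ _) x = 0 → ∃ N : ℕ, f k ^ N • x = 0)
    (h2 : ∀ (k : ι) (i : Fin (p+1) → ι) (y : F.obj (op (U k ⊓ ⨅ a, U (i a)))),
      ∃ (N : ℕ) (x : F.obj (op (⨅ a, U (i a)))), res F inf_le_right x = f k ^ N • y)
    (s : Cochain U F (p+1)) (hs : dC U F (p+1) s = 0) : ∃ t, dC U F p t = s := by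
  -- Step 1: lift
  have e1 : ∀ (q : ι × (Fin (p+1) → ι)), ∃ (N : ℕ) (x : F.obj (op (⨅ a, U (q.2 a)))),
      res F (inf_le_right : U q.1 ⊓ ⨅ a, U (q.2 a) ≤ _) x =
        f q.1 ^ N • res F (le_cons U le_rfl) (s (Fin.cons q.1 q.2)) := fun q => h2 _ _ _
  choose N g hg using e1
  obtain ⟨M, hM⟩ := Finite.exists_le N
  have e2 : ∀ (k : ι), ∃ g : Cochain U F p, ∀ i : Fin (p+1) → ι,
      res F (inf_le_right : U k ⊓ ⨅ a, U (i a) ≤ _) (g i) =
        f k ^ M • res F (le_cons U le_rfl) (s (Fin.cons k i)) := by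
    intro k
    refine ⟨fun i => f k ^ (M - N (k, i)) • g (k, i), fun i => ?_⟩
    have e := hg (k, i)
    dsimp only at e ⊢
    rw [hlin, e, smul_smul, ← pow_add, Nat.sub_add_cancel (hM (k, i))]
  choose g hg using e2
  -- Step 2: compare `d g_k` and `f_k ^ M • s`
  have e3 : ∀ (q : ι × (Fin (p+2) → ι)), ∃ K : ℕ,
      f q.1 ^ K • (dC U F p (g q.1) q.2 - f q.1 ^ M • s q.2) = 0 := by
    rintro ⟨k, i⟩
    refine h1 k i _ ?_
    rw [map_sub, hlin, cocycle_cons U F s hs k i le_rfl, dC_apply, map_sum, Finset.smul_sum,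
      ← Finset.sum_sub_distrib]
    refine Finset.sum_eq_zero fun j _ => ?_
    have e := congr_arg (res F (le_face_inf U (le_refl (U k ⊓ ⨅ a, U (i a))) j)) (hg k (i ∘ j.succAbove))
    rw [hlin, res_res, res_res] at e
    rw [map_zsmul, res_res, smul_comm, ← smul_sub, e, sub_self, smul_zero]
  choose K hK using e3
  obtain ⟨L, hL⟩ := Finite.exists_le K
  have e4 : ∀ (k : ι) (i : Fin (p+2) → ι),
      f k ^ L • dC U F p (g k) i = f k ^ (L + M) • s i := by
    intro k i
    have e := hK (k, i)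
    dsimp only at e
    rw [← sub_eq_zero, pow_add, mul_smul, ← smul_sub, ← Nat.sub_add_cancel (hL (k, i)),
      pow_add, mul_smul, e, smul_zero]
  -- Step 3: partition of unity
  have e5 : Ideal.span (Set.range fun k => f k ^ (L + M)) = ⊤ := by
    have := Ideal.span_pow_eq_top _ hf (L + M)
    rwa [← Set.range_comp] at this
  cases nonempty_fintype ι
  obtain ⟨c, hc⟩ := (Ideal.mem_span_range_iff_exists_fun (R := A)).1
    ((Ideal.eq_top_iff_one _).1 e5)
  refine ⟨∑ k, fun i => (c k * f k ^ L) • g k i, ?_⟩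
  have e6 : ∀ k, dC U F p (fun i => (c k * f k ^ L) • g k i) = fun i => (c k * f k ^ (L + M)) • s i := by
    intro k
    funext i
    rw [mul_smul, ← e4 k i, ← mul_smul, dC_apply, dC_apply, Finset.smul_sum]
    refine Finset.sum_congr rfl fun j _ => ?_
    rw [hlin, smul_comm]
  rw [map_sum]
  simp only [e6]
  funext i
  rw [Finset.sum_apply, ← Finset.sum_smul, hc, one_smul]

end Groth.Agent.CohqA.CechLoc
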