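import Groth.Agent.CohqA.CechSheaf
import Groth.Agent.CohqA.CechLoc
import Groth.Agent.CohtopA.Flasque
import Mathlib.Topology.Sheaves.SheafOfFunctions

/-!
# Čech acyclicity of flasque sheaves, and Cartan's criterion

* `discr A` : the sheaf of discontinuous sections of a family of groups `A x`, `x ∈ X`.
* `cechExact_discr`, `cechExact_of_injective`, `cechExact_of_isFlasque`.
* `ext_succ_eq_zero_of_basis` : Cartan's criterion (Stacks 01EW).
-/

set_option autoImplicit false
universe u
open CategoryTheory Limits Opposite TopologicalSpace Abelian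

namespace Groth.Agent.CohqA.CechFlasque

open CechBasic CechSheaf CechLoc Groth.Agent.CohtopA.Sec Groth.Agent.CohtopA

variable {X : TopCat.{u}} {ι : Type u} (U : ι → Opens X)

/-- The presheaf of discontinuous sections. -/
def discrPre (A : X → AddCommGrpCat.{u}) : TopCat.Presheaf AddCommGrpCat.{u} X where
  obj V := AddCommGrpCat.of (∀ x : V.unop, A x.1)
  map i := AddCommGrpCat.ofHom
    { toFun g x := g ⟨x.1, i.unop.le x.2⟩
      map_zero' := rfl
      map_add' _ _ := rfl }

lemma discrPre_isSheaf (A : X → AddCommGrpCat.{u}) : TopCat.Presheaf.IsSheaf (discrPre A) := by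
  rw [TopCat.Presheaf.isSheaf_iff_isSheaf_comp (forget AddCommGrpCat)]
  exact TopCat.Presheaf.toTypes_isSheaf X (fun x => A x)

/-- The sheaf of discontinuous sections. -/
def discr (A : X → AddCommGrpCat.{u}) : CohTop.Ab X := ⟨discrPre A, discrPre_isSheaf A⟩

/-- Evaluation of a discontinuous section at a point. -/
def ev (A : X → AddCommGrpCat.{u}) {V : Opens X} (x : X) (hx : x ∈ V) :
    (discrPre A).obj (op V) →+ A x where
  toFun g := (g : ∀ y : V, A y.1) ⟨x, hx⟩
  map_zero' := rfl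
  map_add' _ _ := rfl

lemma ev_res (A : X → AddCommGrpCat.{u}) {V W : Opens X} (h : V ≤ W) (x : X) (hx : x ∈ V)
    (g : (discrPre A).obj (op W)) : ev A x hx (res (discrPre A) h g) = ev A x (h hx) g := rfl

lemma ev_ext (A : X → AddCommGrpCat.{u}) {V : Opens X} (g g' : (discrPre A).obj (op V))
    (h : ∀ x (hx : x ∈ V), ev A x hx g = ev A x hx g') : g = g' :=
  funext fun (x : V) => h x.1 x.2

theorem cechExact_discr (A : X → AddCommGrpCat.{u}) (p : ℕ) : CechExact U (discrPre A) p := by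
  classical
  intro s hs
  by_cases hι : Nonempty ι
  swap
  · refine ⟨0, ?_⟩
    funext i
    exact (hι ⟨i 0⟩).elim
  obtain ⟨c, hc⟩ : ∃ c : X → ι, ∀ x k, x ∈ U k → x ∈ U (c x) := by
    refine ⟨fun x => if h : ∃ k, x ∈ U k then h.choose else hι.some, fun x k hx => ?_⟩
    have h : ∃ k, x ∈ U k := ⟨k, hx⟩
    simp only [h, dite_true]
    exact h.choose_spec
  have hc' : ∀ {q : ℕ} (i : Fin (q+1) → ι) (x : X), x ∈ ⨅ a, U (i a) → x ∈ U (c x) ⊓ ⨅ a, U (i a) :=
    fun i x hx => ⟨hc x (i 0) (iInf_le (fun a => U (i a)) 0 hx), hx⟩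
  let t : Cochain U (discrPre A) p := fun i =>
    (fun x : ((⨅ a, U (i a) : Opens X)) =>
      ev A x.1 (le_cons U le_rfl (hc' i x.1 x.2)) (s (Fin.cons (c x.1) i)))
  have ht : ∀ i x hx, ev A x hx (t i) = ev A x (le_cons U le_rfl (hc' i x hx)) (s (Fin.cons (c x) i)) :=
    fun _ _ _ => rfl
  refine ⟨t, ?_⟩
  funext i
  refine ev_ext A _ _ fun x hx => ?_
  have e := congr_arg (ev A x (hc' i x hx)) (cocycle_cons U _ s hs (c x) i le_rfl)
  rw [ev_res, map_sum] at e
  rw [e, dC_apply, map_sum]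
  refine Finset.sum_congr rfl fun j _ => ?_
  rw [map_zsmul, map_zsmul, ev_res, ev_res, ht]

/-- Injective abelian sheaves are Čech acyclic for every family of opens. -/
theorem cechExact_of_injective (F : CohTop.Ab X) [Injective F] (p : ℕ) : CechExact U F.obj p := by
  let D : CohTop.Ab X := discr fun x => TopCat.Presheaf.stalk (C := AddCommGrpCat.{u}) (X := X) F.obj x
  let φ : F ⟶ D := ⟨{
    app V := AddCommGrpCat.ofHom
      { toFun s := fun x : V.unop => TopCat.Presheaf.germ (C := AddCommGrpCat.{u}) (X := X) F.obj V.unop x.1 x.2 s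
        map_zero' := by
          funext x
          exact map_zero _
        map_add' s t := by
          funext x
          exact map_add _ _ _ }
    naturality V W i := by
      ext s
      funext x
      exact TopCat.Presheaf.germ_res_apply (C := AddCommGrpCat.{u}) (X := X) F.obj i.unop x.1 x.2 s }⟩
  have : Mono φ := by
    refine mono_of_injective φ fun V s t h => ?_
    refine TopCat.Presheaf.section_ext (C := AddCommGrpCat.{u}) (F : TopCat.Sheaf AddCommGrpCat.{u} X) V s t
      fun x hx => ?_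
    exact congr_fun h ⟨x, hx⟩
  refine (cechExact_discr U _ p).of_retract U φ.hom (Injective.factorThru (𝟙 F) φ).hom ?_
  exact congr_arg (fun f : F ⟶ F => f.hom) (Injective.comp_factorThru (𝟙 F) φ)

/-- If `0 → F → I → Q → 0` is exact, sections of `I` lift sections of `Q` over all finite intersections, and
`I`, `F` are Čech exact in all positive degrees, then so is `Q`. -/
theorem cechExact_X₃ (S : ShortComplex (CohTop.Ab X)) (hS : S.ShortExact)
    (hlift : ∀ (p : ℕ) (i : Fin (p+1) → ι), Function.Surjective (m S.g (⨅ a, U (i a))))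
    (p : ℕ) (h1 : CechExact U S.X₁.obj (p+1)) (h2 : CechExact U S.X₂.obj p) :
    CechExact U S.X₃.obj p := by
  intro s hs
  choose w hw using fun i => hlift (p+1) i (s i)
  have hw' : mapC U S.g.hom (p+1) w = s := funext hw
  have h3 : ∀ i, ∃ f, m S.f _ f = dC U S.X₂.obj (p+1) w i := by
    intro i
    refine exact_lift hS _ ?_
    have := congr_fun (mapC_dC U S.g.hom (p+1) w) i
    rw [hw', hs] at this
    exact this
  choose f hf using h3
  have hf' : mapC U S.f.hom (p+2) f = dC U S.X₂.obj (p+1) w := funext hf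
  have := hS.mono_f
  have inj : ∀ p, Function.Injective (mapC U S.f.hom p) := by
    intro p x y hxy
    funext i
    exact m_injective S.f _ (congr_fun hxy i)
  obtain ⟨g, hg⟩ := h1 f (inj _ (by rw [mapC_dC, hf', dC_dC, map_zero]))
  obtain ⟨v, hv⟩ := h2 (w - mapC U S.f.hom (p+1) g) (by
    rw [map_sub, ← mapC_dC, hg, hf', sub_self])
  refine ⟨mapC U S.g.hom p v, ?_⟩
  rw [← mapC_dC, hv, map_sub, hw']
  have : mapC U S.g.hom (p+1) (mapC U S.f.hom (p+1) g) = 0 := by
    funext i
    exact m_f_g _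
  rw [this, sub_zero]

/-- Cartan's criterion, Stacks 01EW. -/
theorem ext_succ_eq_zero_of_basis (F : CohTop.Ab X)
    (B : Set (Opens X)) (Cov : ∀ (ι : Type u), (ι → Opens X) → Prop)
    (h1 : ∀ (ι : Type u) (V : ι → Opens X), Cov ι V →
      ∀ (p : ℕ) (a : Fin (p + 1) → ι), (iInf fun k => V (a k)) ∈ B)
    (h2 : ∀ U ∈ B, ∀ (κ : Type u) (W : κ → Opens X), iSup W = U →
      ∃ (ι : Type u) (V : ι → Opens X), Cov ι V ∧ iSup V = U ∧ ∀ i, ∃ k, V i ≤ W k)
    (h3 : ∀ (ι : Type u) (V : ι → Opens X), Cov ι V → ∀ p : ℕ, CechExact V F.obj p)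
    (U : Opens X) (hU : U ∈ B) (p : ℕ)
    (x : Ext.{u} (FreeAb.freeAb (Opens.grothendieckTopology X) U) F (p + 1)) : x = 0 := by
  have key : ∀ (S : ShortComplex (CohTop.Ab X)), S.ShortExact →
      (∀ (ι : Type u) (V : ι → Opens X), Cov ι V → ∀ p : ℕ, CechExact V S.X₁.obj p) →
      ∀ U ∈ B, Function.Surjective (m S.g U) := by
    intro S hS h U hU
    refine surjective_of_cechH1 S hS U fun ι W hW => ?_
    obtain ⟨κ, V, hV, hVU, hle⟩ := h2 U hU ι W hW
    choose r hr using hle
    exact ⟨κ, V, r, hVU, hr, h κ V hV 0⟩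
  refine DimShift.ext_succ_eq_zero_of_class (fun F : CohTop.Ab X =>
    ∀ (ι : Type u) (V : ι → Opens X), Cov ι V → ∀ p : ℕ, CechExact V F.obj p)
    (FreeAb.freeAb (Opens.grothendieckTopology X) U) ?_ ?_ F h3 p x
  · intro S hS hF hI ι V hV p
    exact cechExact_X₃ V S hS (fun q i => key S hS hF _ (h1 ι V hV q i)) p (hF ι V hV (p+1))
      (cechExact_of_injective V S.X₂ p)
  · intro S hS hF hI f
    obtain ⟨t, ht⟩ := key S hS hF U hU (FreeAb.homEv U S.X₃ f)
    obtain ⟨g, rfl⟩ := (FreeAb.homEv_bijective U S.X₂).2 t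
    exact ⟨g, (FreeAb.homEv_bijective U S.X₃).1 ht⟩

theorem subsingleton_HU_succ_of_basis (F : CohTop.Ab X)
    (B : Set (Opens X)) (Cov : ∀ (ι : Type u), (ι → Opens X) → Prop)
    (h1 : ∀ (ι : Type u) (V : ι → Opens X), Cov ι V →
      ∀ (p : ℕ) (a : Fin (p + 1) → ι), (iInf fun k => V (a k)) ∈ B)
    (h2 : ∀ U ∈ B, ∀ (κ : Type u) (W : κ → Opens X), iSup W = U →
      ∃ (ι : Type u) (V : ι → Opens X), Cov ι V ∧ iSup V = U ∧ ∀ i, ∃ k, V i ≤ W k)
    (h3 : ∀ (ι : Type u) (V : ι → Opens X), Cov ι V → ∀ p : ℕ, CechExact V F.obj p)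
    (U : Opens X) (hU : U ∈ B) (p : ℕ) : Subsingleton (CohTop.HU F (p + 1) U) :=
  subsingleton_of_forall_eq 0 (fun x => ext_succ_eq_zero_of_basis F B Cov h1 h2 h3 U hU p x)

/-- A 0-cochain of a sheaf is closed iff it comes from a section on the union. -/
lemma exists_glue_zeroC (F : CohTop.Ab X) (t : ∀ k, Γs F (U k))
    (h : dC U F.obj 0 (zeroC U t) = 0) : ∃ w : Γs F (iSup U), ∀ k, r F (le_iSup U k) w = t k := by
  refine glue U t fun k l => ?_
  have e := congr_arg (res F.obj (inf_le_pair U k l)) (congr_fun h ![k, l])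
  rw [dC_zeroC, map_sub, res_res, res_res, Pi.zero_apply, map_zero] at e
  exact (sub_eq_zero.1 e).symm

lemma dC_zeroC_r (F : CohTop.Ab X) (w : Γs F (iSup U)) :
    dC U F.obj 0 (zeroC U (fun k => r F (le_iSup U k) w)) = 0 := by
  funext i
  rw [dC_zeroC, Pi.zero_apply, sub_eq_zero]
  exact (res_res F.obj _ _ w).trans (res_res F.obj _ _ w).symm

theorem cechExact_X₁_zero (S : ShortComplex (CohTop.Ab X)) (hS : S.ShortExact)
    (hlift : Function.Surjective (m S.g (iSup U)))
    (h2 : CechExact U S.X₂.obj 0) :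
    CechExact U S.X₁.obj 0 := by
  intro s hs
  have := hS.mono_f
  have inj : ∀ p, Function.Injective (mapC U S.f.hom p) := by
    intro p x y hxy
    funext i
    exact m_injective S.f _ (congr_fun hxy i)
  obtain ⟨t, ht⟩ := h2 (mapC U S.f.hom 1 s) (by rw [← mapC_dC, hs, map_zero])
  obtain ⟨t, rfl⟩ := exists_zeroC U t
  obtain ⟨w, hw⟩ := exists_glue_zeroC U S.X₃ (fun k => m S.g _ (t k)) (by
    have : zeroC U (fun k => m S.g _ (t k)) = mapC U S.g.hom 0 (zeroC U t) := (mapC_zeroC U _ t).symm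
    rw [this, ← mapC_dC, ht]
    funext i
    exact m_f_g _)
  obtain ⟨w, rfl⟩ := hlift w
  have h3 : ∀ k, ∃ v, m S.f (U k) v = t k - r S.X₂ (le_iSup U k) w := by
    intro k
    refine exact_lift hS _ ?_
    rw [map_sub, m_r, hw, sub_self]
  choose v hv using h3
  refine ⟨zeroC U v, inj _ ?_⟩
  have e : zeroC U (fun k => m S.f (U k) (v k)) = zeroC U t - zeroC U (fun k => r S.X₂ (le_iSup U k) w) := by
    funext i
    simp only [hv, zeroC, Pi.sub_apply]
    exact map_sub _ _ _
  rw [mapC_dC, ← ht, mapC_zeroC]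
  change dC U S.X₂.obj 0 (zeroC U (fun k => m S.f (U k) (v k))) = _
  rw [e, map_sub, dC_zeroC_r, sub_zero]

theorem cechExact_X₁_succ (S : ShortComplex (CohTop.Ab X)) (hS : S.ShortExact)
    (hlift : ∀ (p : ℕ) (i : Fin (p+1) → ι), Function.Surjective (m S.g (⨅ a, U (i a))))
    (p : ℕ) (h2 : CechExact U S.X₂.obj (p+1)) (h3 : CechExact U S.X₃.obj p) :
    CechExact U S.X₁.obj (p+1) := by
  intro s hs
  have := hS.mono_f
  have inj : ∀ p, Function.Injective (mapC U S.f.hom p) := by
    intro p x y hxy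
    funext i
    exact m_injective S.f _ (congr_fun hxy i)
  obtain ⟨t, ht⟩ := h2 (mapC U S.f.hom _ s) (by rw [← mapC_dC, hs, map_zero])
  obtain ⟨y, hy⟩ := h3 (mapC U S.g.hom _ t) (by
    rw [← mapC_dC, ht]
    funext i
    exact m_f_g _)
  choose y' hy' using fun i => hlift p i (y i)
  have hy'' : mapC U S.g.hom p y' = y := funext hy'
  have h4 : ∀ i, ∃ v, m S.f _ v = (t - dC U S.X₂.obj p y') i := by
    intro i
    refine exact_lift hS _ ?_
    have e : mapC U S.g.hom _ (t - dC U S.X₂.obj p y') = 0 := by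
      rw [map_sub, mapC_dC, hy'', hy, sub_self]
    exact congr_fun e i
  choose v hv using h4
  have hv' : mapC U S.f.hom _ v = t - dC U S.X₂.obj p y' := funext hv
  refine ⟨v, inj _ ?_⟩
  rw [mapC_dC, hv', map_sub, dC_dC, sub_zero, ht]

/-- Flasque sheaves are Čech exact for every family of opens. -/
theorem cechExact_of_isFlasque (F : CohTop.Ab X) [hF : TopCat.Sheaf.IsFlasque F] (p : ℕ) :
    CechExact U F.obj p := by
  induction p generalizing F with
  | zero =>
    obtain ⟨I, Q, i, q, w, hI, hS⟩ := DimShift.exists_shortExact_injective F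
    refine cechExact_X₁_zero U _ hS ?_ (cechExact_of_injective U I 0)
    have h3 : Epi (q.hom.app (op (iSup U))) := TopCat.Sheaf.IsFlasque.epi_of_shortExact hS
    exact (AddCommGrpCat.epi_iff_surjective _).1 h3
  | succ p ih =>
    obtain ⟨I, Q, i, q, w, hI, hS⟩ := DimShift.exists_shortExact_injective F
    have : TopCat.Sheaf.IsFlasque I := Flasque.isFlasque_of_injective _
    have hQ : TopCat.Sheaf.IsFlasque Q := TopCat.Sheaf.IsFlasque.of_shortExact_of_isFlasque₁₂ hS
    refine cechExact_X₁_succ U _ hS ?_ p (cechExact_of_injective U I _) (ih Q)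
    intro p a
    have h3 : Epi (q.hom.app (op (⨅ k, U (a k)))) := TopCat.Sheaf.IsFlasque.epi_of_shortExact hS
    exact (AddCommGrpCat.epi_iff_surjective _).1 h3

end Groth.Agent.CohqA.CechFlasque
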