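import Groth.Agent.CohqA.FlatCpx
import Mathlib.RingTheory.LocalRing.ResidueField.Ideal
import Mathlib.RingTheory.Localization.BaseChange
import Mathlib.Algebra.Module.LocalizedModule.Submodule
import Mathlib.RingTheory.LocalProperties.Exactness
import Mathlib.RingTheory.Flat.FaithfullyFlat.Basic

/-!
# Bounded complexes of flat modules with finite cohomology: exactness spreads from a fibre

* `exAt_of_local`: `A` local over `R`, `A → L` local with `L` a field, `K` an `R`-algebra mapping to `L`, `C` a
  bounded complex of `A`-modules, `R`-flat in degrees `≥ 1`, with finite cohomology; if `C ⊗[R] K`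
  is exact then `C` is exact.
-/

set_option autoImplicit false

universe u v w

namespace Groth.Agent.CohqA.FlatCpx

open TensorProduct LinearMap

section Coh

variable {A : Type u} [CommRing A] {C : ℕ → Type v} [∀ n, AddCommGroup (C n)]
  [∀ n, Module A (C n)] (d : ∀ n, C n →ₗ[A] C (n + 1))

/-- coboundaries -/
def Bd : ∀ n, Submodule A (C n)
  | 0 => ⊥
  | n + 1 => range (d n)

/-- cohomology -/
abbrev Hn (n : ℕ) : Type v := ker (d n) ⧸ (Bd d n).comap (ker (d n)).subtype

theorem exAt_iff_ker_le (n : ℕ) :
    ExAt (fun n => (d n : C n → C (n + 1))) n ↔ ker (d n) ≤ Bd d n := by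
  cases n with
  | zero => exact Iff.rfl
  | succ n => exact Iff.rfl

theorem exAt_iff (n : ℕ) :
    ExAt (fun n => (d n : C n → C (n + 1))) n ↔ Subsingleton (Hn d n) := by
  rw [exAt_iff_ker_le, Submodule.Quotient.subsingleton_iff, Submodule.comap_subtype_eq_top]

/-- finiteness of cohomology in degree `n` -/
def FinAt (n : ℕ) : Prop :=
  ∃ P : Submodule A (C n), P.FG ∧ P ≤ ker (d n) ∧ ker (d n) ≤ P ⊔ Bd d n

variable {d}

theorem FinAt.finite {n : ℕ} (h : FinAt d n) : Module.Finite A (Hn d n) := by
  obtain ⟨P, hP, hPk, hk⟩ := h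
  have : Module.Finite A P := Module.Finite.iff_fg.2 hP
  let f : P →ₗ[A] Hn d n := (Submodule.mkQ _).comp (Submodule.inclusion hPk)
  refine Module.Finite.of_surjective f ?_
  intro y
  obtain ⟨x, rfl⟩ := Submodule.mkQ_surjective _ y
  obtain ⟨p, hp, b, hb, hpb⟩ := Submodule.mem_sup.1 (hk x.2)
  refine ⟨⟨p, hp⟩, ?_⟩
  apply (Submodule.Quotient.eq _).2
  rw [Submodule.mem_comap]
  change p - x.1 ∈ Bd d n
  rw [← hpb]
  simpa using hb

end Coh

section Local

variable {R : Type u} {A : Type u} {K : Type w} {L : Type w} [CommRing R] [CommRing A]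
  [IsLocalRing A] [Algebra R A] [CommRing K] [Algebra R K] [Field L] [Algebra A L] [Algebra R L]
  [IsScalarTower R A L] [IsLocalHom (algebraMap A L)]

include L in
theorem subsingleton_of_tensor_field (M : Type v)
    [AddCommGroup M] [Module A M] [Module.Finite A M]
    (h : Subsingleton (L ⊗[A] M)) : Subsingleton M := by
  rw [← IsLocalRing.subsingleton_tensorProduct (R := A)]
  let k := IsLocalRing.ResidueField A
  letI : Algebra k L := (IsLocalRing.ResidueField.lift (algebraMap A L)).toAlgebra
  haveI : IsScalarTower A k L := IsScalarTower.of_algebraMap_eq fun a => rfl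
  have h1 : Subsingleton (L ⊗[k] (k ⊗[A] M)) :=
    (TensorProduct.AlgebraTensorModule.cancelBaseChange A k k L M).toEquiv.subsingleton
  exact (Module.FaithfullyFlat.subsingleton_tensorProduct_iff_right k L).1 h1

theorem subsingleton_of_tensor (φ : K →ₐ[R] L) (M : Type v)
    [AddCommGroup M] [Module A M] [Module R M] [IsScalarTower R A M] [Module.Finite A M]
    (h : Subsingleton (M ⊗[R] K)) : Subsingleton M := by
  refine subsingleton_of_tensor_field (A := A) (L := L) M ?_
  let ψ : M ⊗[R] K →+ L ⊗[A] M :=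
    TensorProduct.liftAddHom
      { toFun := fun m =>
          { toFun := fun x => φ x ⊗ₜ[A] m
            map_zero' := by rw [map_zero, zero_tmul]
            map_add' := fun x y => by rw [map_add, add_tmul] }
        map_zero' := by ext x; exact tmul_zero _ _
        map_add' := fun m m' => by ext x; exact tmul_add _ _ _ }
      (fun r m x => by
        change φ x ⊗ₜ[A] (r • m) = φ (r • x) ⊗ₜ[A] m
        rw [← algebraMap_smul A r m, ← smul_tmul, map_smul]
        congr 1
        exact algebraMap_smul A r (φ x))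
  refine subsingleton_of_forall_eq 0 fun x => ?_
  induction x using TensorProduct.induction_on with
  | zero => rfl
  | tmul c m =>
    have h1 : (1 : L) ⊗ₜ[A] m = 0 := by
      have h2 : ψ (m ⊗ₜ[R] (1 : K)) = 0 := by rw [Subsingleton.elim (m ⊗ₜ[R] (1 : K)) 0, map_zero]
      have h3 : ψ (m ⊗ₜ[R] (1 : K)) = φ 1 ⊗ₜ[A] m := rfl
      rw [h3, map_one] at h2
      exact h2
    have h4 : c ⊗ₜ[A] m = c • ((1 : L) ⊗ₜ[A] m) := by
      rw [smul_tmul', smul_eq_mul, mul_one]
    rw [h4, h1, smul_zero]
  | add x y hx hy => rw [hx, hy, add_zero]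

variable {C : ℕ → Type v} [∀ n, AddCommGroup (C n)] [∀ n, Module A (C n)] [∀ n, Module R (C n)]
  [∀ n, IsScalarTower R A (C n)] {d : ∀ n, C n →ₗ[A] C (n + 1)}

theorem exAt_of_local (φ : K →ₐ[R] L)
    (hdd : ∀ n x, d (n + 1) (d n x) = 0)
    (hflat : ∀ n, 1 ≤ n → Module.Flat R (C n)) (N : ℕ) (hN : ∀ n, N ≤ n → Subsingleton (C n))
    (hfin : ∀ n, FinAt d n)
    (hK : ∀ n, ExAt (X := fun n => C n ⊗[R] K)
      (fun n => (((d n).restrictScalars R).rTensor K : _ → _)) n) (n : ℕ) :
    ExAt (fun n => (d n : C n → C (n + 1))) n := by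
  -- reduction to one step
  suffices H : ∀ m, (∀ n, m < n → ExAt (fun n => (d n : C n → C (n + 1))) n) →
      ExAt (fun n => (d n : C n → C (n + 1))) m by
    have : ∀ k m, m + k = N → ∀ n, m ≤ n → ExAt (fun n => (d n : C n → C (n + 1))) n := by
      intro k
      induction k with
      | zero =>
        intro m hm n hn
        exact ExAt.of_subsingleton (hN n (by omega))
      | succ k ih =>
        intro m hm n hn
        rcases Nat.eq_or_lt_of_le hn with rfl | hlt
        · exact H _ fun n' hn' => ih (m + 1) (by omega) n' hn'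
        · exact ih (m + 1) (by omega) n hlt
    by_cases h : N ≤ n
    · exact ExAt.of_subsingleton (hN n h)
    · exact this (N - n) n (by omega) n le_rfl
  intro m hex
  let e : ∀ n, C n →ₗ[R] C (n + 1) := fun n => (d n).restrictScalars R
  have hee : ∀ n x, e (n + 1) (e n x) = 0 := hdd
  have hexe : ∀ n, m < n → ExAt (fun n => (e n : C n → C (n + 1))) n := hex
  rw [exAt_iff]
  have := (hfin m).finite
  refine subsingleton_of_tensor (A := A) (K := K) (L := L) φ (Hn d m) ?_
  -- the map from cycles
  let π : ker (e m) →ₗ[R] Hn d m :=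
    { toFun := fun x => Submodule.Quotient.mk ⟨x.1, x.2⟩
      map_add' := fun x y => rfl
      map_smul' := fun r x => rfl }
  have hπ : Function.Surjective π := by
    intro y
    obtain ⟨x, rfl⟩ := Submodule.mkQ_surjective _ y
    exact ⟨⟨x.1, x.2⟩, rfl⟩
  have hπ' := LinearMap.rTensor_surjective K hπ
  cases m with
  | zero =>
    have h1 := subsingleton_rTensor_ker (d := e) hee hflat N hN hexe K (hK 0)
    exact hπ'.subsingleton
  | succ k =>
    have h1 := surjective_rTensor_toCyc (d := e) hee hflat N hN k hexe K (hK (k + 1))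
    refine subsingleton_of_forall_eq 0 fun x => ?_
    obtain ⟨z, rfl⟩ := hπ' x
    obtain ⟨w, rfl⟩ := h1 z
    rw [← LinearMap.comp_apply, ← LinearMap.rTensor_comp]
    have h2 : π ∘ₗ toCyc e hee k = 0 := by
      ext x
      apply (Submodule.Quotient.mk_eq_zero _).2
      exact ⟨x, rfl⟩
    rw [h2, LinearMap.rTensor_zero]
    rfl

end Local

end Groth.Agent.CohqA.FlatCpx
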