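import Groth.Agent.CohqA.CechZero
import Groth.Agent.CohqA.AffineVanish
import Groth.Agent.CohqA.FlatCpxLocal

/-!
# The ordered Čech complex of a quasi-coherent module computes cohomology (vanishing criterion)
-/

set_option autoImplicit false
universe u

open CategoryTheory TopologicalSpace Opposite Limits AlgebraicGeometry

namespace Groth.Agent.CohqA.CechK

open Groth.Agent.Ega3B.CubeData Groth.Agent.Ega3B.CombRes Groth.Agent.CohqA.FlatCpx
open Groth.Agent.CohqA.CechZero Groth.Agent.CohqA.SheafH

variable {X : Scheme.{u}} {ι : Type} [LinearOrder ι] [Fintype ι]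

/-- A finite affine cover with affine intersections. -/
structure IsAffCov (U : ι → X.Opens) : Prop where
  cov : ⨆ i, U i = ⊤
  aff : ∀ s : Finset ι, s.Nonempty → IsAffineOpen (s.inf U)

/-- The ordered Čech datum of a family of opens of a scheme. -/
noncomputable abbrev DD (U : ι → X.Opens) : Data X.toTopCat := cech (X := X.toTopCat) U

variable {U : ι → X.Opens}

theorem isAffineOpen_W (hU : IsAffCov U) (n : ℕ) (b : (DD U).B n) :
    IsAffineOpen (X := X) ((DD U).W n b) := hU.aff b.1 b.2.1

theorem acyclic (hU : IsAffCov U) (M : X.Modules) [M.IsQuasicoherent] :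
    (DD U).Acyclic (Coh.toAb M) :=
  Data.Acyclic.of_H' fun k b q =>
    AffineVanish.HU_subsingleton M (q + 1) (by omega) _ (isAffineOpen_W hU k b)

theorem subsingleton_HH_iff (hU : IsAffCov U) (M : X.Modules) [M.IsQuasicoherent] (n : ℕ) :
    Subsingleton (Coh.HH X M (n + 1)) ↔
      ExAt (X := fun n => (DD U).K n (Coh.toAb M).obj)
        (fun n => ((DD U).δ n (Coh.toAb M).obj : _ → _)) (n + 1) := by
  have hL : (DD U).LocGood := cech_locGood (X := X.toTopCat) U hU.cov
  constructor
  · intro h x hx
    exact Data.θ_exact hL (acyclic hU M) n ⟨x, hx⟩ (Subsingleton.elim (α := Coh.HH X M (n + 1)) _ _)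
  · intro h
    refine subsingleton_of_forall_eq 0 fun c => ?_
    obtain ⟨⟨x, hx⟩, hc⟩ := Data.θ_surjective hL (acyclic hU M) (n + 1) c
    obtain ⟨y, rfl⟩ := h x hx
    rw [← hc]
    exact Data.θ_δ hL n y

end Groth.Agent.CohqA.CechK
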