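import Groth.Agent.CohqA.CechLoc
import Mathlib.AlgebraicGeometry.Modules.Tilde

/-!
# Localization facts for `M^~` on basic opens, and exactness of its Čech complex
-/

universe u
open CategoryTheory Limits Opposite TopologicalSpace AlgebraicGeometry

namespace Groth.Agent.CohqA.CechTilde

open CechBasic CechLoc

variable {R : CommRingCat.{u}} (M : ModuleCat.{u} R)

/-- The basic open of `f`, typed as an open of the scheme `Spec R`. -/
abbrev D (f : R) : (Spec R).Opens := PrimeSpectrum.basicOpen f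

lemma D_mul (f g : R) : D (f * g) = D f ⊓ D g := PrimeSpectrum.basicOpen_mul f g

/-- canonical map `M → Γ(U, M^~)` as a plain linear map. -/
noncomputable abbrev toO (U : (Spec R).Opens) : M →ₗ[R] Γ(tilde M, U) :=
  (tilde.toOpen M U).hom

lemma res_toO {U V : (Spec R).Opens} (h : V ≤ U) (m : M) :
    res (tilde M).presheaf h (toO M U m) = toO M V m := rfl

lemma res_smul {N : (Spec R).Modules} {U V : (Spec R).Opens} (h : V ≤ U) (a : R) (x : Γ(N, U)) :
    res N.presheaf h (a • x) = a • res N.presheaf h x :=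
  Scheme.Modules.map_smul_Spec _ _ _

lemma exists_smul_eq (g : R) (x : Γ(tilde M, D g)) :
    ∃ (n : ℕ) (m : M), g ^ n • x = toO M (D g) m := by
  obtain ⟨⟨m, ⟨_, n, rfl⟩⟩, h⟩ := IsLocalizedModule.surj (.powers g) (tilde.toOpen M (D g)).hom x
  exact ⟨n, m, h⟩

lemma exists_of_toO_eq_zero (g : R) (m : M) (h : toO M (D g) m = 0) :
    ∃ n : ℕ, g ^ n • m = 0 := by
  obtain ⟨⟨_, n, rfl⟩, hn⟩ :=
    (IsLocalizedModule.eq_zero_iff (.powers g) (tilde.toOpen M (D g)).hom).1 h
  exact ⟨n, hn⟩

lemma smul_injective {N : (Spec R).Modules} (g : R) (n : ℕ) {V : (Spec R).Opens}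
    (hV : V ≤ D g) {x y : Γ(N, V)} (h : g ^ n • x = g ^ n • y) : x = y :=
  ((N.isSMulRegular_of_le_basicOpen hV).pow n) h

lemma smul_surjective {N : (Spec R).Modules} (g : R) (n : ℕ) {V : (Spec R).Opens}
    (hV : V ≤ D g) (x : Γ(N, V)) : ∃ y : Γ(N, V), g ^ n • y = x := by
  have h := (Scheme.Modules.isUnit_algebraMap_end_of_le_basicOpen (M := N) (U := V) g hV).pow n
  rw [← map_pow, Module.End.isUnit_iff] at h
  exact h.surjective x

/-- Sections over `D(g)` vanishing on `D(f) ∩ D(g)` are killed by a power of `f`. -/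
lemma loc_inj (f g : R) (x : Γ(tilde M, D g))
    (hx : res (tilde M).presheaf (inf_le_right : D f ⊓ D g ≤ D g) x = 0) :
    ∃ N : ℕ, f ^ N • x = 0 := by
  obtain ⟨n, m, h⟩ := exists_smul_eq M g x
  have hle : D (f * g) ≤ D f ⊓ D g := (D_mul f g).le
  have h0 : toO M (D (f * g)) m = 0 := by
    rw [← res_toO M (hle.trans inf_le_right), ← h, res_smul, ← res_res (tilde M).presheaf hle inf_le_right,
      hx, map_zero, smul_zero]
  obtain ⟨k, hk⟩ := exists_of_toO_eq_zero M _ m h0
  refine ⟨k, smul_injective g (k + n) (le_refl (D g)) ?_⟩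
  rw [smul_zero, pow_add, mul_smul, smul_comm (g ^ n), h, ← map_smul, ← map_smul, smul_smul,
    ← mul_pow, mul_comm g f, hk, map_zero]

/-- Sections over `D(f) ∩ D(g)` extend to `D(g)` after multiplication by a power of `f`. -/
lemma loc_surj (f g : R) (y : Γ(tilde M, D f ⊓ D g)) :
    ∃ (N : ℕ) (x : Γ(tilde M, D g)),
      res (tilde M).presheaf (inf_le_right : D f ⊓ D g ≤ D g) x = f ^ N • y := by
  have heq : D (f * g) = D f ⊓ D g := D_mul f g
  obtain ⟨n, m, h⟩ := exists_smul_eq M (f * g) (res (tilde M).presheaf heq.le y)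
  obtain ⟨x, hx⟩ := smul_surjective g n (le_refl (D g)) (toO M (D g) m)
  refine ⟨n, x, ?_⟩
  apply smul_injective g n (inf_le_right : D f ⊓ D g ≤ D g)
  rw [← res_smul, hx, smul_smul, ← mul_pow, mul_comm g f, res_toO]
  have := congr_arg (res (tilde M).presheaf heq.ge) h
  rw [res_smul, res_res, res_self, res_toO] at this
  exact this.symm

lemma iInf_D {ι : Type*} (f : ι → R) {n : ℕ} (i : Fin n → ι) :
    (⨅ a, D (f (i a))) = D (∏ a, f (i a)) := by
  induction n with
  | zero =>
    rw [iInf_of_empty, Fin.prod_univ_zero]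
    exact PrimeSpectrum.basicOpen_one.symm
  | succ n ih =>
    rw [Fin.prod_univ_succ, D_mul, ← ih (fun a => i a.succ)]
    apply le_antisymm
    · exact le_inf (iInf_le _ 0) (le_iInf fun a => iInf_le _ a.succ)
    · refine le_iInf fun a => ?_
      refine Fin.cases inf_le_left (fun b => ?_) a
      exact inf_le_right.trans (iInf_le (fun a : Fin n => D (f (i a.succ))) b)

theorem exact_tilde {ι : Type u} [Finite ι] (f : ι → R) (hf : Ideal.span (Set.range f) = ⊤) (p : ℕ)
    (s : Cochain (fun i => D (f i)) (tilde M).presheaf (p+1))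
    (hs : dC _ (tilde M).presheaf (p+1) s = 0) : ∃ t, dC _ (tilde M).presheaf p t = s := by
  refine exact_of_localization (A := R) _ (tilde M).presheaf (fun h a x => res_smul h a x) f hf p
    ?_ ?_ s hs
  · intro k i
    rw [iInf_D]
    exact loc_inj M (f k) _
  · intro k i
    rw [iInf_D]
    exact loc_surj M (f k) _

end Groth.Agent.CohqA.CechTilde
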