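import Groth.Agent.Ega3B.CombCmp
import Groth.Agent.Ega3B.CubeData

/-!
# Degree zero of the ordered Čech complex

`δ_zero_eq_zero_iff`: a `0`-cochain of the ordered Čech complex of a presheaf is a cocycle iff the
sections agree on pairwise intersections.
-/

set_option autoImplicit false
universe u

open CategoryTheory TopologicalSpace Opposite Finset

namespace Groth.Agent.CohqA.CechZero

open Groth.Agent.Ega3B.CubeData Groth.Agent.Ega3B.CombRes Groth.Agent.Ega3B.Cube

variable {ι : Type} [LinearOrder ι] [Fintype ι] {X : TopCat.{u}} (U : ι → Opens X)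

/-- the singleton index -/
def sing (i : ι) : (cech U).B 0 := ⟨{i}, singleton_nonempty i, by simp⟩

theorem exists_sing (b : (cech U).B 0) : ∃ i, b = sing U i := by
  obtain ⟨s, hs, hs'⟩ := b
  obtain ⟨a, rfl⟩ := card_eq_one.1 (by simpa using hs')
  exact ⟨a, rfl⟩

theorem W_sing (i : ι) : (cech U).W 0 (sing U i) = U i := by
  change ({i} : Finset ι).inf U = U i
  rw [inf_singleton]

/-- the pair index -/
def pair {i j : ι} (h : i < j) : (cech U).B 1 :=
  ⟨{i, j}, by simp, by rw [card_pair h.ne]⟩

theorem W_pair {i j : ι} (h : i < j) : (cech U).W 1 (pair U h) = U i ⊓ U j := by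
  change ({i, j} : Finset ι).inf U = U i ⊓ U j
  rw [inf_insert, inf_singleton]

theorem exists_pair (b : (cech U).B 1) : ∃ (i j : ι) (h : i < j), b = pair U h := by
  obtain ⟨s, hs, hs'⟩ := b
  obtain ⟨i, j, hij, rfl⟩ := card_eq_two.1 (by simpa using hs')
  rcases lt_or_gt_of_ne hij with h | h
  · exact ⟨i, j, h, rfl⟩
  · exact ⟨j, i, h, Subtype.ext (pair_comm i j)⟩

theorem m_pair_left {i j : ι} (h : i < j) : (cech U).m 0 (pair U h) (sing U i) = -1 := by
  change ∑ k ∈ ({i} : Finset ι)ᶜ, (if insert k ({i} : Finset ι) = {i, j} then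
    sgn k ({i, j} : Finset ι) else 0) = -1
  rw [sum_eq_single j]
  · rw [if_pos (by rw [pair_comm]), sgn]
    have : ({i, j} : Finset ι).filter (· < j) = {i} := by
      ext k
      simp only [mem_filter, mem_insert, mem_singleton]
      constructor
      · rintro ⟨rfl | rfl, h'⟩
        · rfl
        · exact absurd h' (lt_irrefl _)
      · rintro rfl
        exact ⟨Or.inl rfl, h⟩
    rw [this]
    simp
  · intro k hk hkj
    rw [if_neg]
    intro h'
    have : k ∈ ({i, j} : Finset ι) := by rw [← h']; exact mem_insert_self _ _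
    simp only [mem_insert, mem_singleton] at this
    rcases this with rfl | rfl
    · simp at hk
    · exact hkj rfl
  · intro hj
    simp only [mem_compl, mem_singleton, not_not] at hj
    exact absurd hj h.ne'

theorem m_pair_right {i j : ι} (h : i < j) : (cech U).m 0 (pair U h) (sing U j) = 1 := by
  change ∑ k ∈ ({j} : Finset ι)ᶜ, (if insert k ({j} : Finset ι) = {i, j} then
    sgn k ({i, j} : Finset ι) else 0) = 1
  rw [sum_eq_single i]
  · rw [if_pos rfl, sgn]
    have : ({i, j} : Finset ι).filter (· < i) = ∅ := by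
      ext k
      simp only [mem_filter, mem_insert, mem_singleton, notMem_empty, iff_false, not_and]
      rintro (rfl | rfl)
      · exact lt_irrefl _
      · exact not_lt.2 h.le
    rw [this]
    simp
  · intro k hk hki
    rw [if_neg]
    intro h'
    have : k ∈ ({i, j} : Finset ι) := by rw [← h']; exact mem_insert_self _ _
    simp only [mem_insert, mem_singleton] at this
    rcases this with rfl | rfl
    · exact hki rfl
    · simp at hk
  · intro hj
    simp only [mem_compl, mem_singleton, not_not] at hj
    exact absurd hj h.ne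

theorem m_pair_other {i j : ι} (h : i < j) (b : (cech U).B 0) (hi : b ≠ sing U i)
    (hj : b ≠ sing U j) : (cech U).m 0 (pair U h) b = 0 := by
  by_contra h0
  have h1 := mat_ne_zero h0
  obtain ⟨k, rfl⟩ := exists_sing U b
  have h2 : k ∈ ({i, j} : Finset ι) := h1 (mem_singleton_self k)
  simp only [mem_insert, mem_singleton] at h2
  rcases h2 with rfl | rfl
  · exact hi rfl
  · exact hj rfl

variable {G : (Opens X)ᵒᵖ ⥤ AddCommGrpCat.{u}}

theorem le_left {i j : ι} (h : i < j) : (cech U).W 1 (pair U h) ≤ (cech U).W 0 (sing U i) := by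
  rw [W_pair, W_sing]
  exact inf_le_left

theorem le_right {i j : ι} (h : i < j) : (cech U).W 1 (pair U h) ≤ (cech U).W 0 (sing U j) := by
  rw [W_pair, W_sing]
  exact inf_le_right

theorem δ_zero_pair (x : (cech U).K 0 G) {i j : ι} (h : i < j) :
    (cech U).δ 0 G x (pair U h) =
      G.map (homOfLE (le_right U h)).op (x (sing U j)) -
        G.map (homOfLE (le_left U h)).op (x (sing U i)) := by
  classical
  have hne : sing U i ≠ sing U j := fun h' => h.ne (singleton_injective (Subtype.ext_iff.1 h'))
  rw [Data.δ_apply, ← Finset.sum_subset (Finset.subset_univ {sing U i, sing U j}),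
    Finset.sum_pair hne, dif_pos (le_left U h), dif_pos (le_right U h), m_pair_left, m_pair_right,
    one_smul, neg_one_smul]
  · abel
  · intro b _ hb
    simp only [mem_insert, mem_singleton, not_or] at hb
    rw [m_pair_other U h b hb.1 hb.2]
    split_ifs
    · rw [zero_smul]
    · rfl

theorem δ_zero_eq_zero_iff (x : (cech U).K 0 G) :
    (cech U).δ 0 G x = 0 ↔ ∀ (i j : ι) (h : i < j),
      G.map (homOfLE (le_left U h)).op (x (sing U i)) =
        G.map (homOfLE (le_right U h)).op (x (sing U j)) := by
  constructor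
  · intro hx i j h
    have := congrFun hx (pair U h)
    rw [δ_zero_pair, Pi.zero_apply, sub_eq_zero] at this
    exact this.symm
  · intro hx
    funext b
    obtain ⟨i, j, h, rfl⟩ := exists_pair U b
    rw [δ_zero_pair, hx i j h, sub_self, Pi.zero_apply]

/-- all pairwise compatibilities -/
theorem compatible_of_δ_zero {x : (cech U).K 0 G} (hx : (cech U).δ 0 G x = 0) (i j : ι)
    (V : Opens X) (hi : V ≤ (cech U).W 0 (sing U i)) (hj : V ≤ (cech U).W 0 (sing U j)) :
    G.map (homOfLE hi).op (x (sing U i)) = G.map (homOfLE hj).op (x (sing U j)) := by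
  rw [δ_zero_eq_zero_iff] at hx
  have key : ∀ (i j : ι) (h : i < j) (hi : V ≤ (cech U).W 0 (sing U i))
      (hj : V ≤ (cech U).W 0 (sing U j)),
      G.map (homOfLE hi).op (x (sing U i)) = G.map (homOfLE hj).op (x (sing U j)) := by
    intro i j h hi hj
    have hV : V ≤ (cech U).W 1 (pair U h) := by
      rw [W_pair]
      rw [W_sing] at hi hj
      exact le_inf hi hj
    have h1 := congrArg (G.map (homOfLE hV).op) (hx i j h)
    rw [← ConcreteCategory.comp_apply, ← ConcreteCategory.comp_apply, ← G.map_comp,
      ← G.map_comp] at h1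
    exact h1
  rcases lt_trichotomy i j with h | rfl | h
  · exact key i j h hi hj
  · rfl
  · exact (key j i h hj hi).symm

end Groth.Agent.CohqA.CechZero
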