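import Mathlib.RingTheory.Localization.Integral
import Mathlib.RingTheory.Localization.FractionRing
import Mathlib.LinearAlgebra.Dimension.Finite
import Mathlib.LinearAlgebra.FiniteDimensional.Basic
import Mathlib.RingTheory.Algebraic.Basic
import Mathlib.RingTheory.Algebraic.Integral
import Mathlib.LinearAlgebra.Basis.VectorSpace

/-!
# Algebra for Chevalley's affineness theorem

`A ⊂ B` a finite extension of domains with fraction fields `K ⊂ L`, and `R` another ring with
fraction field `L`: a `K`-basis of `L` made of elements of `R`, and denominators.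
-/

set_option autoImplicit false

namespace Groth.Agent.CohqA.ChevAlg

theorem span_range_eq_top (K L R : Type*) [Field K] [Field L] [Algebra K L] [CommRing R]
    [Algebra R L] [IsFractionRing R L]
    (halg : ∀ x : R, IsAlgebraic K (algebraMap R L x)) :
    Submodule.span K (Set.range (algebraMap R L)) = ⊤ := by
  set S := Algebra.adjoin K (Set.range (algebraMap R L)) with hS
  have h1 : Subalgebra.toSubmodule S = Submodule.span K (Set.range (algebraMap R L)) := by
    rw [hS, Algebra.adjoin_eq_span]
    congr 1
    have : Set.range (algebraMap R L) = (MonoidHom.mrange (algebraMap R L : R →* L) : Set L) := rfl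
    rw [this, Submonoid.closure_eq]
  rw [← h1, eq_top_iff]
  rintro l -
  obtain ⟨y, s, hs, rfl⟩ := IsFractionRing.div_surjective (A := R) l
  have hmem (x : R) : algebraMap R L x ∈ S := Algebra.subset_adjoin ⟨x, rfl⟩
  have hinv : (algebraMap R L s)⁻¹ ∈ S :=
    Subalgebra.inv_mem_of_algebraic S (x := ⟨_, hmem s⟩) (halg s)
  rw [div_eq_mul_inv]
  exact S.mul_mem (hmem y) hinv

section

variable (A B K L : Type*) [CommRing A] [CommRing B] [Field K] [Field L]
  [Algebra A K] [IsFractionRing A K] [Algebra B L] [IsFractionRing B L] [Algebra A B]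
  [Module.Finite A B] [Algebra K L] [Algebra A L] [IsScalarTower A B L] [IsScalarTower A K L]

omit [IsFractionRing A K] in
include A B in
theorem finiteDimensional : FiniteDimensional K L := by
  have hint (x : B) : IsAlgebraic K (algebraMap B L x) := by
    have h1 : IsIntegral A (algebraMap B L x) :=
      (Algebra.IsIntegral.isIntegral (R := A) x).map (IsScalarTower.toAlgHom A B L)
    exact (h1.tower_top (A := K)).isAlgebraic
  have h := span_range_eq_top K L B hint
  obtain ⟨s, hs⟩ := Module.Finite.fg_top (R := A) (M := B)
  classical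
  refine ⟨⟨s.image (algebraMap B L), ?_⟩⟩
  rw [eq_top_iff, ← h, Submodule.span_le]
  rintro _ ⟨x, rfl⟩
  have hx : x ∈ Submodule.span A (s : Set B) := hs ▸ Submodule.mem_top
  rw [Finset.coe_image]
  have h2 : algebraMap B L x ∈ Submodule.span A (algebraMap B L '' (s : Set B)) := by
    have := Submodule.mem_map_of_mem (f := (IsScalarTower.toAlgHom A B L).toLinearMap) hx
    rwa [Submodule.map_span] at this
  exact Submodule.span_subset_span A K _ h2

omit [Module.Finite A B] in
include K in
theorem exists_denom_single [IsDomain A] {r : ℕ} (b : Fin r → L)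
    (hspan : Submodule.span K (Set.range b) = ⊤) (x : L) :
    ∃ a : A, a ≠ 0 ∧ ∃ z : Fin r → A,
      algebraMap A L a * x = ∑ i, algebraMap A L (z i) * b i := by
  have hx : x ∈ Submodule.span K (Set.range b) := hspan ▸ Submodule.mem_top
  obtain ⟨k, hk⟩ := (Submodule.mem_span_range_iff_exists_fun K).mp hx
  obtain ⟨d, hd⟩ := IsLocalization.exist_integer_multiples_of_finite (nonZeroDivisors A) k
  choose z hz using hd
  refine ⟨d, nonZeroDivisors.ne_zero d.2, z, ?_⟩
  rw [← hk, Finset.mul_sum]
  refine Finset.sum_congr rfl fun i _ => ?_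
  have h1 : algebraMap A L (z i) = algebraMap K L ((d : A) • k i) := by
    rw [← hz i, ← IsScalarTower.algebraMap_apply]
  rw [h1, Algebra.smul_def, Algebra.smul_def, map_mul, ← IsScalarTower.algebraMap_apply, mul_assoc]

include K in
/-- There is a nonzero common denominator for the coordinates of elements of `B` with respect to
elements `b i` that span `L` over `K`. -/
theorem exists_denom [IsDomain A] {r : ℕ} (b : Fin r → L)
    (hspan : Submodule.span K (Set.range b) = ⊤) (t : A) (ht : t ≠ 0) :
    ∃ a : A, a ≠ 0 ∧ ∀ x : B, ∃ z : Fin r → A,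
      algebraMap A L a * algebraMap B L x = ∑ i, algebraMap A L (t * z i) * b i := by
  classical
  obtain ⟨s, hs⟩ := Module.Finite.fg_top (R := A) (M := B)
  choose d hd z hz using fun x : B => exists_denom_single A K L b hspan (algebraMap B L x)
  refine ⟨t * ∏ x ∈ s, d x, mul_ne_zero ht (Finset.prod_ne_zero_iff.mpr fun x _ => hd x), ?_⟩
  intro x
  have hx : x ∈ Submodule.span A (s : Set B) := hs ▸ Submodule.mem_top
  induction hx using Submodule.span_induction with
  | mem x hx =>
    refine ⟨fun i => (∏ y ∈ s.erase x, d y) * z x i, ?_⟩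
    rw [← Finset.mul_prod_erase s d hx]
    have h1 := hz x
    calc algebraMap A L (t * (d x * ∏ y ∈ s.erase x, d y)) * algebraMap B L x
        = algebraMap A L (t * ∏ y ∈ s.erase x, d y) * (algebraMap A L (d x) * algebraMap B L x) := by
          simp only [map_mul]; ring
      _ = _ := by
        rw [h1, Finset.mul_sum]
        refine Finset.sum_congr rfl fun i _ => ?_
        simp only [map_mul]; ring
  | zero => exact ⟨0, by simp⟩
  | add x y _ _ h1 h2 =>
    obtain ⟨z1, h1⟩ := h1
    obtain ⟨z2, h2⟩ := h2
    refine ⟨z1 + z2, ?_⟩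
    rw [map_add, mul_add, h1, h2, ← Finset.sum_add_distrib]
    refine Finset.sum_congr rfl fun i _ => ?_
    simp only [map_mul, Pi.add_apply, map_add]; ring
  | smul c x _ h1 =>
    obtain ⟨z1, h1⟩ := h1
    refine ⟨fun i => c * z1 i, ?_⟩
    rw [Algebra.smul_def, map_mul (algebraMap B L), ← IsScalarTower.algebraMap_apply,
      mul_left_comm, h1, Finset.mul_sum]
    refine Finset.sum_congr rfl fun i _ => ?_
    simp only [map_mul]; ring

end

/-- A `K`-basis of `L` consisting of elements of `R`. -/
theorem exists_basis (K L R : Type*) [Field K] [Field L] [Algebra K L] [CommRing R]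
    [Algebra R L] [IsFractionRing R L] [FiniteDimensional K L] :
    ∃ (r : ℕ) (b : Fin r → R), LinearIndependent K (fun i => algebraMap R L (b i)) ∧
      Submodule.span K (Set.range (fun i => algebraMap R L (b i))) = ⊤ := by
  have h := span_range_eq_top K L R (fun x => Algebra.IsAlgebraic.isAlgebraic _)
  obtain ⟨t, hts, hspan, hli⟩ := exists_linearIndependent K (Set.range (algebraMap R L))
  have hfin : t.Finite := hli.setFinite
  have := hfin.to_subtype
  obtain ⟨r, ⟨e⟩⟩ := Finite.exists_equiv_fin t
  choose g hg using fun x : t => hts x.2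
  refine ⟨r, fun i => g (e.symm i), ?_, ?_⟩
  · have : (fun i => algebraMap R L (g (e.symm i))) = Subtype.val ∘ e.symm := by
      ext i; exact hg _
    rw [this]
    exact hli.comp _ e.symm.injective
  · have : (Set.range fun i => algebraMap R L (g (e.symm i))) = t := by
      ext x
      simp only [Set.mem_range, hg]
      constructor
      · rintro ⟨i, rfl⟩; exact (e.symm i).2
      · intro hx; exact ⟨e ⟨x, hx⟩, by simp⟩
    rw [this, hspan, h]

end Groth.Agent.CohqA.ChevAlg
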