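import Groth.Agent.CohqA.ChevAlg
import Mathlib.AlgebraicGeometry.FunctionField
import Mathlib.AlgebraicGeometry.Morphisms.Finite
import Mathlib.AlgebraicGeometry.Morphisms.QuasiSeparated

/-!
# Generic freeness data for a finite surjective morphism from an affine integral scheme
-/

set_option autoImplicit false
universe u

open AlgebraicGeometry CategoryTheory Limits TopologicalSpace Opposite

namespace Groth.Agent.CohqA.ChevGen

/-- A nonzero section over an affine open of an integral affine scheme divides a nonzero global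
section. -/
theorem exists_global_multiple {Y : Scheme.{u}} [IsIntegral Y] [IsAffine Y] (U : Y.Opens)
    (hU : IsAffineOpen U) (a : Γ(Y, U)) (ha : a ≠ 0) :
    ∃ (c : Γ(Y, ⊤)) (v : Γ(Y, U)), c ≠ 0 ∧ Y.presheaf.map (homOfLE le_top).op c = a * v := by
  have hne : Y.basicOpen a ≠ ⊥ := by
    rw [Ne, basicOpen_eq_bot_iff]
    exact ha
  obtain ⟨x, hx⟩ : ∃ x : Y, x ∈ Y.basicOpen a := by
    by_contra h
    push Not at h
    exact hne (by ext x; simpa using h x)
  obtain ⟨c₀, hc₀, hxc⟩ := (isAffineOpen_top Y).exists_basicOpen_le (V := Y.basicOpen a)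
    ⟨x, hx⟩ trivial
  set c₁ : Γ(Y, U) := Y.presheaf.map (homOfLE le_top).op c₀ with hc₁
  have hUne : Nonempty U := ⟨⟨x, Y.basicOpen_le a hx⟩⟩
  have hb : Y.basicOpen c₁ ≤ Y.basicOpen a := by
    rw [hc₁, Scheme.basicOpen_res]
    exact inf_le_right.trans hc₀
  have hloc : IsLocalization.Away c₁ Γ(Y, Y.basicOpen c₁) := hU.isLocalization_basicOpen c₁
  have hunit : IsUnit (algebraMap Γ(Y, U) Γ(Y, Y.basicOpen c₁) a) := by
    have h1 := RingedSpace.isUnit_res_basicOpen Y.toRingedSpace a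
    have h2 := h1.map (Y.presheaf.map (homOfLE hb).op).hom
    convert h2 using 1
    change _ = (Y.presheaf.map _ ≫ Y.presheaf.map _) a
    rw [← Functor.map_comp]
    rfl
  have hc₁0 : c₁ ≠ 0 := by
    intro h0
    have : x ∈ Y.basicOpen c₁ := by
      rw [hc₁, Scheme.basicOpen_res]
      exact ⟨Y.basicOpen_le a hx, hxc⟩
    rw [h0, Scheme.basicOpen_zero] at this
    exact this
  obtain ⟨w, hw⟩ := hunit.exists_right_inv
  obtain ⟨⟨y, ⟨_, n, rfl⟩⟩, hy⟩ := IsLocalization.surj (Submonoid.powers c₁) w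
  have h3 : algebraMap Γ(Y, U) Γ(Y, Y.basicOpen c₁) (a * y) =
      algebraMap Γ(Y, U) Γ(Y, Y.basicOpen c₁) (c₁ ^ n) := by
    rw [map_mul]
    have hy' : w * algebraMap Γ(Y, U) Γ(Y, Y.basicOpen c₁) (c₁ ^ n) =
      algebraMap Γ(Y, U) Γ(Y, Y.basicOpen c₁) y := hy
    rw [← hy', ← mul_assoc, hw, one_mul]
  obtain ⟨⟨_, m, rfl⟩, hm⟩ := IsLocalization.exists_of_eq (M := Submonoid.powers c₁) h3
  have hm' : c₁ ^ m * (a * y) = c₁ ^ m * c₁ ^ n := hm
  have h4 := mul_left_cancel₀ (pow_ne_zero m hc₁0) hm'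
  refine ⟨c₀ ^ n, y, ?_, by rw [map_pow]; exact h4.symm⟩
  intro h0
  have : c₁ ^ n = 0 := by rw [hc₁, ← map_pow, h0, map_zero]
  exact pow_ne_zero n hc₁0 this

section

variable {Y Z : Scheme.{u}} [IsIntegral Y] [IsIntegral Z] (g : Y ⟶ Z) [Surjective g]

theorem map_genericPoint : g (genericPoint Y) = genericPoint Z := by
  have h := (genericPoint_spec Y).image g.continuous
  have h2 : closure (g '' Set.univ) = Set.univ := by
    rw [Set.image_univ, g.surjective.range_eq, closure_univ]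
  rw [h2] at h
  exact h.eq (genericPoint_spec Z)

omit [IsIntegral Y] [IsIntegral Z] in
theorem nonempty_preimage (V : Z.Opens) [Nonempty V] : Nonempty (g ⁻¹ᵁ V) := by
  obtain ⟨⟨v, hv⟩⟩ := ‹Nonempty V›
  obtain ⟨y, rfl⟩ := g.surjective v
  exact ⟨⟨y, hv⟩⟩

/-- The map on function fields. -/
noncomputable def ffMap : Z.functionField ⟶ Y.functionField :=
  Z.presheaf.stalkSpecializes (specializes_of_eq (map_genericPoint g)) ≫
    g.stalkMap (genericPoint Y)

theorem germ_ffMap (V : Z.Opens) [Nonempty V] [Nonempty (g ⁻¹ᵁ V)] :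
    Z.germToFunctionField V ≫ ffMap g = g.app V ≫ Y.germToFunctionField (g ⁻¹ᵁ V) := by
  rw [ffMap, Scheme.germToFunctionField, TopCat.Presheaf.germ_stalkSpecializes_assoc,
    Scheme.Hom.germ_stalkMap]

theorem ffMap_germ (V : Z.Opens) [Nonempty V] [Nonempty (g ⁻¹ᵁ V)] (x : Γ(Z, V)) :
    ffMap g (Z.germToFunctionField V x) = Y.germToFunctionField (g ⁻¹ᵁ V) (g.app V x) :=
  congr($(germ_ffMap g V) x)

omit [Surjective g] in
theorem germ_res {U V : Y.Opens} [Nonempty U] [Nonempty V] (h : V ≤ U) (x : Γ(Y, U)) :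
    Y.germToFunctionField V (Y.presheaf.map (homOfLE h).op x) = Y.germToFunctionField U x :=
  Y.presheaf.germ_res_apply (homOfLE h) _ _ x

theorem exists_generic_data [IsAffine Y] [IsFinite g] :
    ∃ (r : ℕ) (b : Fin r → Γ(Y, ⊤)),
      (∀ (W : Z.Opens) [Nonempty W] (x : Fin r → Γ(Z, W)),
        ∑ i, g.app W (x i) * Y.presheaf.map (homOfLE (le_top (a := g ⁻¹ᵁ W))).op (b i) = 0 →
          ∀ i, x i = 0) ∧
      (∀ (V : Z.Opens) [Nonempty V], IsAffineOpen V → ∀ (t : Γ(Z, V)), t ≠ 0 →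
        ∃ c : Γ(Y, ⊤), c ≠ 0 ∧ ∀ x : Γ(Y, g ⁻¹ᵁ V), ∃ z : Fin r → Γ(Z, V),
          Y.presheaf.map (homOfLE (le_top (a := g ⁻¹ᵁ V))).op c * x =
            ∑ i, g.app V (t * z i) * Y.presheaf.map (homOfLE (le_top (a := g ⁻¹ᵁ V))).op (b i)) := by
  let algKL : Algebra Z.functionField Y.functionField := (ffMap g).hom.toAlgebra
  have : Nonempty (⊤ : Y.Opens) := ⟨⟨genericPoint Y, trivial⟩⟩
  have hfracT : IsFractionRing Γ(Y, ⊤) Y.functionField :=
    functionField_isFractionRing_of_isAffineOpen Y ⊤ (isAffineOpen_top Y)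
  -- finite dimensionality
  have hfin : FiniteDimensional Z.functionField Y.functionField := by
    obtain ⟨_, ⟨V, hV, rfl⟩, hxV, -⟩ :=
      Z.isBasis_affineOpens.exists_subset_of_mem_open (Set.mem_univ (genericPoint Z)) isOpen_univ
    have : Nonempty V := ⟨⟨_, hxV⟩⟩
    have := nonempty_preimage g V
    have : IsFractionRing Γ(Y, g ⁻¹ᵁ V) Y.functionField :=
      functionField_isFractionRing_of_isAffineOpen Y _ (hV.preimage g)
    let : Algebra Γ(Z, V) Γ(Y, g ⁻¹ᵁ V) := (g.app V).hom.toAlgebra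
    let : Algebra Γ(Z, V) Y.functionField :=
      (algebraMap Γ(Y, g ⁻¹ᵁ V) Y.functionField).comp (algebraMap Γ(Z, V) Γ(Y, g ⁻¹ᵁ V)) |>.toAlgebra
    have : IsScalarTower Γ(Z, V) Γ(Y, g ⁻¹ᵁ V) Y.functionField := .of_algebraMap_eq' rfl
    have : IsScalarTower Γ(Z, V) Z.functionField Y.functionField :=
      .of_algebraMap_eq fun x => (ffMap_germ g V x).symm
    have : Module.Finite Γ(Z, V) Γ(Y, g ⁻¹ᵁ V) := IsFinite.finite_app g V hV
    exact ChevAlg.finiteDimensional Γ(Z, V) Γ(Y, g ⁻¹ᵁ V) _ _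
  obtain ⟨r, b, hli, hspan⟩ := ChevAlg.exists_basis Z.functionField Y.functionField Γ(Y, ⊤)
  refine ⟨r, b, ?_, ?_⟩
  · intro W _ x hx i
    have := nonempty_preimage g W
    have h1 := congr(Y.germToFunctionField (g ⁻¹ᵁ W) $hx)
    rw [map_sum, map_zero] at h1
    simp only [map_mul, germ_res, ← ffMap_germ] at h1
    have h2 := Fintype.linearIndependent_iff.mp hli (fun i => Z.germToFunctionField W (x i)) h1 i
    exact (map_eq_zero_iff _ (Scheme.germToFunctionField_injective Z W)).mp h2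
  · intro V _ hV t ht
    have := nonempty_preimage g V
    have : IsFractionRing Γ(Y, g ⁻¹ᵁ V) Y.functionField :=
      functionField_isFractionRing_of_isAffineOpen Y _ (hV.preimage g)
    have : IsFractionRing Γ(Z, V) Z.functionField :=
      functionField_isFractionRing_of_isAffineOpen Z _ hV
    let : Algebra Γ(Z, V) Γ(Y, g ⁻¹ᵁ V) := (g.app V).hom.toAlgebra
    let : Algebra Γ(Z, V) Y.functionField :=
      (algebraMap Γ(Y, g ⁻¹ᵁ V) Y.functionField).comp (algebraMap Γ(Z, V) Γ(Y, g ⁻¹ᵁ V)) |>.toAlgebra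
    have : IsScalarTower Γ(Z, V) Γ(Y, g ⁻¹ᵁ V) Y.functionField := .of_algebraMap_eq' rfl
    have : IsScalarTower Γ(Z, V) Z.functionField Y.functionField :=
      .of_algebraMap_eq fun x => (ffMap_germ g V x).symm
    have : Module.Finite Γ(Z, V) Γ(Y, g ⁻¹ᵁ V) := IsFinite.finite_app g V hV
    obtain ⟨a, ha, hz⟩ := ChevAlg.exists_denom Γ(Z, V) Γ(Y, g ⁻¹ᵁ V) Z.functionField
      Y.functionField _ hspan t ht
    have hinj : Function.Injective (g.app V) := by
      rw [injective_iff_map_eq_zero]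
      intro x hx
      have h1 := ffMap_germ g V x
      rw [hx, map_zero] at h1
      have h2 := (map_eq_zero_iff _ (ffMap g).hom.injective).mp h1
      exact (map_eq_zero_iff _ (Scheme.germToFunctionField_injective Z V)).mp h2
    obtain ⟨c, v, hc, hcv⟩ := exists_global_multiple (g ⁻¹ᵁ V) (hV.preimage g) (g.app V a)
      (by rwa [Ne, map_eq_zero_iff _ hinj])
    refine ⟨c, hc, fun x => ?_⟩
    obtain ⟨z, hz⟩ := hz (v * x)
    refine ⟨z, Scheme.germToFunctionField_injective Y (g ⁻¹ᵁ V) ?_⟩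
    rw [hcv, mul_assoc, map_mul, map_sum]
    refine Eq.trans hz (Finset.sum_congr rfl fun i _ => ?_)
    refine Eq.trans ?_ (map_mul (Y.germToFunctionField (g ⁻¹ᵁ V)).hom _ _).symm
    exact congr($(rfl) * $((germ_res (le_top (a := g ⁻¹ᵁ V)) (b i)).symm))

theorem exists_isUnit_of_ne_zero [IsFinite g] (c : Γ(Y, ⊤)) (hc : c ≠ 0) :
    ∃ W : Z.Opens, genericPoint Z ∈ W ∧
      IsUnit (Y.presheaf.map (homOfLE (le_top (a := g ⁻¹ᵁ W))).op c) := by
  obtain ⟨_, ⟨V, hV, rfl⟩, hxV, -⟩ :=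
    Z.isBasis_affineOpens.exists_subset_of_mem_open (Set.mem_univ (genericPoint Z)) isOpen_univ
  have : Nonempty V := ⟨⟨_, hxV⟩⟩
  have := nonempty_preimage g V
  let : Algebra Γ(Z, V) Γ(Y, g ⁻¹ᵁ V) := (g.app V).hom.toAlgebra
  have : Module.Finite Γ(Z, V) Γ(Y, g ⁻¹ᵁ V) := IsFinite.finite_app g V hV
  set c₁ : Γ(Y, g ⁻¹ᵁ V) := Y.presheaf.map (homOfLE (le_top (a := g ⁻¹ᵁ V))).op c with hc₁
  have hc₁0 : c₁ ≠ 0 := by
    intro h0
    have : Nonempty (⊤ : Y.Opens) := ⟨⟨genericPoint Y, trivial⟩⟩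
    have h1 := germ_res (le_top (a := g ⁻¹ᵁ V)) c
    rw [← hc₁, h0, map_zero] at h1
    exact hc ((map_eq_zero_iff _ (Scheme.germToFunctionField_injective Y ⊤)).mp h1.symm)
  have hint : _root_.IsIntegral Γ(Z, V) c₁ := Algebra.IsIntegral.isIntegral c₁
  have hne := Ideal.comap_ne_bot_of_integral_mem (I := Ideal.span {c₁}) hc₁0
    (Ideal.mem_span_singleton_self c₁) hint
  obtain ⟨w, hw, hw0⟩ := Submodule.exists_mem_ne_zero_of_ne_bot hne
  obtain ⟨v, hv⟩ := Ideal.mem_span_singleton.mp hw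
  refine ⟨Z.basicOpen w, ?_, ?_⟩
  · rw [Scheme.mem_basicOpen _ _ _ hxV, isUnit_iff_ne_zero]
    exact fun h => hw0 ((map_eq_zero_iff _ (Scheme.germToFunctionField_injective Z V)).mp h)
  · have hle : g ⁻¹ᵁ Z.basicOpen w ≤ g ⁻¹ᵁ V := g.preimage_mono (Z.basicOpen_le w)
    have h1 : IsUnit (Y.presheaf.map (homOfLE hle).op (g.app V w)) := by
      have h2 := (RingedSpace.isUnit_res_basicOpen Z.toRingedSpace w).map
        (g.app (Z.basicOpen w)).hom
      convert h2 using 1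
      exact congr($((g.naturality (homOfLE (Z.basicOpen_le w)).op)) w).symm
    have h3 : g.app V w = c₁ * v := hv
    rw [h3, map_mul] at h1
    have h4 := isUnit_of_mul_isUnit_left h1
    convert h4 using 1
    rw [hc₁]
    change _ = (Y.presheaf.map _ ≫ Y.presheaf.map _) c
    rw [← Functor.map_comp]
    rfl

end

end Groth.Agent.CohqA.ChevGen
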