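import Groth.Agent.CohqA.DevSub
import Groth.Agent.CohqB.QC5
import Groth.Agent.S0045

/-!
# Dévissage of coherent modules on a Noetherian scheme
-/

universe u

open CategoryTheory CategoryTheory.Limits AlgebraicGeometry TopologicalSpace Opposite

namespace Groth.Agent.CohqA.DevInd

open AlgebraicGeometry.Scheme.Modules

variable {X : Scheme.{u}}

/-- Noetherian induction for quasi-coherent submodules of a coherent module. -/
theorem subobject_induction [IsNoetherian X] {M : X.Modules} (hM : Coh.IsCoh M)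
    (P : Subobject M → Prop) (h0 : P ⊥) (h0' : Coh.IsQCoh ((⊥ : Subobject M) : X.Modules))
    (hstep : ∀ N : Subobject M, Coh.IsQCoh (N : X.Modules) → P N → N ≠ ⊤ →
      ∃ N' : Subobject M, N < N' ∧ Coh.IsQCoh (N' : X.Modules) ∧ P N') : P ⊤ := by
  by_contra hP
  let S := {N : Subobject M // Coh.IsQCoh (N : X.Modules) ∧ P N}
  have hnext : ∀ N : S, ∃ N' : S, N.1 < N'.1 := by
    rintro ⟨N, hN, hPN⟩
    have hne : N ≠ ⊤ := by
      rintro rfl
      exact hP hPN
    obtain ⟨N', h1, h2, h3⟩ := hstep N hN hPN hne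
    exact ⟨⟨N', h2, h3⟩, h1⟩
  choose next hlt using hnext
  let s : ℕ → S := fun n => next^[n] ⟨⊥, h0', h0⟩
  have hs : ∀ n, (s n).1 < (s (n + 1)).1 := by
    intro n
    have : s (n + 1) = next (s n) := Function.iterate_succ_apply' next n _
    rw [this]
    exact hlt _
  let F : ℕ →o Subobject M := ⟨fun n => (s n).1, monotone_nat_of_le_succ fun n => (hs n).le⟩
  obtain ⟨n, hn⟩ := S0045.result X M hM F (fun n => (s n).2.1)
  exact (hs n).ne (hn (n + 1) (Nat.le_succ n)).symm

/-- The quotients allowed in dévissage: push-forwards of nonzero quasi-coherent ideals of integral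
closed subschemes. -/
def IsDevQuot (Q : X.Modules) : Prop :=
  ∃ (Z : Scheme.{u}) (i : Z ⟶ X), IsClosedImmersion i ∧ IsIntegral Z ∧
    ∃ (I : Z.Modules) (ι : I ⟶ Coh.structureModule Z), Mono ι ∧ Coh.IsQCoh I ∧ ¬ IsZero I ∧
      Nonempty (Q ≅ (Coh.push i).obj I)

/-- Dévissage. -/
theorem coh_induction [IsNoetherian X] (P : X.Modules → Prop)
    (hiso : ∀ M N : X.Modules, Nonempty (M ≅ N) → P M → P N) (h0 : ∀ M : X.Modules, IsZero M → P M)
    (hstep : ∀ (A B : X.Modules) (f : A ⟶ B), Mono f → Coh.IsCoh A → Coh.IsCoh B →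
      IsDevQuot (cokernel f) → P A → P B) (M : X.Modules) (hM : Coh.IsCoh M) : P M := by
  have hbot : IsZero ((⊥ : Subobject M) : X.Modules) :=
    (isZero_zero _).of_iso Subobject.botCoeIsoZero
  suffices h : P ((⊤ : Subobject M) : X.Modules) by
    exact hiso _ _ ⟨asIso (⊤ : Subobject M).arrow⟩ h
  refine subobject_induction hM (fun N => P (N : X.Modules)) (h0 _ hbot)
    (PerfA.CohSerre.isCoh_of_isZero hbot).1 fun N hN hPN hne => ?_
  have hNc : Coh.IsCoh (N : X.Modules) := PerfA.CohSerre.isCoh_of_mono N.arrow hN hM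
  have hQ : Coh.IsCoh (cokernel N.arrow) := PerfA.CohSerre.isCoh_cokernel N.arrow hN hM
  have hQ0 : ¬ IsZero (cokernel N.arrow) := by
    intro h
    have : Epi N.arrow := Preadditive.epi_of_isZero_cokernel _ h
    have : IsIso N.arrow := isIso_of_mono_of_epi _
    exact hne (Subobject.eq_top_of_isIso_arrow N)
  obtain ⟨Z, i, hi, hZ, I, ι, hι, hI, hI0, k, hk⟩ := DevSub.exists_mono_push hQ.1 hQ0
  let p : pullback (cokernel.π N.arrow) k ⟶ M := pullback.fst _ _
  let q : pullback (cokernel.π N.arrow) k ⟶ (Coh.push i).obj I := pullback.snd _ _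
  let f : (N : X.Modules) ⟶ pullback (cokernel.π N.arrow) k :=
    pullback.lift N.arrow 0 (by rw [cokernel.condition, zero_comp])
  have hf : f ≫ p = N.arrow := pullback.lift_fst _ _ _
  have hfq : f ≫ q = 0 := pullback.lift_snd _ _ _
  have hfm : Mono f := mono_of_mono_fac hf
  have hqe : Epi q := inferInstance
  have hpm : Mono p := inferInstance
  have hse : (ShortComplex.mk f q hfq).Exact := by
    apply ShortComplex.exact_of_f_is_kernel
    refine KernelFork.IsLimit.ofι' f hfq fun {T} t ht => ?_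
    have h1 : (t ≫ p) ≫ cokernel.π N.arrow = 0 := by
      rw [Category.assoc, pullback.condition, ← Category.assoc]
      change (t ≫ q) ≫ k = 0
      rw [ht, zero_comp]
    refine ⟨Abelian.monoLift N.arrow (t ≫ p) h1, ?_⟩
    rw [← cancel_mono p, Category.assoc, hf, Abelian.monoLift_comp]
  have hPq : Coh.IsQCoh (pullback (cokernel.π N.arrow) k) :=
    CohqB.QC5.isQuasicoherent_of_extension (S := ShortComplex.mk f q hfq) hse hN
      (Ega1.QcqsPush.isQCoh_pushforward i _ hI)
  have hPc : Coh.IsCoh (pullback (cokernel.π N.arrow) k) :=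
    PerfA.CohSerre.isCoh_of_mono p hPq hM
  have hdev : IsDevQuot (cokernel f) := by
    exact ⟨Z, i, hi, hZ, I, ι, hι, hI, hI0,
      ⟨(cokernelIsCokernel f).coconePointUniqueUpToIso hse.gIsCokernel⟩⟩
  have hPP := hstep _ _ f hfm hNc hPc hdev hPN
  refine ⟨Subobject.mk p, lt_of_le_of_ne (Subobject.le_mk_of_comm f hf) ?_, ?_, ?_⟩
  · intro heq
    have hle : Subobject.mk p ≤ N := heq.ge
    let g : pullback (cokernel.π N.arrow) k ⟶ (N : X.Modules) :=
      (Subobject.underlyingIso p).inv ≫ Subobject.ofLE _ _ hle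
    have hg : g ≫ N.arrow = p := by simp [g]
    have hgf : g ≫ f = 𝟙 _ := by
      rw [← cancel_mono p, Category.assoc, hf, hg, Category.id_comp]
    have hq0 : q = 0 := by
      rw [← Category.id_comp q, ← hgf, Category.assoc, hfq, comp_zero]
    have hz : IsZero ((Coh.push i).obj I) := IsZero.of_epi_eq_zero q hq0
    apply hI0
    rw [IsZero.iff_id_eq_zero] at hz ⊢
    apply (Coh.push i).map_injective
    rw [CategoryTheory.Functor.map_id, hz, Functor.map_zero]
  · exact Ega1.QCohLoc.isQCoh_of_iso (Subobject.underlyingIso p).symm hPq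
  · exact hiso _ _ ⟨(Subobject.underlyingIso p).symm⟩ hPP

end Groth.Agent.CohqA.DevInd
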