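import Groth.Agent.CohqA.ChevSheaf
import Groth.Agent.Sga67.ClosedPush
import Groth.Agent.CohqB.HSeqMod
import Groth.Agent.PerfA.CohSerre
import Groth.Agent.CohqA.AffineVanish
import Groth.Agent.CohqA.FinSec
import Groth.Agent.Fdesc.StructMod
import Groth.Agent.S0012
import Groth.Agent.S0019
import Groth.Agent.S0020
import Groth.Agent.S0027
import Groth.Agent.S0009

/-!
# Chevalley's theorem: Noetherian induction
-/

set_option autoImplicit false
universe u

open AlgebraicGeometry CategoryTheory Limits TopologicalSpace Opposite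

namespace Groth.Agent.CohqA.ChevMain

attribute [local instance] Abelian.hasFiniteBiproducts

/-- Additive functors kill finite biproducts of killed objects. -/
theorem isZero_map_biproduct {C D : Type*} [Category C] [Category D] [Preadditive C]
    [Preadditive D] (F : C ⥤ D) [F.Additive] {J : Type} [Fintype J] (A : J → C) [HasBiproduct A]
    (h : ∀ j, IsZero (F.obj (A j))) : IsZero (F.obj (⨁ A)) := by
  classical
  rw [IsZero.iff_id_eq_zero, ← F.map_id, ← biproduct.total, F.map_sum]
  refine Finset.sum_eq_zero fun j _ => ?_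
  rw [F.map_comp, (h j).eq_zero_of_tgt (F.map (biproduct.π A j)), zero_comp]

theorem support_biproduct_subset {X : Scheme.{u}} {r : ℕ} (A : Fin r → X.Modules) (T : Set X)
    (h : ∀ j, CohB1.support (A j) ⊆ T) : CohB1.support (⨁ A) ⊆ T := by
  intro x hx
  by_contra hxT
  refine (CohqB.DevSupport.not_mem_support_iff_isZero _ _).mpr ?_ hx
  refine isZero_map_biproduct _ A fun j => ?_
  exact (CohqB.DevSupport.not_mem_support_iff_isZero _ _).mp fun hj => hxT (h j hj)

/-- A finite direct sum of coherent modules is coherent. -/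
theorem isCoh_biproduct {X : Scheme.{u}} {r : ℕ} (A : Fin r → X.Modules)
    (h : ∀ j, Coh.IsCoh (A j)) : Coh.IsCoh (⨁ A) := by
  have hq : Coh.IsQCoh (⨁ A) := HBiprod.isQCoh_biproduct A fun j => (h j).1
  refine ⟨hq, FinSec.isFT_of_finite hq fun x => ?_⟩
  obtain ⟨_, ⟨U, hU, rfl⟩, hxU, -⟩ :=
    X.isBasis_affineOpens.exists_subset_of_mem_open (Set.mem_univ x) isOpen_univ
  refine ⟨U, hU, hxU, ?_⟩
  have : ∀ j, Module.Finite Γ(X, U) Γ(A j, U) := fun j =>
    FinSec.finite_sections hU (h j).1 (h j).2
  let φ : (∀ j, Γ(A j, U)) →ₗ[Γ(X, U)] Γ(⨁ A, U) :=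
    { toFun := fun z => ∑ j, (biproduct.ι A j).app U (z j)
      map_add' := fun z w => by
        simp only [Pi.add_apply, map_add, Finset.sum_add_distrib]
      map_smul' := fun c z => by
        simp only [Pi.smul_apply, Scheme.Modules.Hom.app_smul, Finset.smul_sum, RingHom.id_apply] }
  refine Module.Finite.of_surjective φ fun x => ?_
  exact ⟨fun j => (biproduct.π A j).app U x, (HBiprod.eq_sum A U x).symm⟩

theorem gen_mem_support {Z : Scheme.{u}} [IsIntegral Z] {I : Z.Modules}
    (ι : I ⟶ Coh.structureModule Z) [Mono ι] (hne : ¬ IsZero I) :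
    genericPoint Z ∈ CohB1.support I := by
  obtain ⟨U, s, hs⟩ : ∃ (U : Z.Opens) (s : Γ(I, U)), s ≠ 0 := by
    by_contra h
    push Not at h
    apply hne
    rw [IsZero.iff_id_eq_zero]
    ext U x
    exact h U x
  have hU : genericPoint Z ∈ U :=
    ChevSheaf.gen_mem U (fun h => hs (ChevSheaf.eq_of_eq_bot I h s 0))
  intro hsub
  have h1 : I.presheaf.germ U _ hU s = I.presheaf.germ U _ hU 0 := Subsingleton.elim _ _
  obtain ⟨W, hW, iU, iV, e⟩ := I.presheaf.germ_eq _ hU hU _ _ h1
  rw [map_zero] at e
  have h2 : Ega1.QCohLoc.res I iU.le s = 0 := e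
  have h3 := ChevSheaf.val_res ι iU.le s
  rw [h2, map_zero] at h3
  have : Nonempty W := ⟨⟨_, hW⟩⟩
  have h4 := (map_eq_zero_iff _ (map_injective_of_isIntegral Z iU)).mp h3.symm
  exact hs (ChevSheaf.val_injective ι U (by rw [h4, map_zero]))

theorem exists_integral_cover {Y X Z : Scheme.{u}} (f : Y ⟶ X) [IsFinite f] [Surjective f]
    [IsAffine Y] (i : Z ⟶ X) [IsClosedImmersion i] [IsIntegral Z] :
    ∃ (Y' : Scheme.{u}) (g : Y' ⟶ Z),
      IsIntegral Y' ∧ IsAffine Y' ∧ IsFinite g ∧ Surjective g := by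
  have : IsAffine (pullback f i) := isAffine_of_isAffineHom (pullback.fst f i)
  obtain ⟨p, hp⟩ := (pullback.snd f i).surjective (genericPoint Z)
  let e := (pullback f i).isoSpec
  let q : PrimeSpectrum Γ(pullback f i, ⊤) := e.hom p
  let C := CommRingCat.of (Γ(pullback f i, ⊤) ⧸ q.asIdeal)
  let m : Spec C ⟶ Spec Γ(pullback f i, ⊤) :=
    Spec.map (CommRingCat.ofHom (Ideal.Quotient.mk q.asIdeal))
  have hm : IsClosedImmersion m :=
    IsClosedImmersion.spec_of_surjective _ Ideal.Quotient.mk_surjective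
  have hq : q ∈ Set.range m := by
    change q ∈ Set.range (PrimeSpectrum.comap (Ideal.Quotient.mk q.asIdeal))
    rw [range_comap_of_surjective _ _ Ideal.Quotient.mk_surjective, Ideal.mk_ker]
    exact (PrimeSpectrum.mem_zeroLocus _ _).mpr le_rfl
  let g : Spec C ⟶ Z := m ≫ e.inv ≫ pullback.snd f i
  have hg : IsFinite g := inferInstance
  refine ⟨Spec C, g, inferInstance, inferInstance, hg, ?_⟩
  have hcl : IsClosed (Set.range g) := g.isClosedMap.isClosed_range
  have hgen : genericPoint Z ∈ Set.range g := by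
    obtain ⟨c, hc⟩ := hq
    refine ⟨c, ?_⟩
    change (pullback.snd f i) (e.inv (m c)) = _
    rw [hc, ← hp]
    congr 1
    exact congr($(e.hom_inv_id) p)
  refine ⟨fun z => ?_⟩
  exact (genericPoint_spec Z).specializes (Set.mem_univ z) |>.mem_closed hcl hgen

theorem subsingleton_HH_of_iso {X : Scheme.{u}} {M N : X.Modules} (e : M ≅ N) (n : ℕ)
    (h : Subsingleton (Coh.HH X M n)) : Subsingleton (Coh.HH X N n) := by
  have h' : Subsingleton ((HBiprod.HFun X n).obj M) := h
  exact (((HBiprod.HFun X n).mapIso e).addCommGroupIsoToAddEquiv.symm).injective.subsingleton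

theorem subsingleton_HH_of_isZero {X : Scheme.{u}} {M : X.Modules} (h : IsZero M) (n : ℕ) :
    Subsingleton (Coh.HH X M n) :=
  AddCommGrpCat.subsingleton_of_isZero ((HBiprod.HFun X n).map_isZero h)

theorem subsingleton_HH_of_shortExact {X : Scheme.{u}} {S : ShortComplex X.Modules}
    (hS : S.ShortExact) (n : ℕ) (h1 : Subsingleton (Coh.HH X S.X₁ n))
    (h3 : Subsingleton (Coh.HH X S.X₃ n)) : Subsingleton (Coh.HH X S.X₂ n) := by
  have key : ∀ x : Coh.HH X S.X₂ n, x = 0 := fun x => by
    obtain ⟨y, rfl⟩ := CohqB.HSeqMod.exact₂ hS n x (h3.elim _ _)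
    rw [h1.elim y 0, map_zero]
  exact ⟨fun a b => (key a).trans (key b).symm⟩

/-- a retract of a module without cohomology has no cohomology -/
theorem subsingleton_HH_of_retract {X : Scheme.{u}} {M N : X.Modules} (s : M ⟶ N) (p : N ⟶ M)
    (hsp : s ≫ p = 𝟙 M) (n : ℕ) (h : Subsingleton (Coh.HH X N n)) :
    Subsingleton (Coh.HH X M n) := by
  have h' : Subsingleton ((HBiprod.HFun X n).obj N) := h
  have h0 : IsZero ((HBiprod.HFun X n).obj M) := by
    rw [IsZero.iff_id_eq_zero, ← (HBiprod.HFun X n).map_id, ← hsp, (HBiprod.HFun X n).map_comp,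
      (AddCommGrpCat.isZero_of_subsingleton ((HBiprod.HFun X n).obj N)).eq_zero_of_tgt
        ((HBiprod.HFun X n).map s), zero_comp]
  exact AddCommGrpCat.subsingleton_of_isZero h0

theorem subsingleton_H1 {Y X : Scheme.{u}} (f : Y ⟶ X) [IsFinite f]
    [Surjective f] [IsAffine Y] [IsNoetherian X] [Nonempty X] (T : Closeds X) :
    ∀ M : X.Modules, Coh.IsCoh M → CohB1.support M ⊆ (T : Set X) →
      Subsingleton (Coh.HH X M 1) := by
  induction T using WellFoundedLT.induction with
  | ind T ih =>
  refine Groth.Agent.S0027.result X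
    (fun M => CohB1.support M ⊆ (T : Set X) → Subsingleton (Coh.HH X M 1)) ?_ ?_ ?_
  · rintro M N ⟨e⟩ h hN
    exact subsingleton_HH_of_iso e 1 (h (by rwa [CohqB.DevSupport.support_congr e]))
  · intro S hS _ _ _ h1 h3 h
    rw [CohqB.DevSupport.support_shortExact hS] at h
    exact subsingleton_HH_of_shortExact hS 1 (h1 (Set.subset_union_left.trans h))
      (h3 (Set.subset_union_right.trans h))
  · intro Z i hi hZ I ι hι hI hsupp
    by_cases hne : IsZero I
    · exact subsingleton_HH_of_isZero ((Coh.push i).map_isZero hne) 1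
    rw [Sga67.ClosedPush.support_pushforward i I] at hsupp
    obtain ⟨Y', g, hY', hY'a, hg, hgs⟩ := exists_integral_cover f i
    have hO : Coh.IsQCoh (Coh.structureModule Y') := Fdesc.StructMod.isQCoh_structureModule Y'
    have hG : Coh.IsQCoh (ChevSheaf.G g) := CohqA.AffPush.isQCoh_push g (Coh.structureModule Y') hO
    obtain ⟨r, β, hr, hβ, hβs⟩ := ChevSheaf.exists_mono_push g hI ι hne hG
    have hZn : IsLocallyNoetherian Z := LocallyOfFiniteType.isLocallyNoetherian i
    have hIc : Coh.IsCoh I :=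
      PerfA.CohSerre.isCoh_of_mono ι hI (Fdesc.StructMod.isCoh_structureModule Z)
    have hIr : Coh.IsCoh (⨁ fun _ : Fin r => I) := isCoh_biproduct _ fun _ => hIc
    have hQ : Coh.IsCoh (cokernel β) := PerfA.CohSerre.isCoh_cokernel β hG hIr
    have hQX : Coh.IsCoh ((Coh.push i).obj (cokernel β)) := S0019.result i _ hQ
    -- the short exact sequence
    have := Sga67.ClosedPush.preservesFiniteColimits_pushforward i
    have hS : (ShortComplex.mk β (cokernel.π β) (cokernel.condition β)).ShortExact :=
      { exact := ShortComplex.exact_cokernel β }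
    have hS' := hS.map_of_exact (Coh.push i)
    have h1 : Subsingleton (Coh.HH X ((Coh.push i).obj (ChevSheaf.G g)) 1) := by
      obtain ⟨e⟩ := S0012.result (g ≫ i) (Coh.structureModule Y') 1
      have h0 : Subsingleton (Coh.HH Y' (Coh.structureModule Y') 1) :=
        AffineVanish.HH_subsingleton Y' _ 1 one_pos
      have h2 : Subsingleton (Coh.HH X ((Coh.push (g ≫ i)).obj (Coh.structureModule Y')) 1) :=
        e.symm.injective.subsingleton
      exact subsingleton_HH_of_iso
        ((Scheme.Modules.pushforwardComp g i).app (Coh.structureModule Y')).symm 1 h2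
    have hsQ : CohB1.support ((Coh.push i).obj (cokernel β)) ⊆ (T : Set X) := by
      rw [Sga67.ClosedPush.support_pushforward i]
      refine (Set.image_mono ?_).trans hsupp
      exact (CohqB.DevSupport.support_subset_of_epi (cokernel.π β)).trans
        (support_biproduct_subset _ _ fun _ => subset_rfl)
    have hgT : i (genericPoint Z) ∈ (T : Set X) :=
      hsupp ⟨_, gen_mem_support ι hne, rfl⟩
    have h3 : Subsingleton (Coh.HH X ((Coh.push i).obj (cokernel β)) 1) := by
      let T' : Closeds X := ⟨CohB1.support ((Coh.push i).obj (cokernel β)),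
        S0020.result X _ hQX.2⟩
      refine ih T' (lt_of_le_of_ne hsQ fun h => ?_) _ hQX subset_rfl
      have h4 : i (genericPoint Z) ∈ (T' : Set X) := by rw [h]; exact hgT
      change _ ∈ CohB1.support ((Coh.push i).obj (cokernel β)) at h4
      rw [Sga67.ClosedPush.support_pushforward i] at h4
      obtain ⟨z, hz, hzi⟩ := h4
      rw [i.isClosedEmbedding.injective hzi] at hz
      exact hβs hz
    have h2 : Subsingleton (Coh.HH X ((Coh.push i).obj (⨁ fun _ : Fin r => I)) 1) :=
      subsingleton_HH_of_shortExact hS' 1 h1 h3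
    let j : Fin r := ⟨0, Nat.pos_of_ne_zero hr⟩
    refine subsingleton_HH_of_retract ((Coh.push i).map (biproduct.ι (fun _ : Fin r => I) j))
      ((Coh.push i).map (biproduct.π (fun _ : Fin r => I) j)) ?_ 1 h2
    rw [← Functor.map_comp, biproduct.ι_π_self]
    exact (Coh.push i).map_id I

theorem isAffine {Y X : Scheme.{u}} (f : Y ⟶ X) [IsFinite f]
    [Surjective f] [IsAffine Y] [IsNoetherian X] : IsAffine X := by
  by_cases hX : Nonempty X
  · refine S0009.result X fun I i hi hI => ?_
    exact subsingleton_H1 f ⊤ I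
      (PerfA.CohSerre.isCoh_of_mono i hI (Fdesc.StructMod.isCoh_structureModule X))
      (Set.subset_univ _)
  · have : IsEmpty X := not_nonempty_iff.mp hX
    exact isAffine_of_isEmpty

end Groth.Agent.CohqA.ChevMain
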