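import Groth.Prelude.Def_CohB1
import Groth.Agent.CohqA.ChevGen
import Groth.Agent.CohqA.HBiprod
import Groth.Agent.CohqB.QC4
import Groth.Agent.CohqB.DevSupport
import Groth.Agent.Dcoh.FinLocFree
import Groth.Agent.Dcoh.Restrict
import Groth.Agent.Ega1.SubSheaf

/-!
# Generic splitting for Chevalley's affineness theorem

`Z` integral, `g : Y ⟶ Z` finite surjective with `Y` integral and affine, `I` a nonzero
quasi-coherent ideal (as a module).  Then there is a monomorphism `g_* O_Y ⟶ I^r`, `r ≠ 0`, whose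
cokernel is zero at the generic point.
-/

set_option autoImplicit false
universe u

open AlgebraicGeometry CategoryTheory Limits TopologicalSpace Opposite
open Groth.Agent.Ega1.QCohLoc
open Groth.Agent.Dcoh.FinLocFree (fn ofSec unitSec app_eq_smul unitSec_ofSec fn_eq_smul)

namespace Groth.Agent.CohqA.ChevSheaf

attribute [local instance] Abelian.hasFiniteBiproducts

variable {Y Z : Scheme.{u}} (g : Y ⟶ Z)

/-- `g_* O_Y`. -/
noncomputable abbrev G : Z.Modules := (Coh.push g).obj (Coh.structureModule Y)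

/-- sections of `g_* O_Y` are functions on the preimage -/
noncomputable def toG (V : Z.Opens) : Γ(Y, g ⁻¹ᵁ V) →+ Γ(G g, V) := (fn (g ⁻¹ᵁ V)).toLinearMap.toAddMonoidHom

theorem toG_bijective (V : Z.Opens) : Function.Bijective (toG g V) := (fn (g ⁻¹ᵁ V)).bijective

theorem smul_toG (V : Z.Opens) (r : Γ(Z, V)) (y : Γ(Y, g ⁻¹ᵁ V)) :
    r • toG g V y = toG g V (g.app V r * y) := rfl

theorem res_toG {V W : Z.Opens} (h : W ≤ V) (y : Γ(Y, g ⁻¹ᵁ V)) :
    res (G g) h (toG g V y) = toG g W (resO (g.preimage_mono h) y) := rfl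

/-- multiplication by a global function of `Y` on `g_* O_Y` -/
noncomputable def mulG (c : Γ(Y, ⊤)) : G g ⟶ G g :=
  (Coh.push g).map (ofSec (M := Coh.structureModule Y) (fn ⊤ c))

theorem mulG_app (c : Γ(Y, ⊤)) (V : Z.Opens) (y : Γ(Y, g ⁻¹ᵁ V)) :
    (mulG g c).app V (toG g V y) = toG g V (resO le_top c * y) := by
  change (ofSec (M := Coh.structureModule Y) (fn ⊤ c)).app (g ⁻¹ᵁ V) (fn (g ⁻¹ᵁ V) y) = _
  rw [app_eq_smul, unitSec_ofSec, mul_comm]
  rfl

section ideal

variable {I : Z.Modules} (ι : I ⟶ Coh.structureModule Z)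

/-- the function attached to a section of an ideal -/
noncomputable def val (V : Z.Opens) : Γ(I, V) →+ Γ(Z, V) :=
  ((fn V).symm.toLinearMap.toAddMonoidHom).comp (ι.app V).hom

theorem fn_val (V : Z.Opens) (s : Γ(I, V)) : fn V (val ι V s) = ι.app V s := rfl

theorem val_smul (V : Z.Opens) (r : Γ(Z, V)) (s : Γ(I, V)) : val ι V (r • s) = r * val ι V s := by
  apply (fn V).injective
  rw [fn_val, Scheme.Modules.Hom.app_smul, ← fn_val]
  rfl

theorem val_res {V W : Z.Opens} (h : W ≤ V) (s : Γ(I, V)) :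
    val ι W (res I h s) = resO h (val ι V s) := by
  apply (fn W).injective
  rw [fn_val, res_app, ← fn_val]
  rfl

theorem val_injective [Mono ι] (V : Z.Opens) : Function.Injective (val ι V) := by
  intro s t h
  apply CohqB.QC4.app_injective_of_mono ι V
  rw [← fn_val, ← fn_val, h]

/-- `I ⟶ g_* O_Y`, `s ↦ s • b` -/
noncomputable def alpha (b : Γ(Y, ⊤)) : I ⟶ G g := ι ≫ ofSec (M := G g) (toG g ⊤ b)

theorem alpha_app (b : Γ(Y, ⊤)) (V : Z.Opens) (s : Γ(I, V)) :
    (alpha g ι b).app V s = toG g V (g.app V (val ι V s) * resO le_top b) := by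
  change (ofSec (M := G g) (toG g ⊤ b)).app V (ι.app V s) = _
  rw [← fn_val, app_eq_smul, unitSec_ofSec]
  rfl

theorem eq_of_eq_bot (M : Z.Modules) {U : Z.Opens} (hU : U = ⊥) (s t : Γ(M, U)) : s = t := by
  refine eq_of_locally_eq M (fun i : Empty => (i.elim : Z.Opens)) U (fun i => i.elim) ?_ s t
    (fun i => i.elim)
  rw [hU]; exact bot_le

theorem gen_mem [IsIntegral Z] (U : Z.Opens) (hU : U ≠ ⊥) : genericPoint Z ∈ U :=
  ((genericPoint_spec Z).mem_open_set_iff U.isOpen).mpr (by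
    simpa using (Opens.ne_bot_iff_nonempty U).mp hU)

/-- A nonzero qcoh ideal has nonzero sections on every nonempty affine open. -/
theorem exists_section_ne_zero [IsIntegral Z] [Mono ι] (hI : Coh.IsQCoh I) (hne : ¬ IsZero I)
    (V : Z.Opens) (hV : IsAffineOpen V) (hVne : V ≠ ⊥) : ∃ s : Γ(I, V), val ι V s ≠ 0 := by
  obtain ⟨U, s, hs⟩ : ∃ (U : Z.Opens) (s : Γ(I, U)), s ≠ 0 := by
    by_contra h
    push Not at h
    apply hne
    rw [IsZero.iff_id_eq_zero]
    ext U x
    exact h U x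
  have hs' : val ι U s ≠ 0 := fun h => hs (val_injective ι U (by rw [h, map_zero]))
  have hU : genericPoint Z ∈ U := gen_mem U (fun h => hs (eq_of_eq_bot I h s 0))
  have hVg : genericPoint Z ∈ V := gen_mem V hVne
  obtain ⟨f, hfU, hfg⟩ := hV.exists_basicOpen_le (V := U) ⟨genericPoint Z, hU⟩ hVg
  obtain ⟨n, t, ht⟩ := ((isQCoh_iff_isLocOnAffines I).mp hI V hV f).surj (res I hfU s)
  refine ⟨t, fun h0 => ?_⟩
  have : Nonempty (Z.basicOpen f) := ⟨⟨_, hfg⟩⟩
  have : Nonempty U := ⟨⟨_, hU⟩⟩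
  have : IsDomain Γ(Z, Z.basicOpen f) := inferInstance
  have h1 := congr(val ι _ $ht)
  rw [val_res, h0, map_zero, val_smul, val_res] at h1
  rcases mul_eq_zero.mp h1.symm with h2 | h2
  · have h3 : IsUnit (resO (Z.basicOpen_le f) f) := RingedSpace.isUnit_res_basicOpen _ f
    exact (h3.pow n).ne_zero h2
  · exact hs' ((map_eq_zero_iff _ (map_injective_of_isIntegral Z (homOfLE hfU))).mp h2)

end ideal

theorem exists_finite_affine {X : Scheme.{u}} {V : X.Opens} (hc : IsCompact (V : Set X)) :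
    ∃ (κ : Type u) (_ : Finite κ) (a : κ → X.Opens),
      (∀ i, IsAffineOpen (a i)) ∧ V = ⨆ i, a i := by
  have hb : Opens.IsBasis (Set.range (Subtype.val : X.affineOpens → X.Opens)) := by
    rw [Subtype.range_coe]
    exact X.isBasis_affineOpens
  obtain ⟨κ, hκ, a, ha⟩ := hb.exists_iSup_eq_of_isCompact V hc
  exact ⟨κ, hκ, fun i => a i, fun i => (a i).2, ha⟩

section main

variable {I : Z.Modules} (ι : I ⟶ Coh.structureModule Z) {r : ℕ} (b : Fin r → Γ(Y, ⊤))

/-- `I^r ⟶ g_* O_Y` given by functions `b i`. -/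
noncomputable def alphas : (⨁ fun _ : Fin r => I) ⟶ G g :=
  biproduct.desc (fun i => alpha g ι (b i))

theorem alphas_app (V : Z.Opens) (x : Γ(⨁ fun _ : Fin r => I, V)) :
    (alphas g ι b).app V x =
      toG g V (∑ i, g.app V (val ι V ((biproduct.π (fun _ : Fin r => I) i).app V x)) *
        resO le_top (b i)) := by
  conv_lhs => rw [HBiprod.eq_sum (fun _ : Fin r => I) V x]
  rw [map_sum, map_sum]
  refine Finset.sum_congr rfl fun i _ => ?_
  rw [← alpha_app]
  have h : biproduct.ι (fun _ : Fin r => I) i ≫ alphas g ι b = alpha g ι (b i) :=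
    biproduct.ι_desc _ _
  rw [← h]
  rfl

/-- element of `Γ(I^r, V)` with given coordinates -/
noncomputable def tup (V : Z.Opens) (z : Fin r → Γ(I, V)) : Γ(⨁ fun _ : Fin r => I, V) :=
  ∑ i, (biproduct.ι (fun _ : Fin r => I) i).app V (z i)

theorem alphas_tup (V : Z.Opens) (z : Fin r → Γ(I, V)) :
    (alphas g ι b).app V (tup V z) =
      toG g V (∑ i, g.app V (val ι V (z i)) * resO le_top (b i)) := by
  rw [tup, map_sum, map_sum]
  refine Finset.sum_congr rfl fun i _ => ?_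
  rw [← alpha_app]
  have h : biproduct.ι (fun _ : Fin r => I) i ≫ alphas g ι b = alpha g ι (b i) :=
    biproduct.ι_desc _ _
  rw [← h]
  rfl

theorem mono_alphas [Mono ι]
    (hind : ∀ (W : Z.Opens) [Nonempty W] (x : Fin r → Γ(Z, W)),
        ∑ i, g.app W (x i) * Y.presheaf.map (homOfLE (le_top (a := g ⁻¹ᵁ W))).op (b i) = 0 →
          ∀ i, x i = 0) : Mono (alphas g ι b) := by
  rw [Ega1.SubSheaf.mono_iff_injective]
  intro V
  by_cases hV : V = ⊥
  · intro s t _
    exact eq_of_eq_bot _ hV s t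
  · have : Nonempty V := by
      obtain ⟨v, hv⟩ := (Opens.ne_bot_iff_nonempty V).mp hV
      exact ⟨⟨v, hv⟩⟩
    rw [injective_iff_map_eq_zero]
    intro x hx
    rw [alphas_app] at hx
    have h1 := (map_eq_zero_iff _ (toG_bijective g V).1).mp hx
    have h2 := hind V _ h1
    rw [HBiprod.eq_sum (fun _ : Fin r => I) V x]
    refine Finset.sum_eq_zero fun i _ => ?_
    have h3 : (biproduct.π (fun _ : Fin r => I) i).app V x = 0 := by
      apply val_injective ι V
      rw [h2, map_zero]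
    rw [h3, map_zero]

theorem exists_denominator [IsIntegral Y] [IsIntegral Z] [Surjective g] [CompactSpace Y]
    [Mono ι] (hI : Coh.IsQCoh I) (hne : ¬ IsZero I)
    (hgen : ∀ (V : Z.Opens) [Nonempty V], IsAffineOpen V → ∀ (t : Γ(Z, V)), t ≠ 0 →
        ∃ c : Γ(Y, ⊤), c ≠ 0 ∧ ∀ x : Γ(Y, g ⁻¹ᵁ V), ∃ z : Fin r → Γ(Z, V),
          Y.presheaf.map (homOfLE (le_top (a := g ⁻¹ᵁ V))).op c * x =
            ∑ i, g.app V (t * z i) * Y.presheaf.map (homOfLE (le_top (a := g ⁻¹ᵁ V))).op (b i)) :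
    ∃ c : Γ(Y, ⊤), c ≠ 0 ∧ ∀ z : Z, ∃ V : Z.Opens, IsAffineOpen V ∧ z ∈ V ∧
      ∀ y : Γ(Y, g ⁻¹ᵁ V), ∃ w : Γ(⨁ fun _ : Fin r => I, V),
        (alphas g ι b).app V w = toG g V (resO le_top c * y) := by
  classical
  have hZc : IsCompact ((⊤ : Z.Opens) : Set Z) := by
    have := isCompact_range g.continuous
    rwa [g.surjective.range_eq] at this
  obtain ⟨κ, hκ, V, hV, hcov⟩ := exists_finite_affine hZc
  cases nonempty_fintype κ
  have key : ∀ k : κ, ∃ c : Γ(Y, ⊤), c ≠ 0 ∧ ∀ y : Γ(Y, g ⁻¹ᵁ (V k)),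
      ∃ w : Γ(⨁ fun _ : Fin r => I, V k),
        (alphas g ι b).app (V k) w = toG g (V k) (resO le_top c * y) := by
    intro k
    by_cases hk : V k = ⊥
    · exact ⟨1, one_ne_zero, fun y => ⟨0, eq_of_eq_bot _ hk _ _⟩⟩
    · have : Nonempty (V k) := by
        obtain ⟨v, hv⟩ := (Opens.ne_bot_iff_nonempty _).mp hk
        exact ⟨⟨v, hv⟩⟩
      obtain ⟨t, ht⟩ := exists_section_ne_zero ι hI hne (V k) (hV k) hk
      obtain ⟨c, hc, hcz⟩ := hgen (V k) (hV k) _ ht
      refine ⟨c, hc, fun y => ?_⟩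
      obtain ⟨z, hz⟩ := hcz y
      refine ⟨tup (V k) (fun i => z i • t), ?_⟩
      rw [alphas_tup]
      congr 1
      refine Eq.trans ?_ hz.symm
      refine Finset.sum_congr rfl fun i _ => ?_
      rw [val_smul, mul_comm (z i)]
      rfl
  choose c hc hw using key
  refine ⟨∏ k, c k, Finset.prod_ne_zero_iff.mpr fun k _ => hc k, fun z => ?_⟩
  have hz : z ∈ ⨆ i, V i := hcov ▸ trivial
  obtain ⟨k, hk⟩ := Opens.mem_iSup.mp hz
  refine ⟨V k, hV k, hk, fun y => ?_⟩
  obtain ⟨w, hw⟩ := hw k (resO le_top (∏ j ∈ Finset.univ.erase k, c j) * y)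
  refine ⟨w, hw.trans ?_⟩
  rw [← mul_assoc, ← map_mul, Finset.mul_prod_erase _ _ (Finset.mem_univ k)]

end main

/-- A morphism from a quasi-coherent module which vanishes on the sections over the members of
an affine covering is zero. -/
theorem eq_zero_of_affine {F H : Z.Modules} (hF : Coh.IsQCoh F) (φ : F ⟶ H)
    (h : ∀ z : Z, ∃ V : Z.Opens, IsAffineOpen V ∧ z ∈ V ∧ ∀ x : Γ(F, V), φ.app V x = 0) :
    φ = 0 := by
  ext W x
  choose V hV hzV hφ using h
  have key : ∀ z : W, ∃ f : Γ(Z, V z), Z.basicOpen f ≤ W ∧ (z : Z) ∈ Z.basicOpen f := fun z => by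
    obtain ⟨f, hf, hz⟩ := (hV z).exists_basicOpen_le (V := W) z (hzV z)
    exact ⟨f, hf, hz⟩
  choose f hfW hzf using key
  refine eq_of_locally_eq H (fun z : W => Z.basicOpen (f z)) W hfW (fun z hz =>
    Opens.mem_iSup.mpr ⟨⟨z, hz⟩, hzf ⟨z, hz⟩⟩) _ _ fun z => ?_
  rw [← res_app, Scheme.Modules.Hom.zero_app]
  obtain ⟨n, t, ht⟩ := ((isQCoh_iff_isLocOnAffines F).mp hF (V z) (hV z) (f z)).surj
    (res F (hfW z) x)
  have h1 := congr(φ.app _ $ht)
  rw [res_app, hφ, map_zero, Scheme.Modules.Hom.app_smul] at h1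
  have h2 : IsUnit (resO (Z.basicOpen_le (f z)) (f z) ^ n) :=
    (RingedSpace.isUnit_res_basicOpen _ (f z)).pow n
  have h3 : φ.app _ (res F (hfW z) x) = 0 := by
    obtain ⟨v, hv⟩ := h2.exists_left_inv
    have := congr(v • $h1)
    rwa [smul_zero, ← mul_smul, hv, one_smul, eq_comm] at this
  rw [h3]
  exact (map_zero _).symm

theorem exists_mono_push [IsIntegral Y] [IsIntegral Z] [IsAffine Y] [IsFinite g] [Surjective g]
    {I : Z.Modules} (hI : Coh.IsQCoh I) (ι : I ⟶ Coh.structureModule Z) [Mono ι]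
    (hne : ¬ IsZero I) (hG : Coh.IsQCoh (G g)) :
    ∃ (r : ℕ) (β : G g ⟶ ⨁ (fun _ : Fin r => I)), r ≠ 0 ∧ Mono β ∧
      genericPoint Z ∉ CohB1.support (cokernel β) := by
  obtain ⟨r, b, hind, hgen⟩ := ChevGen.exists_generic_data g
  obtain ⟨c, hc, hcV⟩ := exists_denominator g ι b hI hne hgen
  have hmono : Mono (alphas g ι b) := mono_alphas g ι b hind
  have hzero : mulG g c ≫ cokernel.π (alphas g ι b) = 0 := by
    refine eq_zero_of_affine hG _ fun z => ?_
    obtain ⟨V, hV, hz, hw⟩ := hcV z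
    refine ⟨V, hV, hz, fun x => ?_⟩
    obtain ⟨y, rfl⟩ := (toG_bijective g V).2 x
    obtain ⟨w, hw⟩ := hw y
    rw [Scheme.Modules.Hom.comp_app]
    change (cokernel.π (alphas g ι b)).app V ((mulG g c).app V (toG g V y)) = 0
    rw [mulG_app, ← hw]
    have h0 := congr($(cokernel.condition (alphas g ι b)).app V w)
    exact h0
  let L := (Abelian.monoIsKernelOfCokernel _ (colimit.isColimit (parallelPair (alphas g ι b) 0)))
  obtain ⟨β, hβ⟩ : ∃ β : G g ⟶ ⨁ (fun _ : Fin r => I), β ≫ alphas g ι b = mulG g c :=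
    ⟨L.lift (KernelFork.ofι (mulG g c) hzero),
      L.fac (KernelFork.ofι (mulG g c) hzero) WalkingParallelPair.zero⟩
  have hcne : ∀ V : Z.Opens, V ≠ ⊥ → Nonempty (g ⁻¹ᵁ V) ∧
      (resO (le_top (a := g ⁻¹ᵁ V)) c : Γ(Y, g ⁻¹ᵁ V)) ≠ 0 := by
    intro V hV
    obtain ⟨v, hv⟩ := (Opens.ne_bot_iff_nonempty V).mp hV
    obtain ⟨y, rfl⟩ := g.surjective v
    have : Nonempty (g ⁻¹ᵁ V) := ⟨⟨y, hv⟩⟩
    have : Nonempty (⊤ : Y.Opens) := ⟨⟨y, trivial⟩⟩
    refine ⟨inferInstance, fun h0 => hc ?_⟩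
    exact (map_eq_zero_iff _ (map_injective_of_isIntegral Y
      (homOfLE (le_top (a := g ⁻¹ᵁ V))))).mp h0
  have hmulmono : Mono (mulG g c) := by
    rw [Ega1.SubSheaf.mono_iff_injective]
    intro V
    by_cases hV : V = ⊥
    · intro s t _
      exact eq_of_eq_bot _ hV s t
    · obtain ⟨hne', hcV'⟩ := hcne V hV
      have : IsDomain Γ(Y, g ⁻¹ᵁ V) := inferInstance
      rw [injective_iff_map_eq_zero]
      intro x hx
      obtain ⟨y, rfl⟩ := (toG_bijective g V).2 x
      rw [mulG_app] at hx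
      have h1 := (map_eq_zero_iff _ (toG_bijective g V).1).mp hx
      rcases mul_eq_zero.mp h1 with h2 | h2
      · exact absurd h2 hcV'
      · rw [h2, map_zero]
  have hβmono : Mono β := by
    rw [← hβ] at hmulmono
    exact mono_of_mono β (alphas g ι b)
  refine ⟨r, β, ?_, hβmono, ?_⟩
  · rintro rfl
    have h0 : IsZero (⨁ fun _ : Fin 0 => I) := by
      rw [IsZero.iff_id_eq_zero]
      refine biproduct.hom_ext' _ _ fun j => j.elim0
    have h1 : mulG g c = 0 := by rw [← hβ, h0.eq_of_tgt β 0, zero_comp]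
    have h2 : (mulG g c).app ⊤ (toG g ⊤ 1) = 0 := by rw [h1]; rfl
    rw [mulG_app] at h2
    have h3 := (map_eq_zero_iff _ (toG_bijective g ⊤).1).mp h2
    rw [mul_one] at h3
    exact (hcne ⊤ (fun h => by
      have : genericPoint Z ∈ (⊤ : Z.Opens) := trivial
      rw [h] at this; exact this)).2 h3
  · obtain ⟨W, hW, hunit⟩ := ChevGen.exists_isUnit_of_ne_zero g c hc
    refine CohqB.DevSupport.not_mem_support_of_sections _ W (fun V hVW => ?_) _ hW
    have key : ∀ q : Γ(cokernel β, V), q = 0 := by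
      intro q
      have hloc : ∀ x : V, ∃ (V' : Z.Opens) (hV' : V' ≤ V), (x : Z) ∈ V' ∧
          res (cokernel β) hV' q = 0 := by
        intro x
        obtain ⟨V', hV', t, hxV', ht⟩ := Dcoh.Restrict.exists_local_preimage (cokernel.π β) V q x x.2
        refine ⟨V', hV', hxV', ?_⟩
        have hunit' : IsUnit (resO (le_top (a := g ⁻¹ᵁ V')) c) := by
          have h1 := hunit.map (resO (g.preimage_mono (hV'.trans hVW)))
          convert h1 using 1
          exact (resO_resO _ _ _).symm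
        obtain ⟨v, hv⟩ := hunit'.exists_right_inv
        obtain ⟨y, hy⟩ := (toG_bijective g V').2 ((alphas g ι b).app V' t)
        have h2 : (alphas g ι b).app V' t = (alphas g ι b).app V' (β.app V' (toG g V' (v * y))) := by
          change _ = (β ≫ alphas g ι b).app V' (toG g V' (v * y))
          rw [hβ, mulG_app, ← mul_assoc, hv, one_mul, hy]
        have h3 := CohqB.QC4.app_injective_of_mono (alphas g ι b) V' h2
        have h4 : (cokernel.π β).app V' t = 0 := by
          rw [h3]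
          exact congr($(cokernel.condition β).app V' (toG g V' (v * y)))
        rw [h4] at ht
        exact ht.symm
      choose V' hV' hx hq using hloc
      refine eq_of_locally_eq _ V' V hV' (fun z hz => Opens.mem_iSup.mpr ⟨⟨z, hz⟩, hx ⟨z, hz⟩⟩) _ _
        fun x => ?_
      rw [hq, map_zero]
    exact ⟨fun a b => (key a).trans (key b).symm⟩

end Groth.Agent.CohqA.ChevSheaf
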