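import Groth.Agent.CohqA.ChowProd

/-!
# Products of projective spaces embed in a projective space (iterated Segre), uniform version
-/

set_option autoImplicit false
universe u

open CategoryTheory CategoryTheory.Limits AlgebraicGeometry CohB1

namespace Groth.Agent.CohqA.ChowProd2

/-- Finite products of projective spaces over `S` have a closed immersion into a projective
space over `S`; the universal property (existence part) is uniform in the test object `T`. -/
theorem exists_prod (S : Scheme.{u}) {m : ℕ} (n : Fin m → ℕ) :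
    ∃ (N : ℕ) (P : Scheme.{u}) (c : P ⟶ ProjSpaceOver N S)
      (p : ∀ i, P ⟶ ProjSpaceOver (n i) S),
      IsClosedImmersion c ∧
      (∀ i, p i ≫ ProjSpaceOver.toBase (n i) S = c ≫ ProjSpaceOver.toBase N S) ∧
      ∀ {T : Scheme.{u}} (b : T ⟶ S) (t : ∀ i, T ⟶ ProjSpaceOver (n i) S)
        (_ : ∀ i, t i ≫ ProjSpaceOver.toBase (n i) S = b),
        ∃ φ : T ⟶ P, φ ≫ c ≫ ProjSpaceOver.toBase N S = b ∧ ∀ i, φ ≫ p i = t i := by
  induction m with
  | zero =>
    obtain ⟨s, hs⟩ := ChowProd.exists_section S
    refine ⟨0, ProjSpaceOver 0 S, 𝟙 _, fun i => i.elim0, inferInstance,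
      fun i => i.elim0, fun b t ht => ⟨b ≫ s, ?_, fun i => i.elim0⟩⟩
    rw [Category.id_comp, Category.assoc, hs, Category.comp_id]
  | succ m ih =>
    obtain ⟨N', P', c', p', hc', hp', hφ'⟩ := ih (fun i => n i.succ)
    obtain ⟨s, hs, hs'⟩ := Groth.Agent.S1616.result S (n 0) N'
    refine ⟨n 0 * N' + n 0 + N',
      pullback (pullback.snd (ProjSpaceOver.toBase (n 0) S) (ProjSpaceOver.toBase N' S)) c',
      pullback.fst _ _ ≫ s,
      Fin.cases (pullback.fst _ _ ≫ pullback.fst _ _) (fun i => pullback.snd _ _ ≫ p' i),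
      inferInstance, ?_, ?_⟩
    · intro i
      refine Fin.cases ?_ (fun i => ?_) i
      · simp only [Fin.cases_zero, Category.assoc]
        rw [hs']
      · simp only [Fin.cases_succ, Category.assoc]
        rw [hs', hp', ← pullback.condition_assoc, pullback.condition]
    · intro T b t ht
      obtain ⟨φ', h1, h2⟩ := hφ' b (fun i => t i.succ) (fun i => ht i.succ)
      refine ⟨pullback.lift (pullback.lift (t 0) (φ' ≫ c') (by rw [ht, Category.assoc, h1])) φ'
        (by rw [pullback.lift_snd]), ?_, ?_⟩
      · refine (congrArg (_ ≫ ·) ((Category.assoc _ _ _).trans (congrArg (_ ≫ ·) hs'))).trans ?_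
        rw [pullback.lift_fst_assoc, pullback.lift_fst_assoc, ht]
      · intro i
        refine Fin.cases ?_ (fun i => ?_) i
        · simp only [Fin.cases_zero]
          rw [pullback.lift_fst_assoc, pullback.lift_fst]
        · simp only [Fin.cases_succ]
          rw [pullback.lift_snd_assoc]
          exact h2 i

end Groth.Agent.CohqA.ChowProd2
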