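import Groth.Agent.Sga67.CohBasic
import Groth.Agent.Dcoh.Restrict

/-!
# Roofs between coherent modules isomorphic on an open subscheme

`X` Noetherian, `j : U ⟶ X` an open immersion.

* `exists_roof_hom`: a morphism `e : M₁|_U ⟶ M₂|_U` is realised by a roof `M₁ ⟵ N ⟶ M₂` with `N`
  coherent and `N|_U ⟶ M₁|_U` an isomorphism;
* `exists_roof`: if `e` is an isomorphism both restrictions are isomorphisms.
-/

set_option autoImplicit false

universe u

open CategoryTheory CategoryTheory.Limits AlgebraicGeometry Opposite TopologicalSpace
open AlgebraicGeometry.Scheme.Modules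
open Groth.Agent.Sga67.CohBasic

namespace Groth.Agent.CohqA.CohRoof

variable {X : Scheme.{u}}

/-- A morphism between the restrictions of two coherent modules to an open subscheme of a Noetherian
scheme is a roof of morphisms of coherent modules. -/
theorem exists_roof_hom [IsNoetherian X] {U : Scheme.{u}} (j : U ⟶ X) [IsOpenImmersion j]
    {M₁ M₂ : X.Modules} (h₁ : Coh.IsCoh M₁) (h₂ : Coh.IsCoh M₂)
    (e : (restrictFunctor j).obj M₁ ⟶ (restrictFunctor j).obj M₂) :
    ∃ (N : X.Modules) (p : N ⟶ M₁) (q : N ⟶ M₂), Coh.IsCoh N ∧
      Mono (biprod.lift p q) ∧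
      IsIso ((restrictFunctor j).map p) ∧
      (IsIso e → IsIso ((restrictFunctor j).map q)) ∧
      (restrictFunctor j).map q = (restrictFunctor j).map p ≫ e := by
  have : PreservesFiniteLimits (restrictFunctor j) := inferInstance
  let adj := restrictAdjunction j
  let α : M₁ ⟶ (pushforward j).obj ((restrictFunctor j).obj M₂) :=
    adj.unit.app M₁ ≫ (pushforward j).map e
  let β : M₂ ⟶ (pushforward j).obj ((restrictFunctor j).obj M₂) := adj.unit.app M₂
  have hα : (restrictFunctor j).map α ≫ adj.counit.app _ = e := by
    have h1 : (restrictFunctor j).map α =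
        (restrictFunctor j).map (adj.unit.app M₁) ≫
          (restrictFunctor j).map ((pushforward j).map e) := (restrictFunctor j).map_comp _ _
    have h2 : (restrictFunctor j).map ((pushforward j).map e) ≫
        adj.counit.app ((restrictFunctor j).obj M₂) =
        adj.counit.app ((restrictFunctor j).obj M₁) ≫ e := adj.counit_naturality e
    have h3 : (restrictFunctor j).map (adj.unit.app M₁) ≫
        adj.counit.app ((restrictFunctor j).obj M₁) = 𝟙 _ := adj.left_triangle_components M₁
    rw [h1, Category.assoc, h2, ← Category.assoc, h3]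
    exact Category.id_comp e
  have hβ : (restrictFunctor j).map β ≫ adj.counit.app _ = 𝟙 _ := adj.left_triangle_components _
  have hc : IsIso (adj.counit.app ((restrictFunctor j).obj M₂)) := inferInstance
  have hβi : IsIso ((restrictFunctor j).map β) := by
    have : IsIso ((restrictFunctor j).map β ≫ adj.counit.app ((restrictFunctor j).obj M₂)) := by
      rw [hβ]; infer_instance
    exact IsIso.of_isIso_comp_right _ (adj.counit.app ((restrictFunctor j).obj M₂))
  have hαi : IsIso e → IsIso ((restrictFunctor j).map α) := by
    intro he
    have : IsIso ((restrictFunctor j).map α ≫ adj.counit.app ((restrictFunctor j).obj M₂)) := by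
      rw [hα]; infer_instance
    exact IsIso.of_isIso_comp_right _ (adj.counit.app ((restrictFunctor j).obj M₂))
  have hsq : IsPullback ((restrictFunctor j).map (Limits.pullback.fst α β))
      ((restrictFunctor j).map (Limits.pullback.snd α β)) ((restrictFunctor j).map α)
      ((restrictFunctor j).map β) := (IsPullback.of_hasPullback α β).map (restrictFunctor j)
  have hp : IsIso ((restrictFunctor j).map (Limits.pullback.fst α β)) := hsq.isIso_fst_of_isIso
  have hq : IsIso e → IsIso ((restrictFunctor j).map (Limits.pullback.snd α β)) := by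
    intro he
    have := hαi he
    exact hsq.isIso_snd_of_isIso
  have hfac : (restrictFunctor j).map (Limits.pullback.snd α β) =
      (restrictFunctor j).map (Limits.pullback.fst α β) ≫ e := by
    have h := hsq.w
    calc (restrictFunctor j).map (Limits.pullback.snd α β)
        = (restrictFunctor j).map (Limits.pullback.snd α β) ≫ (restrictFunctor j).map β ≫
            adj.counit.app ((restrictFunctor j).obj M₂) := by rw [hβ, Category.comp_id]
      _ = (restrictFunctor j).map (Limits.pullback.fst α β) ≫ (restrictFunctor j).map α ≫
            adj.counit.app ((restrictFunctor j).obj M₂) := by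
          rw [← Category.assoc, ← h, Category.assoc]
      _ = (restrictFunctor j).map (Limits.pullback.fst α β) ≫ e := by rw [hα]
  have hmono : Mono (biprod.lift (Limits.pullback.fst α β) (Limits.pullback.snd α β)) := by
    refine ⟨fun f g hfg => Limits.pullback.hom_ext ?_ ?_⟩
    · have := congrArg (fun t => t ≫ biprod.fst) hfg
      simpa using this
    · have := congrArg (fun t => t ≫ biprod.snd) hfg
      simpa using this
  have hj : Coh.IsQCoh ((pushforward j).obj ((restrictFunctor j).obj M₂)) :=
    isQCoh_push j (Groth.Agent.CohqB.LocalQC.isCoh_restrict j h₂).1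
  have hN : Coh.IsQCoh (Limits.pullback α β) := by
    have hk : Coh.IsQCoh (kernel (biprod.desc α (-β))) := by
      have h1 : Coh.IsQCoh (M₁ ⊞ M₂) := isQCoh_biprod h₁.1 h₂.1
      exact Groth.Agent.PerfA.QCohSerre.isQCoh_kernel _ h1 hj
    refine isQCoh_of_iso ?_ hk
    exact (kernelIsKernel (biprod.desc α (-β))).conePointUniqueUpToIso
      (Abelian.PullbackToBiproductIsKernel.isLimitPullbackToBiproduct α β)
  exact ⟨_, _, _, isCoh_of_mono (biprod.lift (Limits.pullback.fst α β) (Limits.pullback.snd α β))
    (isCoh_biprod h₁ h₂) hN, hmono, hp, hq, hfac⟩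

end Groth.Agent.CohqA.CohRoof
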