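import Groth.Agent.CohqA.AssNum
import Groth.Agent.CohqA.IntClosed
import Groth.Agent.Ega1.QcqsPush

/-!
# Coherent modules contain push-forwards of ideals of integral closed subschemes
-/

universe u v w

open CategoryTheory CategoryTheory.Limits AlgebraicGeometry TopologicalSpace Opposite

namespace Groth.Agent.CohqA.DevSub

open AlgebraicGeometry.Scheme.Modules Groth.Agent.Ega1 Groth.Agent.CohqA.AssInj
  Groth.Agent.CohqA.AssNum Groth.Agent.CohqA.AssSub

/-- Two morphisms with the same kernel have the same coimage. -/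
theorem exists_coimage {C : Type u} [Category.{v} C] [Abelian C] {J A B : C} (f : J ⟶ A)
    (g : J ⟶ B) (h : ∀ (T : C) (t : T ⟶ J), t ≫ f = 0 ↔ t ≫ g = 0) :
    ∃ (K : C) (π : J ⟶ K) (f' : K ⟶ A) (g' : K ⟶ B), K = cokernel (kernel.ι f) ∧ Epi π ∧
      Mono f' ∧ Mono g' ∧ π ≫ f' = f ∧ π ≫ g' = g := by
  have hg : kernel.ι f ≫ g = 0 := (h _ _).mp (kernel.condition f)
  have key : ∀ {A B : C} (f : J ⟶ A) (g : J ⟶ B) (hfg : ∀ (T : C) (t : T ⟶ J), t ≫ g = 0 →
      t ≫ f = 0) (hg : kernel.ι f ≫ g = 0),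
      Mono (cokernel.desc (kernel.ι f) g hg) := by
    intro A B f g hfg hg
    refine Preadditive.mono_of_cancel_zero _ fun {T} k hk => ?_
    let T' := pullback (cokernel.π (kernel.ι f)) k
    have e1 : pullback.fst (cokernel.π (kernel.ι f)) k ≫ g = 0 := by
      have : g = cokernel.π (kernel.ι f) ≫ cokernel.desc (kernel.ι f) g hg := by simp
      rw [this, ← Category.assoc, pullback.condition, Category.assoc, hk, comp_zero]
    have e2 := hfg _ _ e1
    have e3 : pullback.fst (cokernel.π (kernel.ι f)) k ≫ cokernel.π (kernel.ι f) = 0 := by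
      rw [← kernel.lift_ι f _ e2, Category.assoc, cokernel.condition, comp_zero]
    rw [pullback.condition] at e3
    have : Epi (pullback.snd (cokernel.π (kernel.ι f)) k) := inferInstance
    exact (cancel_epi (pullback.snd (cokernel.π (kernel.ι f)) k)).mp (by rw [e3, comp_zero])
  refine ⟨cokernel (kernel.ι f), cokernel.π _, cokernel.desc _ f (kernel.condition f),
    cokernel.desc _ g hg, rfl, inferInstance, key f f (fun _ _ h => h) _,
    key f g (fun T t h' => (h T t).mpr h') _, by simp, by simp⟩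

variable {X : Scheme.{u}}

/-- The canonical map `O_X ⟶ i_* O_Z`. -/
noncomputable def toPush {Z : Scheme.{u}} (i : Z ⟶ X) :
    Coh.structureModule X ⟶ (pushforward i).obj (Coh.structureModule Z) :=
  SubSheaf.homMk (K := Coh.structureModule X) (G := (pushforward i).obj (Coh.structureModule Z))
    (fun V => ((i.app V).hom : Γ(X, V) →+ Γ(Z, i ⁻¹ᵁ V)))
    (fun _ _ h a => congr($(i.naturality (homOfLE h).op) a))
    (fun V r a => map_mul (i.app V).hom r a)

theorem toPush_app {Z : Scheme.{u}} (i : Z ⟶ X) {V : X.Opens} (a : Γ(Coh.structureModule X, V)) :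
    (toPush i).app V a = i.app V (fn a) := rfl

section

variable [IsLocallyNoetherian X] {Q : X.Modules} (hQ : Coh.IsQCoh Q) (x : X)
  (hA : ∀ y ∈ AssSch.Ass Q, y = x) {U : X.Opens} (hU : IsAffineOpen U) (hxU : x ∈ U)
  (m : Γ(Q, U)) (hm : ∀ a : Γ(X, U), a • m = 0 ↔ x ∉ X.basicOpen a)

include hQ hA hU hxU hm

theorem smul_eq_zero_iff {V : X.Opens} (a : Γ(X, V)) :
    QCohLoc.resO (inf_le_left : V ⊓ U ≤ V) a • SubSheaf.res Q (inf_le_right : V ⊓ U ≤ U) m = 0 ↔
      x ∉ X.basicOpen a := by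
  by_cases hxV : x ∈ V
  · obtain ⟨f, hf, hxf⟩ := hU.exists_basicOpen_le (V := V ⊓ U) ⟨x, ⟨hxV, hxU⟩⟩ hxU
    obtain ⟨n, b, hb⟩ := (QCohLoc.isLocAt_of_isQCoh (PerfA.QCohSerre.isQCoh_unit X) hU f).surj
      (toSec (QCohLoc.resO (hf.trans inf_le_left) a))
    have hb' : QCohLoc.resO (X.basicOpen_le f) (fn b) =
      QCohLoc.resO (X.basicOpen_le f) f ^ n * QCohLoc.resO (hf.trans inf_le_left) a := hb
    have hu : IsUnit (QCohLoc.resO (X.basicOpen_le f) f) := RingedSpace.isUnit_res_basicOpen _ f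
    have h1 : x ∉ X.basicOpen a ↔ x ∉ X.basicOpen (fn b) := by
      have e1 : x ∈ X.basicOpen a ↔ x ∈ X.basicOpen (QCohLoc.resO (hf.trans inf_le_left) a) := by
        rw [QCohLoc.basicOpen_resO]
        exact ⟨fun h => ⟨hxf, h⟩, fun h => h.2⟩
      have e2 : x ∈ X.basicOpen (fn b) ↔ x ∈ X.basicOpen (QCohLoc.resO (X.basicOpen_le f) (fn b)) := by
        rw [QCohLoc.basicOpen_resO]
        exact ⟨fun h => ⟨hxf, h⟩, fun h => h.2⟩
      rw [e1, e2, hb', X.basicOpen_mul, X.basicOpen_of_isUnit (hu.pow n)]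
      exact not_congr ⟨fun h => ⟨hxf, h⟩, fun h => h.2⟩
    rw [h1, ← hm (fn b)]
    have i1 : Function.Injective (SubSheaf.res Q hf) :=
      res_injective hQ hf (fun y hy _ => by rw [hA y hy]; exact hxf)
    have i2 : Function.Injective (SubSheaf.res Q (X.basicOpen_le f)) :=
      res_injective hQ _ (fun y hy _ => by rw [hA y hy]; exact hxf)
    rw [← (injective_iff_map_eq_zero' (SubSheaf.res Q hf).hom).mp i1,
      ← (injective_iff_map_eq_zero' (SubSheaf.res Q (X.basicOpen_le f)).hom).mp i2]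
    have h2 : (SubSheaf.res Q (X.basicOpen_le f)).hom (fn b • m) =
        QCohLoc.resO (X.basicOpen_le f) f ^ n • (SubSheaf.res Q hf).hom
          (QCohLoc.resO (inf_le_left : V ⊓ U ≤ V) a •
            SubSheaf.res Q (inf_le_right : V ⊓ U ≤ U) m) := by
      refine (SubSheaf.res_smul Q _ _ _).trans ?_
      refine Eq.trans ?_ (congrArg (fun t => QCohLoc.resO (X.basicOpen_le f) f ^ n • t)
        (SubSheaf.res_smul Q hf _ _)).symm
      rw [smul_smul, SubSheaf.res_res]
      congr 1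
      refine hb'.trans ?_
      congr 1
      exact (resO_resO _ _ _).symm
    rw [h2]
    exact ((hu.pow n).smul_eq_zero).symm
  · have h1 : x ∉ X.basicOpen a := fun h => hxV (X.basicOpen_le a h)
    refine iff_of_true ?_ h1
    have i1 : Function.Injective (SubSheaf.res Q (bot_le : ⊥ ≤ V ⊓ U)) :=
      res_injective hQ _ (fun y hy hyV => absurd hyV.1 (by rw [hA y hy]; exact hxV))
    apply i1
    exact SubSheaf.section_ext Q _ _ fun z hz => absurd hz (by simp)

end

/-- Checking vanishing of a morphism on sections. -/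
theorem eq_zero_iff {M N : X.Modules} (φ : M ⟶ N) : φ = 0 ↔ ∀ V (s : Γ(M, V)), φ.app V s = 0 := by
  constructor
  · rintro rfl V s
    rfl
  · intro h
    ext V s
    exact h V s

theorem exists_of_ass_eq [IsLocallyNoetherian X] {Q : X.Modules} (hQ : Coh.IsQCoh Q) (x : X)
    (hx : x ∈ AssSch.Ass Q) (hA : ∀ y ∈ AssSch.Ass Q, y = x) :
    ∃ (Z : Scheme.{u}) (i : Z ⟶ X) (_ : IsClosedImmersion i) (_ : IsIntegral Z)
      (I : Z.Modules) (ι : I ⟶ Coh.structureModule Z) (_ : Mono ι) (_ : Coh.IsQCoh I)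
      (_ : ¬ IsZero I) (k : (Coh.push i).obj I ⟶ Q), Mono k ∧ i (genericPoint Z) = x := by
  obtain ⟨U, hU, hxU, -⟩ := Opens.isBasis_iff_nbhd.mp X.isBasis_affineOpens
    (show x ∈ (⊤ : X.Opens) from trivial)
  obtain ⟨m, hm⟩ := exists_section_of_mem_ass hQ hU x hxU hx
  have hA' : ∀ y ∈ AssSch.Ass Q, y ∈ U := fun y hy => by rw [hA y hy]; exact hxU
  obtain ⟨Z, i, hi, hZ, hiZ⟩ := IntClosed.exists_integral x
  let J := (num hQ hA' (m := m)).toModules
  let f : J ⟶ (pushforward i).obj (Coh.structureModule Z) := (num hQ hA' (m := m)).ι ≫ toPush i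
  let g : J ⟶ Q := toQ hQ hA'
  have hfg : ∀ (V : X.Opens) (a : Γ(J, V)), f.app V a = 0 ↔ g.app V a = 0 := by
    intro V a
    rw [toQ_eq_zero_iff, smul_eq_zero_iff hQ x hA hU hxU m hm]
    have h1 : f.app V a = i.app V (fn ((num hQ hA' (m := m)).ι.app V a)) := rfl
    rw [h1]
    have h2 := IntClosed.app_eq_zero_iff i (fn ((num hQ hA' (m := m)).ι.app V a))
    rw [hiZ] at h2
    exact h2
  obtain ⟨K, π, f', g', hK, hπ, hf', hg', hf, hg⟩ := exists_coimage f g (fun T t => by
    rw [eq_zero_iff, eq_zero_iff]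
    exact forall_congr' fun V => forall_congr' fun s => hfg V (t.app V s))
  have hKq : Coh.IsQCoh K := by
    rw [hK]
    have h1 : Coh.IsQCoh J := isQCoh_num hQ hA'
    have h2 : Coh.IsQCoh (kernel f) := by
      exact PerfA.QCohSerre.isQCoh_kernel f h1 (QcqsPush.isQCoh_pushforward i _
        (PerfA.QCohSerre.isQCoh_unit Z))
    exact PerfA.QCohSerre.isQCoh_cokernel (kernel.ι f) h2 h1
  obtain ⟨I, ι, hι, e, he⟩ := ClosedSub.exists_sub_of_mono i f'
  refine ⟨Z, i, hi, hZ, I, ι, hι, ?_, ?_, e.inv ≫ g', mono_comp _ _, hiZ⟩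
  · exact ClosedSub.isQCoh_of_isQCoh_pushforward i I (QCohLoc.isQCoh_of_iso e hKq)
  · intro hI
    have h1 : IsZero K := ((pushforward i).map_isZero hI).of_iso e
    have h2 : g = 0 := by rw [← hg, h1.eq_of_src g' 0, comp_zero]
    have h3 : toSec (1 : Γ(X, U)) ∈ (num hQ hA' (m := m)).obj U := by
      refine ⟨m, ?_⟩
      unfold IsNum
      rw [fn_toSec, map_one, one_smul]
    have h4 := (toQ_eq_zero_iff hQ hA' ((num hQ hA' (m := m)).sec _ h3)).mp (by
      change g.app U _ = 0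
      rw [h2]; rfl)
    rw [smul_eq_zero_iff hQ x hA hU hxU m hm, SubSheaf.Sub.ι_app_sec, fn_toSec,
      Scheme.basicOpen_one] at h4
    exact h4 hxU

/-- Every nonzero quasi-coherent module on a Noetherian scheme contains the push-forward of a nonzero
quasi-coherent ideal of an integral closed subscheme. -/
theorem exists_mono_push [IsNoetherian X] {Q : X.Modules} (hQ : Coh.IsQCoh Q) (h0 : ¬ IsZero Q) :
    ∃ (Z : Scheme.{u}) (i : Z ⟶ X) (_ : IsClosedImmersion i) (_ : IsIntegral Z)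
      (I : Z.Modules) (ι : I ⟶ Coh.structureModule Z) (_ : Mono ι) (_ : Coh.IsQCoh I)
      (_ : ¬ IsZero I) (k : (Coh.push i).obj I ⟶ Q), Mono k := by
  let S : Set (Closeds X) := {C | ∃ x ∈ AssSch.Ass Q, C = ⟨closure {x}, isClosed_closure⟩}
  have hS : S.Nonempty := by
    obtain ⟨x, hx⟩ := exists_mem_ass_of_not_isZero hQ h0
    exact ⟨_, x, hx, rfl⟩
  have hwf : WellFoundedLT (Closeds X) := inferInstance
  obtain ⟨C, ⟨x, hx, rfl⟩, hmin⟩ := hwf.wf.has_min S hS
  let W : X.Opens := ⟨(closure {x})ᶜ, isClosed_closure.isOpen_compl⟩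
  have hq := isQCoh_vanish hQ W
  have hA : ∀ y ∈ AssSch.Ass (vanish Q W).toModules, y = x := by
    intro y hy
    obtain ⟨hy1, hy2⟩ := ass_vanish hQ W y hy
    have hyx : y ∈ closure {x} := by
      by_contra h
      exact hy2 h
    have hle : (⟨closure {y}, isClosed_closure⟩ : Closeds X) ≤ ⟨closure {x}, isClosed_closure⟩ :=
      closure_minimal (Set.singleton_subset_iff.mpr hyx) isClosed_closure
    have hnlt := hmin ⟨closure {y}, isClosed_closure⟩ ⟨y, hy1, rfl⟩
    have heq : (⟨closure {y}, isClosed_closure⟩ : Closeds X) = ⟨closure {x}, isClosed_closure⟩ := by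
      by_contra hne
      exact hnlt (lt_of_le_of_ne hle hne)
    have heq' : closure {y} = closure {x} := congrArg (fun C : Closeds X => (C : Set X)) heq
    exact (inseparable_iff_closure_eq.mpr heq').eq
  have hne : ¬ IsZero (vanish Q W).toModules := by
    intro hz
    obtain ⟨U, hU, hxU, -⟩ := Opens.isBasis_iff_nbhd.mp X.isBasis_affineOpens
      (show x ∈ (⊤ : X.Opens) from trivial)
    obtain ⟨m, hm⟩ := exists_section_of_mem_ass hQ hU x hxU hx
    have h1 : m ∈ (vanish Q W).obj U := by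
      rw [mem_vanish]
      refine SubSheaf.section_ext Q _ _ fun y hy => ?_
      obtain ⟨b, hb, hyb⟩ := hU.exists_basicOpen_le (V := U ⊓ W) ⟨y, hy⟩ hy.1
      refine ⟨X.basicOpen b, hb, hyb, ?_⟩
      rw [map_zero, SubSheaf.res_res]
      have h2 : x ∉ X.basicOpen b := by
        intro h
        exact (hb h).2 (subset_closure rfl)
      have h3 := congrArg (SubSheaf.res Q (X.basicOpen_le b)) ((hm b).mpr h2)
      rw [SubSheaf.res_smul, map_zero] at h3
      have hu : IsUnit (X.presheaf.map (homOfLE (X.basicOpen_le b)).op b) :=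
        RingedSpace.isUnit_res_basicOpen _ b
      exact hu.smul_eq_zero.mp h3
    have h2 : (vanish Q W).ι.app U ((vanish Q W).sec m h1) = 0 := by
      have : (vanish Q W).ι = 0 := hz.eq_of_src _ _
      rw [this]; rfl
    rw [SubSheaf.Sub.ι_app_sec] at h2
    have h3 := (hm 1).mp (by rw [h2, smul_zero])
    rw [Scheme.basicOpen_one] at h3
    exact h3 hxU
  obtain ⟨y, hy⟩ := exists_mem_ass_of_not_isZero hq hne
  obtain rfl := hA y hy
  obtain ⟨Z, i, hi, hZ, I, ι, hι, hI, hI0, k, hk, -⟩ := exists_of_ass_eq hq y hy hA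
  exact ⟨Z, i, hi, hZ, I, ι, hι, hI, hI0, k ≫ (vanish Q W).ι, mono_comp _ _⟩

end Groth.Agent.CohqA.DevSub
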