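import Groth.Agent.CohqA.DualBasisH

/-!
# Finite locally free base change for quasi-coherent cohomology
-/

set_option autoImplicit false
universe u

open CategoryTheory AlgebraicGeometry Limits Opposite TopologicalSpace TensorProduct
  AlgebraicGeometry.Scheme.Modules

namespace Groth.Agent.CohqA.DualBasisFin

open Groth.Agent.CohqA.PullbackUniv Groth.Agent.CohqA.PullbackSections
  Groth.Agent.CohqA.DualBasisMap Groth.Agent.CohqA.DualBasisSpec Groth.Agent.CohqA.DualBasisH
  Groth.Agent.CohqA.BasisHom Groth.Agent.Ega3B.LeraySheaf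

variable {X X' : Scheme.{u}} (g : X' ⟶ X) {M : X.Modules} {N : X'.Modules}

/-- A morphism of modules into `g_* N` as a morphism of abelian sheaves. -/
noncomputable def abIn (a : M ⟶ (pushforward g).obj N) : Coh.toAb M ⟶ (Rf g.base).obj (Coh.toAb N) :=
  (SheafOfModules.toSheaf X.ringCatSheaf).map a

/-- A morphism of modules from `g_* N` as a morphism of abelian sheaves. -/
noncomputable def abOut (φ : (pushforward g).obj N ⟶ M) : (Rf g.base).obj (Coh.toAb N) ⟶ Coh.toAb M :=
  (SheafOfModules.toSheaf X.ringCatSheaf).map φ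

lemma abIn_app (a : M ⟶ (pushforward g).obj N) (U : (Opens X)ᵒᵖ) (x : Γ(M, U.unop)) :
    (abIn g a).hom.app U x = a.app U.unop x := rfl

lemma abOut_app (φ : (pushforward g).obj N ⟶ M) (U : (Opens X)ᵒᵖ) (x : Γ(N, g ⁻¹ᵁ U.unop)) :
    (abOut g φ).hom.app U x = φ.app U.unop x := rfl

variable {A B : Type u} [CommRing A] [CommRing B] [Algebra A B]
  {p : X ⟶ Spec (CommRingCat.of A)} {p' : X' ⟶ Spec (CommRingCat.of B)} {g}

lemma app_sc (w : g ≫ p = p' ≫ Spec.map (CommRingCat.ofHom (algebraMap A B))) (U : X.Opens) (r : A) :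
    g.app U (sc p U r) = sc p' (g ⁻¹ᵁ U) (algebraMap A B r) := by
  have h1 := fn_comp w U ((Scheme.ΓSpecIso (CommRingCat.of A)).inv.hom r)
  refine h1.trans ?_
  have h2 := Scheme.ΓSpecIso_inv_naturality (CommRingCat.ofHom (algebraMap A B))
  exact congrArg (fn p' (g ⁻¹ᵁ U)) congr($h2 r).symm

lemma smul_abIn (w : g ≫ p = p' ≫ Spec.map (CommRingCat.ofHom (algebraMap A B)))
    (a : M ⟶ (pushforward g).obj N) (r : A) :
    Coh.smulAb M (Coh.toGlobal p r) ≫ abIn g a =
      abIn g a ≫ (Rf g.base).map (Coh.smulAb N (Coh.toGlobal p' (algebraMap A B r))) := by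
  apply Sheaf.hom_ext
  ext U x
  change a.app U.unop (sc p U.unop r • (show Γ(M, U.unop) from x)) =
    sc p' (g ⁻¹ᵁ U.unop) (algebraMap A B r) • (show Γ(N, g ⁻¹ᵁ U.unop) from a.app U.unop x)
  rw [← app_sc w]
  exact Hom.app_smul a _ _

lemma sum_app {F G : Sheaf (Opens.grothendieckTopology X) AddCommGrpCat.{u}} {ι : Type*} [Fintype ι]
    (f : ι → (F ⟶ G)) (U : (Opens X)ᵒᵖ) (x : F.obj.obj U) :
    (∑ j, f j).hom.app U x = ∑ j, (f j).hom.app U x := by
  let Φ : (F ⟶ G) →+ (F.obj.obj U →+ G.obj.obj U) :=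
    { toFun := fun g => (g.hom.app U).hom
      map_zero' := rfl
      map_add' := fun g h => rfl }
  change Φ (∑ j, f j) x = ∑ j, Φ (f j) x
  rw [map_sum, AddMonoidHom.finsetSum_apply]

theorem main [Module.Finite A B] [Module.Projective A B]
    (h : IsPullback g p' p (Spec.map (CommRingCat.ofHom (algebraMap A B)))) [M.IsQuasicoherent]
    (a : M ⟶ (pushforward g).obj N) (ha : IsUniv g a) (i : ℕ) {V W : Type u}
    [AddCommGroup V] [Module A V] [AddCommGroup W] [Module B W]
    (eV : V ≃+ Sheaf.H (Coh.toAb M) i) (eW : W ≃+ Sheaf.H (Coh.toAb N) i)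
    (hV : ∀ (r : A) (v : V), eV (r • v) = Sheaf.H.map (Coh.smulAb M (Coh.toGlobal p r)) i (eV v))
    (hW : ∀ (c : B) (w : W),
      eW (c • w) = Sheaf.H.map (Coh.smulAb N (Coh.toGlobal p' c)) i (eW w)) :
    Nonempty (B ⊗[A] V ≃ₗ[B] W) := by
  obtain ⟨n, b, lam, φ, hb, h1, h2⟩ := exists_dualBasis_spec A B p p' g h a ha
  have hg : IsAffineHom g := MorphismProperty.of_isPullback h.flip inferInstance
  have hN : N.IsQuasicoherent :=
    Groth.Agent.CohqA.PullbackQCoh.isQuasicoherent_of_isUniv g a ha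
  refine nonempty_equiv_H g.base {V | IsAffineOpen V} X.isBasis_affineOpens ?_ b lam hb (abIn g a)
    (fun j => abOut g (φ j)) (fun r => Coh.smulAb M (Coh.toGlobal p r))
    (fun c => Coh.smulAb N (Coh.toGlobal p' c)) (smul_abIn h.w a) ?_ ?_ eV eW hV hW
  · intro V hV n
    exact Groth.Agent.CohqA.AffineVanish.HU_subsingleton N (n + 1) n.succ_pos _ (hV.preimage g)
  · intro j c
    apply Sheaf.hom_ext
    ext U x
    exact h1 j U.unop c x
  · apply Sheaf.hom_ext
    ext U y
    refine (sum_app _ U y).trans ?_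
    exact h2 U.unop y

end Groth.Agent.CohqA.DualBasisFin
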