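import Groth.Agent.CohqA.DualBasisSpec
import Groth.Agent.CohqA.AffineVanish
import Groth.Agent.Ega3B.LeraySheaf

/-!
# Finite projective base change from a dual basis
-/

set_option autoImplicit false
universe u

open CategoryTheory AlgebraicGeometry Limits Opposite TopologicalSpace TensorProduct

namespace Groth.Agent.CohqA.DualBasisH

section Alg

variable {A B V W : Type u} [CommRing A] [CommRing B] [Algebra A B] [AddCommGroup V] [Module A V]
  [AddCommGroup W] [Module B W]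

/-- A module `W` over `B` with `η : V → W` and "coordinates" `φ j : W → V` is `B ⊗[A] V`. -/
theorem nonempty_equiv {n : ℕ} (b : Fin n → B) (lam : Fin n → B →ₗ[A] A)
    (hb : ∀ x, ∑ j, lam j x • b j = x) (η : V →+ W) (hη : ∀ (r : A) (v : V), η (r • v) = algebraMap A B r • η v)
    (φ : Fin n → W →+ V) (h1 : ∀ (j : Fin n) (c : B) (v : V), φ j (c • η v) = lam j c • v)
    (h2 : ∀ w, ∑ j, b j • η (φ j w) = w) : Nonempty (B ⊗[A] V ≃ₗ[B] W) := by
  let : Module A W := Module.compHom W (algebraMap A B)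
  have : IsScalarTower A B W := ⟨fun r a x => by
    rw [Algebra.smul_def, mul_smul]
    rfl⟩
  let ηA : V →ₗ[A] W := { η with map_smul' := hη }
  let θ : B ⊗[A] V →ₗ[B] W := ηA.liftBaseChange B
  have hθ : ∀ (c : B) (v : V), θ (c ⊗ₜ v) = c • η v := fun c v => LinearMap.liftBaseChange_tmul B ηA c v
  let ψ : W →+ B ⊗[A] V := ∑ j, (TensorProduct.mk A B V (b j)).toAddMonoidHom.comp (φ j)
  have hψ : ∀ w, ψ w = ∑ j, b j ⊗ₜ[A] φ j w := fun w => by
    simp only [ψ, AddMonoidHom.finsetSum_apply]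
    rfl
  have hl : Function.LeftInverse ψ θ := by
    intro z
    induction z using TensorProduct.induction_on with
    | zero => simp
    | add x y hx hy => rw [map_add, map_add, hx, hy]
    | tmul c v =>
      rw [hθ, hψ]
      conv_rhs => rw [← hb c, TensorProduct.sum_tmul]
      refine Finset.sum_congr rfl fun j _ => ?_
      rw [h1, TensorProduct.tmul_smul, TensorProduct.smul_tmul']
  have hr : Function.RightInverse ψ θ := by
    intro w
    rw [hψ, map_sum]
    simp only [hθ]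
    exact h2 w
  exact ⟨LinearEquiv.ofBijective θ ⟨hl.injective, hr.surjective⟩⟩

end Alg

open Groth.Agent.Ega3B.LeraySheaf

section Sh

variable {X Y : TopCat.{u}} (f : X ⟶ Y)

theorem map_sum_H {F G : Sheaf (Opens.grothendieckTopology Y) AddCommGrpCat.{u}} (n : ℕ) {ι : Type*} [Fintype ι] (g : ι → (F ⟶ G)) (x : Sheaf.H F n) :
    Sheaf.H.map (∑ j, g j) n x = ∑ j, Sheaf.H.map (g j) n x := by
  let Φ : (F ⟶ G) →+ (Sheaf.H F n →+ Sheaf.H G n) :=
    { toFun := fun g => Sheaf.H.map g n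
      map_zero' := by
        ext x
        change ((Sheaf.functorH _ n).map (0 : F ⟶ G)).hom x = 0
        rw [Functor.map_zero]
        rfl
      map_add' := fun g h => by
        ext x
        exact Sheaf.H.map_add_apply g h x }
  change Φ (∑ j, g j) x = ∑ j, Φ (g j) x
  rw [map_sum, AddMonoidHom.finsetSum_apply]

variable {A B V W : Type u} [CommRing A] [CommRing B] [Algebra A B] [AddCommGroup V] [Module A V]
  [AddCommGroup W] [Module B W]

theorem nonempty_equiv_H {F : Sheaf (Opens.grothendieckTopology Y) AddCommGrpCat.{u}}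
    {G : Sheaf (Opens.grothendieckTopology X) AddCommGrpCat.{u}} {i : ℕ} (Bs : Set (Opens Y))
    (hBs : Opens.IsBasis Bs) (hG : Acyc f Bs G) {n : ℕ} (b : Fin n → B) (lam : Fin n → B →ₗ[A] A)
    (hb : ∀ x, ∑ j, lam j x • b j = x) (eta : F ⟶ (Rf f).obj G)
    (φ : Fin n → ((Rf f).obj G ⟶ F)) (α : A → (F ⟶ F)) (β : B → (G ⟶ G))
    (hη : ∀ r, α r ≫ eta = eta ≫ (Rf f).map (β (algebraMap A B r)))
    (h1 : ∀ (j : Fin n) (c : B), eta ≫ (Rf f).map (β c) ≫ φ j = α (lam j c))
    (h2 : ∑ j, φ j ≫ eta ≫ (Rf f).map (β (b j)) = 𝟙 _)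
    (eV : V ≃+ Sheaf.H F i) (eW : W ≃+ Sheaf.H G i)
    (hV : ∀ (r : A) (v : V), eV (r • v) = Sheaf.H.map (α r) i (eV v))
    (hW : ∀ (c : B) (w : W), eW (c • w) = Sheaf.H.map (β c) i (eW w)) :
    Nonempty (B ⊗[A] V ≃ₗ[B] W) := by
  let c₀ : Sheaf.H ((Rf f).obj G) i ≃+ Sheaf.H G i :=
    AddEquiv.ofBijective (compTop f G i) (compTop_bijective f Bs hBs G hG i)
  have hc : ∀ (c : B) (x : Sheaf.H ((Rf f).obj G) i),
      c₀ (Sheaf.H.map ((Rf f).map (β c)) i x) = Sheaf.H.map (β c) i (c₀ x) := fun c x =>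
    compTop_natural f (β c) i x
  have hc' : ∀ (c : B) (x : Sheaf.H G i),
      c₀.symm (Sheaf.H.map (β c) i x) = Sheaf.H.map ((Rf f).map (β c)) i (c₀.symm x) := fun c x => by
    rw [AddEquiv.symm_apply_eq, hc, AddEquiv.apply_symm_apply]
  refine nonempty_equiv b lam hb
    ((eW.symm.toAddMonoidHom.comp (c₀.toAddMonoidHom.comp (Sheaf.H.map eta i))).comp
      eV.toAddMonoidHom) ?_
    (fun j => eV.symm.toAddMonoidHom.comp ((Sheaf.H.map (φ j) i).comp
      (c₀.symm.toAddMonoidHom.comp eW.toAddMonoidHom))) ?_ ?_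
  · intro r v
    change eW.symm (c₀ (Sheaf.H.map eta i (eV (r • v)))) =
      algebraMap A B r • eW.symm (c₀ (Sheaf.H.map eta i (eV v)))
    rw [AddEquiv.symm_apply_eq, hW, AddEquiv.apply_symm_apply, ← hc, hV, ← Sheaf.H.map_comp_apply,
      hη, Sheaf.H.map_comp_apply]
  · intro j c v
    change eV.symm (Sheaf.H.map (φ j) i (c₀.symm (eW (c • eW.symm (c₀ (Sheaf.H.map eta i (eV v))))))) =
      lam j c • v
    rw [AddEquiv.symm_apply_eq, hV, hW, AddEquiv.apply_symm_apply, hc', AddEquiv.symm_apply_apply,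
      ← h1, Sheaf.H.map_comp_apply, Sheaf.H.map_comp_apply]
  · intro w
    change ∑ j, b j • eW.symm (c₀ (Sheaf.H.map eta i (eV (eV.symm
      (Sheaf.H.map (φ j) i (c₀.symm (eW w))))))) = w
    apply eW.injective
    rw [map_sum]
    apply c₀.symm.injective
    rw [map_sum]
    have : ∀ j, c₀.symm (eW (b j • eW.symm (c₀ (Sheaf.H.map eta i (eV (eV.symm
      (Sheaf.H.map (φ j) i (c₀.symm (eW w))))))))) =
        Sheaf.H.map (φ j ≫ eta ≫ (Rf f).map (β (b j))) i (c₀.symm (eW w)) := by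
      intro j
      rw [hW, AddEquiv.apply_symm_apply, AddEquiv.apply_symm_apply, hc',
        AddEquiv.symm_apply_apply, Sheaf.H.map_comp_apply, Sheaf.H.map_comp_apply]
    simp only [this]
    rw [← map_sum_H, h2, Sheaf.H.map_id_apply]

end Sh

end Groth.Agent.CohqA.DualBasisH
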