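import Groth.Agent.CohqA.BasisHom
import Groth.Agent.CohqA.AffineBaseChange

/-!
# The maps `g_* g^* M ⟶ M` attached to linear forms

For a cartesian square over an affine morphism `T ⟶ S` of affine schemes and a linear form
`lam : Γ(T, ⊤) → Γ(S, ⊤)` there is a unique morphism `g_* g^* M ⟶ M` sending `t • η(m)` to
`lam t • m`.
-/

set_option autoImplicit false
universe u

open CategoryTheory AlgebraicGeometry Limits Opposite TopologicalSpace AlgebraicGeometry.Scheme.Modules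

namespace Groth.Agent.CohqA.DualBasisMap

open Groth.Agent.CohqA.PullbackUniv Groth.Agent.CohqA.BaseChangeMod Groth.Agent.CohqA.PullbackAffine
  Groth.Agent.CohqA.PullbackSections Groth.Agent.CohqA.PullbackQCoh Groth.Agent.CohqA.BasisHom
  Groth.Agent.CohqA.BaseChangePushout

section Alg

variable {R S : Type u} [CommRing R] [CommRing S] {i : R →+* S} {M M' : Type u}
  [AddCommGroup M] [Module R M] [AddCommGroup M'] [Module S M'] {m : M →+ M'}

theorem exists_isBaseChange (h : IsBC i m) :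
    ∃ (_ : Algebra R S) (_ : Module R M') (_ : IsScalarTower R S M') (m' : M →ₗ[R] M'),
      (∀ r : R, algebraMap R S r = i r) ∧ (∀ x, m' x = m x) ∧ IsBaseChange S m' := by
  let : Algebra R S := i.toAlgebra
  let : Module R M' := Module.compHom M' i
  have : IsScalarTower R S M' := ⟨fun r a x => by
    change (i r * a) • x = i r • a • x
    rw [mul_smul]⟩
  let mR : M →ₗ[R] M' := { m with map_smul' := h.map_smul }
  exact ⟨inferInstance, inferInstance, inferInstance, mR, fun _ => rfl, fun _ => rfl,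
    (isBC_iff_isBaseChange mR).1 h⟩

theorem exists_of_isBC (h : IsBC i m) (lam : S →+ R) (hlam : ∀ r s, lam (i r * s) = r * lam s) :
    ∃ φ : M' →+ M, ∀ (s : S) (x : M), φ (s • m x) = lam s • x := by
  obtain ⟨_, _, _, m', hi, hm, hR⟩ := exists_isBaseChange h
  let lamR : S →ₗ[R] R := { lam with
    map_smul' := fun r s => by
      change lam (r • s) = r * lam s
      rw [Algebra.smul_def, hi, hlam] }
  let φ : M' →ₗ[R] M := (TensorProduct.lid R M).toLinearMap ∘ₗ (lamR.rTensor M) ∘ₗ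
    (hR.equiv.symm.restrictScalars R).toLinearMap
  refine ⟨φ.toAddMonoidHom, fun s x => ?_⟩
  change TensorProduct.lid R M (lamR.rTensor M (hR.equiv.symm (s • m x))) = _
  have : hR.equiv.symm (s • m x) = s ⊗ₜ[R] x := by
    rw [LinearEquiv.symm_apply_eq, hR.equiv_tmul, hm]
  rw [this, LinearMap.rTensor_tmul, TensorProduct.lid_tmul]
  rfl

theorem ext_of_isBC (h : IsBC i m) {Q : Type*} [AddCommGroup Q] {f g : M' →+ Q}
    (hfg : ∀ (s : S) (x : M), f (s • m x) = g (s • m x)) : f = g := by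
  obtain ⟨_, _, _, m', hi, hm, hR⟩ := exists_isBaseChange h
  ext y
  obtain ⟨z, rfl⟩ := hR.equiv.surjective y
  induction z using TensorProduct.induction_on with
  | zero => simp
  | tmul s x => rw [hR.equiv_tmul, hm, hfg]
  | add x y hx hy => rw [map_add, map_add, map_add, hx, hy]

end Alg

variable {X X' S T : Scheme.{u}} {g : X' ⟶ X} {p' : X' ⟶ T} {p : X ⟶ S} {q : T ⟶ S}

/-- Functions on the base `T` as functions on `g⁻¹ U`. -/
noncomputable def fn (p' : X' ⟶ T) (V : X'.Opens) : Γ(T, ⊤) →+* Γ(X', V) :=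
  (p'.appLE ⊤ V le_top).hom

lemma fn_map (p' : X' ⟶ T) {V W : X'.Opens} (h : V ≤ W) (t : Γ(T, ⊤)) :
    X'.presheaf.map (homOfLE h).op (fn p' W t) = fn p' V t := by
  rw [fn, fn, ← Scheme.Hom.appLE_map p' le_top (homOfLE h).op]
  rfl

lemma fn_comp (w : g ≫ p = p' ≫ q) (U : X.Opens) (s : Γ(S, ⊤)) :
    g.app U (fn p U s) = fn p' (g ⁻¹ᵁ U) (q.appTop s) := by
  have h1 : p.appLE ⊤ U le_top ≫ g.app U = q.appTop ≫ p'.appLE ⊤ (g ⁻¹ᵁ U) le_top := by
    rw [← Scheme.Hom.appLE_eq_app, Scheme.Hom.appLE_comp_appLE]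
    have h2 : q.appTop = q.appLE ⊤ ⊤ le_top := (Scheme.Hom.appLE_eq_app q).symm
    rw [h2, Scheme.Hom.appLE_comp_appLE]
    simp only [w]
  exact congr($h1 s)

theorem isPushout (h : IsPullback g p' p q) [IsAffine S] [IsAffine T] {U : X.Opens}
    (hU : IsAffineOpen U) :
    IsPushout q.appTop (p.appLE ⊤ U le_top) (p'.appLE ⊤ (g ⁻¹ᵁ U) le_top) (g.app U) := by
  have h1 := isIso_pushoutSection_of_isAffineOpen h (US := ⊤) (UT := ⊤) (UX := U)
    (UY := g ⁻¹ᵁ U) le_top le_top (by simp) (isAffineOpen_top S) (isAffineOpen_top T) hU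
  have h2 := ((isIso_pushoutSection_iff ..).1 h1).flip
  have h3 : q.appTop = q.appLE ⊤ ⊤ le_top := (Scheme.Hom.appLE_eq_app q).symm
  rw [h3, ← Scheme.Hom.appLE_eq_app]
  exact h2

section

variable {M : X.Modules} {N : X'.Modules} [M.IsQuasicoherent]
  (a : M ⟶ (pushforward g).obj N)

lemma isBC_app (h : IsPullback g p' p q) [IsAffine S] [IsAffine T] (ha : IsUniv g a)
    {U : X.Opens} (hU : IsAffineOpen U) :
    @IsBC _ _ _ _ q.appTop.hom Γ(M, U) Γ(N, g ⁻¹ᵁ U) _ (Module.compHom _ (fn p U)) _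
      (Module.compHom _ (fn p' (g ⁻¹ᵁ U))) (a.app U).hom := by
  have hg : IsAffineHom g := MorphismProperty.of_isPullback h.flip inferInstance
  have h1 := isBC_secMap g a ha hU (hU.preimage g) le_rfl
  have h2 : (secMap g a U (g ⁻¹ᵁ U) le_rfl).hom = (a.app U).hom := by
    ext x
    exact map_self' N le_rfl (a.app U x)
  rw [h2, Scheme.Hom.appLE_eq_app] at h1
  let : Module Γ(S, ⊤) Γ(M, U) := Module.compHom _ (fn p U)
  let : Module Γ(T, ⊤) Γ(N, g ⁻¹ᵁ U) := Module.compHom _ (fn p' (g ⁻¹ᵁ U))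
  exact isBC_of_isPushout (isPushout h hU) (fun r x => rfl) (fun r x => rfl) h1

theorem exists_secHom (h : IsPullback g p' p q) [IsAffine S] [IsAffine T] (ha : IsUniv g a)
    {U : X.Opens} (hU : IsAffineOpen U) (lam : Γ(T, ⊤) →+ Γ(S, ⊤))
    (hlam : ∀ r s, lam (q.appTop r * s) = r * lam s) :
    ∃ φ : Γ(N, g ⁻¹ᵁ U) →+ Γ(M, U), ∀ (t : Γ(T, ⊤)) (x : Γ(M, U)),
      φ (fn p' (g ⁻¹ᵁ U) t • (show Γ(N, g ⁻¹ᵁ U) from a.app U x)) = fn p U (lam t) • x := by
  let : Module Γ(S, ⊤) Γ(M, U) := Module.compHom _ (fn p U)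
  let : Module Γ(T, ⊤) Γ(N, g ⁻¹ᵁ U) := Module.compHom _ (fn p' (g ⁻¹ᵁ U))
  exact exists_of_isBC (isBC_app a h ha hU) lam hlam

theorem secHom_ext (h : IsPullback g p' p q) [IsAffine S] [IsAffine T] (ha : IsUniv g a)
    {U : X.Opens} (hU : IsAffineOpen U) {Q : Type*} [AddCommGroup Q]
    {f f' : Γ(N, g ⁻¹ᵁ U) →+ Q} (hf : ∀ (t : Γ(T, ⊤)) (x : Γ(M, U)),
      f (fn p' (g ⁻¹ᵁ U) t • (show Γ(N, g ⁻¹ᵁ U) from a.app U x)) =
        f' (fn p' (g ⁻¹ᵁ U) t • (show Γ(N, g ⁻¹ᵁ U) from a.app U x))) : f = f' := by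
  let : Module Γ(S, ⊤) Γ(M, U) := Module.compHom _ (fn p U)
  let : Module Γ(T, ⊤) Γ(N, g ⁻¹ᵁ U) := Module.compHom _ (fn p' (g ⁻¹ᵁ U))
  exact ext_of_isBC (isBC_app a h ha hU) hf

/-- The scalar `fn p' _ t` acting on the sections of `g_* N`. -/
lemma smul_map (t : Γ(T, ⊤)) {U V : X.Opens} (e : U ≤ V) (y : Γ(N, g ⁻¹ᵁ V)) :
    N.presheaf.map (homOfLE (g.preimage_mono e)).op (fn p' (g ⁻¹ᵁ V) t • y) =
      fn p' (g ⁻¹ᵁ U) t • N.presheaf.map (homOfLE (g.preimage_mono e)).op y := by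
  refine (Scheme.Modules.map_smul N (homOfLE (g.preimage_mono e)) (fn p' (g ⁻¹ᵁ V) t) y).trans ?_
  congr 1
  exact fn_map p' (g.preimage_mono e) t

lemma smul_map' (M : X.Modules) (s : Γ(S, ⊤)) {U V : X.Opens} (e : U ≤ V) (y : Γ(M, V)) :
    M.presheaf.map (homOfLE e).op (fn p V s • y) =
      fn p U s • M.presheaf.map (homOfLE e).op y := by
  refine (Scheme.Modules.map_smul M (homOfLE e) (fn p V s) y).trans ?_
  congr 1
  exact fn_map p e s

/-- The morphism `g_* N ⟶ M` attached to a linear form `lam : Γ(T, ⊤) → Γ(S, ⊤)`. -/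
theorem exists_hom (h : IsPullback g p' p q) [IsAffine S] [IsAffine T] (ha : IsUniv g a)
    (lam : Γ(T, ⊤) →+ Γ(S, ⊤)) (hlam : ∀ r s, lam (q.appTop r * s) = r * lam s) :
    ∃ φ : (pushforward g).obj N ⟶ M, ∀ (U : X.Opens) (t : Γ(T, ⊤)) (x : Γ(M, U)),
      φ.app U (fn p' (g ⁻¹ᵁ U) t • (show Γ(N, g ⁻¹ᵁ U) from a.app U x)) = fn p U (lam t) • x := by
  choose f hf using fun U : X.affineOpens => exists_secHom a h ha U.2 lam hlam
  have hB : Opens.IsBasis (Set.range fun U : X.affineOpens => U.1) := by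
    have := X.isBasis_affineOpens
    rwa [← Subtype.range_coe (s := X.affineOpens)] at this
  have key := exists_hom_of_basis (M := (pushforward g).obj N) (N := M)
    (ι := X.affineOpens) (fun U => U.1) hB f ?_ ?_
  · obtain ⟨φ, hφ⟩ := key
    refine ⟨φ, fun V t x => ?_⟩
    apply eq_of_locally_eq
    intro y hy
    obtain ⟨_, ⟨U, hU, rfl⟩, hyU, hUV⟩ := X.isBasis_affineOpens.exists_subset_of_mem_open hy V.isOpen
    refine ⟨U, hUV, hyU, ?_⟩
    rw [← app_map φ hUV, hφ ⟨U, hU⟩]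
    have e1 := smul_map (p' := p') t (show U ≤ V from hUV) (show Γ(N, g ⁻¹ᵁ V) from a.app V x)
    have e2 := app_map a (show U ≤ V from hUV) x
    have e3 := smul_map' (p := p) M (lam t) (show U ≤ V from hUV) x
    refine Eq.trans ?_ e3.symm
    rw [← hf ⟨U, hU⟩ t]
    congr 1
    refine e1.trans ?_
    exact congrArg (fn p' (g ⁻¹ᵁ U) t • ·) e2.symm
  · intro U V e x
    have := secHom_ext a h ha V.2 (f := (f U).comp
      (N.presheaf.map (homOfLE (g.preimage_mono e)).op).hom)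
      (f' := (M.presheaf.map (homOfLE e).op).hom.comp (f V)) ?_
    · exact DFunLike.congr_fun this x
    · intro t x
      change f U (N.presheaf.map (homOfLE (g.preimage_mono e)).op _) =
        M.presheaf.map (homOfLE e).op (f V _)
      rw [hf, smul_map (p' := p') t e, smul_map' (p := p) M (lam t) e, ← hf]
      congr 1
      congr 1
      exact (app_map a e x).symm
  · intro U r x
    have := secHom_ext a h ha U.2 (f := (f U).comp
      (DistribSMul.toAddMonoidHom Γ(N, g ⁻¹ᵁ U.1) (g.app U.1 r)))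
      (f' := (DistribSMul.toAddMonoidHom Γ(M, U.1) r).comp (f U)) ?_
    · exact DFunLike.congr_fun this x
    · intro t x
      change f U (g.app U.1 r • _) = r • f U _
      rw [hf, smul_comm, ← mul_smul, mul_comm, mul_smul]
      have := hf U t (r • x)
      rw [smul_comm r, ← this]
      congr 1
      rw [← mul_smul, mul_comm, mul_smul]
      congr 1
      exact (Hom.app_smul a r x).symm

/-- **The sheaf maps of a dual basis.** If `b`, `lam` is a dual basis of `Γ(T, ⊤)` over `Γ(S, ⊤)`,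
then there are morphisms `φ j : g_* N ⟶ M` with `φ j (t • η m) = lam j t • m` and
`∑ j, b j • η (φ j y) = y`. -/
theorem exists_dualBasis (h : IsPullback g p' p q) [IsAffine S] [IsAffine T] (ha : IsUniv g a)
    {ι : Type*} [Fintype ι] (b : ι → Γ(T, ⊤)) (lam : ι → Γ(T, ⊤) →+ Γ(S, ⊤))
    (hlam : ∀ j r s, lam j (q.appTop r * s) = r * lam j s)
    (hb : ∀ t, ∑ j, q.appTop (lam j t) * b j = t) :
    ∃ φ : ι → ((pushforward g).obj N ⟶ M),
      (∀ (j : ι) (U : X.Opens) (t : Γ(T, ⊤)) (x : Γ(M, U)),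
        (φ j).app U (fn p' (g ⁻¹ᵁ U) t • (show Γ(N, g ⁻¹ᵁ U) from a.app U x)) =
          fn p U (lam j t) • x) ∧
      ∀ (U : X.Opens) (y : Γ(N, g ⁻¹ᵁ U)),
        ∑ j, fn p' (g ⁻¹ᵁ U) (b j) • (show Γ(N, g ⁻¹ᵁ U) from a.app U ((φ j).app U y)) = y := by
  choose φ hφ using fun j => exists_hom a h ha (lam j) (hlam j)
  refine ⟨φ, hφ, fun V y => ?_⟩
  let σ : ∀ U : X.Opens, Γ(N, g ⁻¹ᵁ U) →+ Γ(N, g ⁻¹ᵁ U) := fun U =>
    ∑ j, (DistribSMul.toAddMonoidHom Γ(N, g ⁻¹ᵁ U) (fn p' (g ⁻¹ᵁ U) (b j))).comp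
      ((a.app U).hom.comp ((φ j).app U).hom)
  have hσ : ∀ (U : X.Opens) (y : Γ(N, g ⁻¹ᵁ U)), σ U y =
      ∑ j, fn p' (g ⁻¹ᵁ U) (b j) • (show Γ(N, g ⁻¹ᵁ U) from a.app U ((φ j).app U y)) := by
    intro U y
    simp only [σ, AddMonoidHom.finsetSum_apply]
    rfl
  have h1 : ∀ U : X.Opens, IsAffineOpen U → ∀ y : Γ(N, g ⁻¹ᵁ U), σ U y = y := by
    intro U hU y
    have := secHom_ext a h ha hU (f := σ U) (f' := AddMonoidHom.id _) ?_
    · exact DFunLike.congr_fun this y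
    · intro t x
      rw [hσ, AddMonoidHom.id_apply]
      conv_rhs => rw [← hb t, map_sum, Finset.sum_smul]
      refine Finset.sum_congr rfl fun j _ => ?_
      rw [hφ, map_mul, mul_comm, mul_smul]
      congr 1
      rw [← fn_comp h.w]
      exact Hom.app_smul a _ x
  rw [← hσ]
  refine eq_of_locally_eq ((pushforward g).obj N) (V := V) (σ V y) y fun x hx => ?_
  obtain ⟨_, ⟨U, hU, rfl⟩, hyU, hUV⟩ := X.isBasis_affineOpens.exists_subset_of_mem_open hx V.isOpen
  refine ⟨U, hUV, hyU, ?_⟩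
  refine Eq.trans ?_ (h1 U hU _)
  rw [hσ, hσ]
  refine (map_sum (((pushforward g).obj N).presheaf.map (homOfLE hUV).op).hom _ _).trans ?_
  refine Finset.sum_congr rfl fun j _ => ?_
  refine (smul_map (p' := p') (N := N) (b j) (show U ≤ V from hUV) _).trans ?_
  congr 1
  refine (app_map a hUV _).symm.trans ?_
  congr 1
  exact (app_map (φ j) hUV y).symm

end

end Groth.Agent.CohqA.DualBasisMap
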