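import Groth.Agent.CohqB.DevSupport
import Groth.Agent.Ega4dA.GenSec

/-!
# Nonzero maps between line bundles on an integral scheme; the cokernel vanishes at the generic point
-/

set_option autoImplicit false
universe u

open CategoryTheory CategoryTheory.Limits AlgebraicGeometry TopologicalSpace Opposite

namespace Groth.Agent.CohqA.SerreGen

open Ega4dA.GenSec

variable {X : Scheme.{u}}

theorem app_smul {L M : X.Modules} (φ : L ⟶ M) {U : X.Opens} (r : Γ(X, U)) (s : Γ(L, U)) :
    φ.app U (r • s) = r • φ.app U s :=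
  (φ.val.app (op U)).hom.map_smul r s

/-- If `s` generates `L` and `φ s` vanishes then `φ` vanishes on all sections over smaller opens. -/
theorem app_eq_zero_of_isGen {L M : X.Modules} (φ : L ⟶ M) {U : X.Opens} {s : Γ(L, U)} (hs : IsGen L U s)
    (h0 : φ.app U s = 0) {V : X.Opens} (hV : V ≤ U) (t : Γ(L, V)) : φ.app V t = 0 := by
  obtain ⟨r, rfl⟩ := hs.exists_eq hV t
  rw [app_smul, app_res, h0, res_zero, smul_zero]

/-- `L` is generated by one section near every point. -/
def LocGen (L : X.Modules) : Prop := ∀ x : X, ∃ (U : X.Opens) (s : Γ(L, U)), x ∈ U ∧ IsGen L U s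

theorem exists_app_ne_zero {L M : X.Modules} (hL : LocGen L) (φ : L ⟶ M) (hφ : φ ≠ 0) :
    ∃ (U : X.Opens) (s : Γ(L, U)), IsGen L U s ∧ φ.app U s ≠ 0 := by
  by_contra hcon
  push Not at hcon
  apply hφ
  refine Scheme.Modules.hom_ext _ _ fun V => ConcreteCategory.hom_ext _ _ fun t => ?_
  refine eq_of_locally M fun x hx => ?_
  obtain ⟨U, s, hxU, hs⟩ := hL x
  refine ⟨V ⊓ U, inf_le_left, ⟨hx, hxU⟩, ?_⟩
  rw [← app_res, ← app_res]
  rw [app_eq_zero_of_isGen φ hs (hcon U s hs) inf_le_right]
  rfl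

/-- A nonzero map from a line bundle to a line bundle on an integral scheme is surjective on sections near
the generic point. -/
theorem exists_open_surjective [IsIntegral X] {L M : X.Modules} (hL : LocGen L) (hM : LocGen M) (φ : L ⟶ M)
    (hφ : φ ≠ 0) (η : X) (hη : ∀ x, η ⤳ x) :
    ∃ W : X.Opens, η ∈ W ∧ ∀ V ≤ W, Function.Surjective (φ.app V) := by
  obtain ⟨U, s, hs, hne⟩ := exists_app_ne_zero hL φ hφ
  obtain ⟨V, hV, t, ht, hne⟩ : ∃ (V : X.Opens) (hV : V ≤ U) (t : Γ(M, V)), IsGen M V t ∧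
      res M hV (φ.app U s) ≠ 0 := by
    by_contra hcon
    push Not at hcon
    apply hne
    refine eq_of_locally M fun x hx => ?_
    obtain ⟨V, t, hxV, ht⟩ := hM x
    refine ⟨U ⊓ V, inf_le_left, ⟨hx, hxV⟩, ?_⟩
    rw [hcon _ inf_le_left _ (ht.mono inf_le_right), res_zero]
  obtain ⟨g, hg⟩ := ht.exists_eq' (res M hV (φ.app U s))
  have hg0 : g ≠ 0 := by
    rintro rfl
    rw [zero_smul] at hg
    exact hne hg.symm
  have hne' : X.basicOpen g ≠ ⊥ := fun h => hg0 ((basicOpen_eq_bot_iff g).mp h)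
  have hle : X.basicOpen g ≤ V := X.basicOpen_le g
  refine ⟨X.basicOpen g, ?_, ?_⟩
  · obtain ⟨x, hx⟩ : ((X.basicOpen g : X.Opens) : Set X).Nonempty := by
      rw [Set.nonempty_iff_ne_empty]
      intro h
      apply hne'
      ext x
      rw [h]
      simp
    exact (hη x).mem_open (X.basicOpen g).2 hx
  · intro W hW y
    have hu : IsUnit (resO X hle g) := X.toRingedSpace.isUnit_res_basicOpen g
    have h1 := (ht.mono hle).smul hu
    have h2 : resO X hle g • res M hle t = res M (hle.trans hV) (φ.app U s) := by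
      rw [← res_smul, hg, res_res]
    rw [h2] at h1
    obtain ⟨r, hr⟩ := h1.exists_eq hW y
    refine ⟨r • res L (hW.trans (hle.trans hV)) s, ?_⟩
    rw [app_smul, app_res, ← hr, res_res]

/-- If `φ` is surjective on sections over all opens in a neighbourhood of `η`, then `η` is not in the support
of the cokernel. -/
theorem not_mem_support_cokernel_of_surjective {L M : X.Modules} (φ : L ⟶ M) (η : X) (W : X.Opens) (hW : η ∈ W)
    (h : ∀ V ≤ W, Function.Surjective (φ.app V)) : η ∉ CohB1.support (cokernel φ) := by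
  rw [CohqB.DevSupport.not_mem_support_iff_isZero]
  have hs : Function.Surjective ((CohqB.DevSupport.stalkF X η).map φ) := by
    intro y
    obtain ⟨V, hηV, s, rfl⟩ := M.presheaf.exists_germ_eq y
    obtain ⟨t, ht⟩ := h (V ⊓ W) inf_le_right (res M inf_le_left s)
    refine ⟨L.presheaf.germ (V ⊓ W) η ⟨hηV, hW⟩ t, ?_⟩
    rw [CohqB.DevSupport.stalkF_map]
    have h1 := TopCat.Presheaf.stalkFunctor_map_germ_apply (V ⊓ W) η ⟨hηV, hW⟩ φ.mapPresheaf t
    refine h1.trans ?_
    change M.presheaf.germ (V ⊓ W) η _ (φ.app (V ⊓ W) t) = _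
    rw [ht]
    exact TopCat.Presheaf.germ_res_apply M.presheaf (homOfLE (inf_le_left : V ⊓ W ≤ V)) η ⟨hηV, hW⟩ s
  have he : Epi ((CohqB.DevSupport.stalkF X η).map φ) := (AddCommGrpCat.epi_iff_surjective _).mpr hs
  have h0 : (CohqB.DevSupport.stalkF X η).map (cokernel.π φ) = 0 := by
    rw [← cancel_epi ((CohqB.DevSupport.stalkF X η).map φ), ← Functor.map_comp, cokernel.condition,
      Functor.map_zero, comp_zero]
  have : Epi ((CohqB.DevSupport.stalkF X η).map (cokernel.π φ)) := inferInstance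
  exact IsZero.of_epi_eq_zero _ h0

/-- A nonzero map between line bundles on an integral scheme is surjective at the generic point. -/
theorem not_mem_support_cokernel [IsIntegral X] {L M : X.Modules} (hL : LocGen L) (hM : LocGen M)
    (φ : L ⟶ M) (hφ : φ ≠ 0) (η : X) (hη : ∀ x, η ⤳ x) :
    η ∉ CohB1.support (cokernel φ) := by
  obtain ⟨W, hW, h⟩ := exists_open_surjective hL hM φ hφ η hη
  exact not_mem_support_cokernel_of_surjective φ η W hW h

end Groth.Agent.CohqA.SerreGen
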