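import Groth.Agent.CohqB.DevSupport
import Groth.Agent.CohqA.SerreGen
import Groth.Agent.VarietyB.TwistMul
import Groth.Agent.PerfB.ProjSpaceCover
import Groth.Agent.S0846

/-!
# Coherent modules on `P^r` are quotients of finite sums of arbitrarily negative twists
-/

set_option autoImplicit false
universe u

open CategoryTheory CategoryTheory.Limits AlgebraicGeometry TopologicalSpace Opposite

namespace Groth.Agent.CohqA.EpiNeg

open CohB1 VarietyB.TwistMul

theorem epi_of_locally_surjective {X : Scheme.{u}} {L M : X.Modules} (φ : L ⟶ M)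
    (h : ∀ x : X, ∃ W : X.Opens, x ∈ W ∧ ∀ V ≤ W, Function.Surjective (φ.app V)) : Epi φ := by
  have h0 : IsZero (cokernel φ) := by
    apply CohqB.DevSupport.isZero_of_support_eq_empty
    ext x
    obtain ⟨W, hx, hW⟩ := h x
    exact ⟨fun hx' => (SerreGen.not_mem_support_cokernel_of_surjective φ x W hx hW hx').elim, fun h => h.elim⟩
  exact Preadditive.epi_of_isZero_cokernel φ h0

variable (r : ℕ)

/-- `O(m + N)` is a quotient of a finite sum of copies of `O(m)` by the maps `X_i ^ N`. -/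
theorem epi_desc_mulMap (R : Type u) [CommRing R] (N : ℕ) (m m' : ℤ) (h : m + N = m') :
    Epi (Sigma.desc (fun i : Fin (r + 1) =>
      mulMap (𝒜 := polyGrading r R) (i := N) ⟨(MvPolynomial.X i) ^ N, MvPolynomial.isHomogeneous_X_pow i N⟩ h)) := by
  refine epi_of_locally_surjective _ fun x => ?_
  obtain ⟨i, hi⟩ := PerfB.ProjSpaceCover.exists_mem_basicOpen_X r R x
  refine ⟨Proj.basicOpen (polyGrading r R) (MvPolynomial.X i), hi, fun V hV s => ?_⟩
  obtain ⟨t, ht⟩ := (mulMap_app_bijective (𝒜 := polyGrading r R) (i := N)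
    ⟨(MvPolynomial.X i) ^ N, MvPolynomial.isHomogeneous_X_pow i N⟩ h V (fun x hx => pow_notMem _ (hV hx) N)).2 s
  refine ⟨(Sigma.ι (fun _ : Fin (r + 1) => Twist.twist (polyGrading r R) m) i).app V t, ?_⟩
  rw [← ConcreteCategory.comp_apply, ← Scheme.Modules.Hom.comp_app, Sigma.ι_desc]
  exact ht

/-- Over a Noetherian ring a coherent module on `P^r` is a quotient of a finite sum of sheaves `O(d_j)`, with all
`d_j ≤ N` (given). -/
theorem exists_epi_neg (R : Type u) [CommRing R] [IsNoetherianRing R] (N : ℤ) (G : (ProjSpace r R).Modules)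
    (hG : Coh.IsCoh G) :
    ∃ (n : ℕ) (d : Fin n → ℤ), (∀ j, d j ≤ N) ∧
      ∃ φ : (∐ fun j : Fin n => Twist.twistProjSpace r R (d j)) ⟶ G, Epi φ := by
  obtain ⟨n, d, φ, hφ⟩ := S0846.result (polyGrading r R) G hG
  let e : Fin n → ℕ := fun j => (d j - N).toNat
  let d' : Fin n → ℤ := fun j => d j - e j
  have hd : ∀ j, d' j + e j = d j := fun j => by simp only [d']; omega
  have hd' : ∀ j, d' j ≤ N := fun j => by simp only [d', e]; omega
  let g : ∀ ji : Fin n × Fin (r + 1), Twist.twistProjSpace r R (d' ji.1) ⟶ G := fun ji =>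
    mulMap (𝒜 := polyGrading r R) (i := e ji.1)
      ⟨(MvPolynomial.X ji.2) ^ e ji.1, MvPolynomial.isHomogeneous_X_pow ji.2 (e ji.1)⟩ (hd ji.1) ≫
      Sigma.ι (fun j : Fin n => Twist.twist (polyGrading r R) (d j)) ji.1 ≫ φ
  have hepi : Epi (Sigma.desc g) := by
    refine ⟨fun {Z} f f' hff => ?_⟩
    refine (cancel_epi φ).mp ?_
    refine Sigma.hom_ext _ _ fun j => ?_
    have hepi := epi_desc_mulMap r R (e j) _ _ (hd j)
    refine (cancel_epi (Sigma.desc (fun i : Fin (r + 1) =>
        mulMap (𝒜 := polyGrading r R) (i := e j)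
          ⟨(MvPolynomial.X i) ^ e j, MvPolynomial.isHomogeneous_X_pow i (e j)⟩ (hd j)))).mp ?_
    refine Sigma.hom_ext _ _ fun i => ?_
    have h1 := congrArg (fun t => Sigma.ι (fun ji : Fin n × Fin (r + 1) =>
      Twist.twistProjSpace r R (d' ji.1)) (j, i) ≫ t) hff
    simp only [Sigma.ι_desc_assoc, g, Category.assoc] at h1
    simp only [Sigma.ι_desc_assoc]
    exact h1
  let σ : Fin (n * (r + 1)) ≃ Fin n × Fin (r + 1) := finProdFinEquiv.symm
  refine ⟨n * (r + 1), fun l => d' (σ l).1, fun l => hd' _,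
    Sigma.desc (fun l => g (σ l)), ⟨fun {Z} f f' hff => ?_⟩⟩
  refine (cancel_epi (Sigma.desc g)).mp (Sigma.hom_ext _ _ fun ji => ?_)
  obtain ⟨l, rfl⟩ := σ.surjective ji
  have h1 := congrArg (fun t => Sigma.ι (fun l : Fin (n * (r + 1)) =>
      Twist.twistProjSpace r R (d' (σ l).1)) l ≫ t) hff
  simp only [Sigma.ι_desc_assoc] at h1
  simp only [Sigma.ι_desc_assoc]
  exact h1

end Groth.Agent.CohqA.EpiNeg
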