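import Groth.Agent.CohqA.Linkage
import Groth.Agent.Localalg.ReesLemma
import Groth.Agent.CalgA.RegSerre
import Mathlib.RingTheory.Regular.ProjectiveDimension

/-!
# Lifting homomorphisms `R/I → R/(f, t)` to `R/(f)`

`R` regular local of dimension `n + 2`, `f_1, …, f_n, t` a regular sequence, `f_i ∈ I`, and `(t, u)` weakly regular
on `R/I`: then `Hom(R/I, R/(f)) → Hom(R/I, R/(f,t))` is surjective.
-/

set_option autoImplicit false
universe u

open CategoryTheory Abelian Limits
open scoped Pointwise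

namespace Groth.Agent.CohqA.ExtLift

open RingTheory.Sequence Ideal Linkage

section Quot

variable {R : Type u} [CommRing R] (f : R)

lemma mem_map_iff {J : Ideal R} (hJ : Ideal.span {f} ≤ J) (x : R) :
    Ideal.Quotient.mk (Ideal.span {f}) x ∈ J.map (Ideal.Quotient.mk (Ideal.span {f})) ↔ x ∈ J :=
  Ideal.mem_quotient_iff_mem hJ

lemma wreg_map_iff {J : Ideal R} (hJ : Ideal.span {f} ≤ J) (rs : List R) :
    WReg (J.map (Ideal.Quotient.mk (Ideal.span {f}))) (rs.map (Ideal.Quotient.mk (Ideal.span {f}))) ↔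
      WReg J rs := by
  induction rs generalizing J with
  | nil => simp
  | cons r rs ih =>
    rw [List.map_cons, wreg_cons, wreg_cons]
    have h1 : J.map (Ideal.Quotient.mk (Ideal.span {f})) ⊔
        Ideal.span {Ideal.Quotient.mk (Ideal.span {f}) r} =
        (J ⊔ Ideal.span {r}).map (Ideal.Quotient.mk (Ideal.span {f})) := by
      rw [Ideal.map_sup, Ideal.map_span, Set.image_singleton]
    rw [h1, ih (hJ.trans le_sup_left)]
    refine and_congr_left fun _ => ⟨fun h x hx => ?_, fun h x hx => ?_⟩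
    · rw [← mem_map_iff f hJ]
      refine h _ ?_
      rw [← map_mul, mem_map_iff f hJ]
      exact hx
    · obtain ⟨x, rfl⟩ := Ideal.Quotient.mk_surjective x
      rw [← map_mul, mem_map_iff f hJ] at hx
      exact (mem_map_iff f hJ _).mpr (h x hx)

/-- `(R/f)/(I/f) ≅ R/I` as `R`-modules. -/
noncomputable def restrIso {I : Ideal R} (hI : Ideal.span {f} ≤ I) :
    (ModuleCat.restrictScalars.{u} (Ideal.Quotient.mk (Ideal.span {f}))).obj
      (ModuleCat.of (R ⧸ Ideal.span {f})
        ((R ⧸ Ideal.span {f}) ⧸ I.map (Ideal.Quotient.mk (Ideal.span {f})))) ≅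
      ModuleCat.of R (R ⧸ I) :=
  let X : ModuleCat.{u} R := (ModuleCat.restrictScalars.{u} (Ideal.Quotient.mk (Ideal.span {f}))).obj
      (ModuleCat.of (R ⧸ Ideal.span {f})
        ((R ⧸ Ideal.span {f}) ⧸ I.map (Ideal.Quotient.mk (Ideal.span {f}))))
  let e := DoubleQuot.quotQuotEquivQuotOfLE hI
  let φ : X →ₗ[R] (R ⧸ I) :=
    { toFun := fun x => e x
      map_add' := fun x y => map_add e x y
      map_smul' := fun a x => by
        obtain ⟨x, rfl⟩ := Ideal.Quotient.mk_surjective
          (I := I.map (Ideal.Quotient.mk (Ideal.span {f}))) x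
        obtain ⟨x, rfl⟩ := Ideal.Quotient.mk_surjective (I := Ideal.span {f}) x
        rfl }
  LinearEquiv.toModuleIso (X₁ := X) (LinearEquiv.ofBijective φ e.bijective)

end Quot

/-- Base case: `Ext¹(R/I, R) = 0`, `t` a nonzerodivisor. -/
lemma lift_base {R : Type u} [CommRing R] (t : R) (ht : IsSMulRegular R t) (I : Ideal R)
    (hext : Subsingleton (Ext (ModuleCat.of R (R ⧸ I)) (ModuleCat.of R R) 1)) (x : R)
    (hx : ∀ a ∈ I, x * a ∈ Ideal.span {t}) :
    ∃ y, (∀ a ∈ I, y * a = 0) ∧ x - y ∈ Ideal.span {t} := by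
  have ht' : IsSMulRegular (ModuleCat.of R R) t := ht
  have hS := ht'.smulShortComplex_shortExact
  have hle : I ≤ LinearMap.ker ((Submodule.mkQ (t • (⊤ : Submodule R R))).comp (LinearMap.mulLeft R x)) := by
    intro a ha
    rw [LinearMap.mem_ker, LinearMap.comp_apply, LinearMap.mulLeft_apply, Submodule.mkQ_apply,
      Submodule.Quotient.mk_eq_zero]
    have := hx a ha
    rwa [← Submodule.ideal_span_singleton_smul, smul_eq_mul, Ideal.mul_top]
  let g : ModuleCat.of R (R ⧸ I) ⟶ ((ModuleCat.of R R).smulShortComplex t).X₃ :=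
    ModuleCat.ofHom (Submodule.liftQ I
      ((Submodule.mkQ (t • (⊤ : Submodule R R))).comp (LinearMap.mulLeft R x)) hle)
  obtain ⟨x₂, hx₂⟩ := Ext.covariant_sequence_exact₃ (ModuleCat.of R (R ⧸ I)) hS (Ext.mk₀ g) (zero_add 1)
    (hext.elim _ _)
  obtain ⟨k, rfl⟩ := (Ext.mk₀_bijective _ _).2 x₂
  rw [Ext.mk₀_comp_mk₀] at hx₂
  have hk : k ≫ ((ModuleCat.of R R).smulShortComplex t).g = g := (Ext.mk₀_bijective _ _).1 hx₂
  let k' : (R ⧸ I) →ₗ[R] R := k.hom
  have hk1 : (t • (⊤ : Submodule R R)).mkQ (k' (Submodule.Quotient.mk 1)) =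
      (t • (⊤ : Submodule R R)).mkQ x := by
    have := congrArg (fun q => q.hom (Submodule.Quotient.mk 1)) hk
    refine this.trans ?_
    change (t • (⊤ : Submodule R R)).mkQ (x * 1) = _
    rw [mul_one]
  refine ⟨k' (Submodule.Quotient.mk 1), fun a ha => ?_, ?_⟩
  · rw [mul_comm, ← smul_eq_mul, ← map_smul, ← Submodule.Quotient.mk_smul, smul_eq_mul, mul_one,
      (Submodule.Quotient.mk_eq_zero I).mpr ha, map_zero]
  · have h2 := (Submodule.Quotient.eq _).mp hk1.symm
    rwa [← Submodule.ideal_span_singleton_smul, smul_eq_mul, Ideal.mul_top] at h2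

/-- `f_1, …, f_n` weakly regular in `I`, `t` regular on `R/(f)`, `Ext^{n+1}(R/I, R) = 0`:
every homomorphism `R/I → R/(f,t)` lifts to `R/(f)`. -/
theorem lift_of_ext (n : ℕ) : ∀ (R : Type u) [CommRing R] (rs : List R) (_ : rs.length = n)
    (_ : WReg (⊥ : Ideal R) rs) (t : R) (_ : ∀ x, t * x ∈ Ideal.ofList rs → x ∈ Ideal.ofList rs)
    (I : Ideal R) (_ : Ideal.ofList rs ≤ I)
    (_ : Subsingleton (Ext (ModuleCat.of R (R ⧸ I)) (ModuleCat.of R R) (n + 1))) (x : R)
    (_ : ∀ a ∈ I, x * a ∈ Ideal.ofList rs ⊔ Ideal.span {t}),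
    ∃ y, (∀ a ∈ I, y * a ∈ Ideal.ofList rs) ∧ x - y ∈ Ideal.ofList rs ⊔ Ideal.span {t} := by
  induction n with
  | zero =>
    intro R _ rs hlen hreg t ht I hI hext x hx
    obtain rfl := List.length_eq_zero_iff.mp hlen
    simp only [Ideal.ofList_nil, bot_sup_eq, Ideal.mem_bot] at ht hx ⊢
    refine lift_base t ?_ I hext x hx
    exact IsSMulRegular.of_right_eq_zero_of_smul fun y hy => ht y hy
  | succ n ih =>
    intro R _ rs hlen hreg t ht I hI hext x hx
    obtain ⟨f, rs, rfl⟩ : ∃ f rs', rs = f :: rs' := by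
      cases rs with
      | nil => simp at hlen
      | cons f rs' => exact ⟨f, rs', rfl⟩
    have hlen' : rs.length = n := by simpa using hlen
    rw [wreg_cons, bot_sup_eq] at hreg
    have hfreg : IsSMulRegular R f := IsSMulRegular.of_right_eq_zero_of_smul fun y hy =>
      (Ideal.mem_bot).mp (hreg.1 y ((Ideal.mem_bot).mpr hy))
    have hfle : Ideal.span {f} ≤ Ideal.ofList (f :: rs) := by
      rw [Ideal.ofList_cons]; exact le_sup_left
    have hfI : Ideal.span {f} ≤ I := hfle.trans hI
    set q := Ideal.Quotient.mk (Ideal.span {f}) with hq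
    have hof : Ideal.ofList (rs.map q) = (Ideal.ofList (f :: rs)).map q := by
      rw [Ideal.ofList_cons, Ideal.map_sup, Ideal.map_ofList, Ideal.map_span, Set.image_singleton]
      have : q f = 0 := Ideal.Quotient.eq_zero_iff_mem.mpr (Ideal.mem_span_singleton_self f)
      rw [this, Ideal.span_singleton_eq_bot.mpr rfl, bot_sup_eq]
    have hof' : Ideal.ofList (rs.map q) ⊔ Ideal.span {q t} =
        (Ideal.ofList (f :: rs) ⊔ Ideal.span {t}).map q := by
      rw [hof, Ideal.map_sup, Ideal.map_span (f := q) {t}, Set.image_singleton]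
    have hreg' : WReg (⊥ : Ideal (R ⧸ Ideal.span {f})) (rs.map q) := by
      have := (wreg_map_iff f (J := Ideal.span {f}) le_rfl rs).mpr hreg.2
      rwa [Ideal.map_quotient_self] at this
    have ht' : ∀ z, q t * z ∈ Ideal.ofList (rs.map q) → z ∈ Ideal.ofList (rs.map q) := by
      intro z hz
      obtain ⟨z, rfl⟩ := Ideal.Quotient.mk_surjective z
      rw [hof] at hz ⊢
      rw [← map_mul, mem_map_iff f hfle] at hz
      exact (mem_map_iff f hfle _).mpr (ht z hz)
    have hext' : Subsingleton (Ext (ModuleCat.of (R ⧸ Ideal.span {f})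
        ((R ⧸ Ideal.span {f}) ⧸ I.map q)) (ModuleCat.of (R ⧸ Ideal.span {f}) (R ⧸ Ideal.span {f}))
        (n + 1)) := by
      have hbij := Localalg.ReesLemma.comparison_bijective (φ := q) Ideal.Quotient.mk_surjective
        Ideal.mk_ker hfreg (ModuleCat.of R R) hfreg (Localalg.ReesLemma.quotientIso f) (n + 1)
        (ModuleCat.of (R ⧸ Ideal.span {f}) ((R ⧸ Ideal.span {f}) ⧸ I.map q))
      have h2 := Localalg.ReesLemma.subsingleton_ext_of_iso (restrIso f hfI).symm hext
      exact ⟨fun a b => hbij.1 (h2.elim _ _)⟩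
    obtain ⟨y, hy, hxy⟩ := ih (R ⧸ Ideal.span {f}) (rs.map q) (by simpa using hlen') hreg' (q t) ht'
      (I.map q) (by rw [hof]; exact Ideal.map_mono hI) hext' (q x) (by
        intro a ha
        obtain ⟨a, rfl⟩ := Ideal.Quotient.mk_surjective a
        rw [mem_map_iff f hfI] at ha
        rw [hof', ← map_mul, mem_map_iff f (hfle.trans le_sup_left)]
        exact hx a ha)
    obtain ⟨y, rfl⟩ := Ideal.Quotient.mk_surjective y
    refine ⟨y, fun a ha => ?_, ?_⟩
    · have := hy (q a) ((mem_map_iff f hfI _).mpr ha)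
      rwa [hof, ← map_mul, mem_map_iff f hfle] at this
    · rwa [hof', ← map_sub, mem_map_iff f (hfle.trans le_sup_left)] at hxy

/-- Finite modules with a weakly regular sequence of length `l` over a regular local ring of dimension
`n + l` have projective dimension `≤ n`. -/
theorem hasProjectiveDimensionLT_of_isWeaklyRegular {R : Type u} [CommRing R] [IsRegularLocalRing R]
    (M : ModuleCat.{u} R) [Module.Finite R M] (ss : List R) (n : ℕ)
    (hdim : ringKrullDim R = (n + ss.length : ℕ)) (hss : IsWeaklyRegular M ss)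
    (hm : ∀ r ∈ ss, r ∈ IsLocalRing.maximalIdeal R) :
    HasProjectiveDimensionLT M (n + 1) := by
  rcases subsingleton_or_nontrivial M with hM | hM
  · have : IsZero M := ModuleCat.isZero_of_subsingleton M
    have := this.hasProjectiveDimensionLT_zero
    exact hasProjectiveDimensionLT_of_ge M 0 (n + 1) (Nat.zero_le _)
  have h1 := ModuleCat.projectiveDimension_quotient_eq_add_length_of_isWeaklyRegular M ss hss hm
  have h2 : CalgA.RegProjDim.PD R (M ⧸ Ideal.ofList ss • (⊤ : Submodule R M)) (n + ss.length + 1) :=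
    CalgA.RegSerre.PD_of_isRegularLocalRing R (n + ss.length) hdim _
  have h3 : projectiveDimension (ModuleCat.of R (M ⧸ Ideal.ofList ss • (⊤ : Submodule R M))) ≤
      ((n + ss.length : ℕ) : WithBot ℕ∞) := (projectiveDimension_le_iff _ _).mpr h2
  rw [h1, Nat.cast_add, ENat.WithBot.add_le_add_natCast_right_iff] at h3
  exact (projectiveDimension_le_iff _ _).mp h3

/-- **Lifting.** `R` regular local of dimension `n + l`, `rs` a weakly regular sequence of length `n` in
`I`, `t` a nonzerodivisor on `R/(rs)`, `ss` a weakly regular sequence of length `l` in `m` on `R/I`: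
every homomorphism `R/I → R/(rs,t)` lifts to `R/(rs)` (elementwise form). -/
theorem lift_of_regular {R : Type u} [CommRing R] [IsRegularLocalRing R] (rs ss : List R)
    (hdim : ringKrullDim R = (rs.length + ss.length : ℕ)) (hrs : IsWeaklyRegular R rs) (t : R)
    (ht : ∀ x, t * x ∈ Ideal.ofList rs → x ∈ Ideal.ofList rs) (I : Ideal R)
    (hI : Ideal.ofList rs ≤ I) (hss : IsWeaklyRegular (R ⧸ I) ss)
    (hm : ∀ r ∈ ss, r ∈ IsLocalRing.maximalIdeal R) (x : R)
    (hx : ∀ a ∈ I, x * a ∈ Ideal.ofList rs ⊔ Ideal.span {t}) :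
    ∃ y, (∀ a ∈ I, y * a ∈ Ideal.ofList rs) ∧ x - y ∈ Ideal.ofList rs ⊔ Ideal.span {t} := by
  have hpd : HasProjectiveDimensionLT (ModuleCat.of R (R ⧸ I)) (rs.length + 1) :=
    hasProjectiveDimensionLT_of_isWeaklyRegular (ModuleCat.of R (R ⧸ I)) ss rs.length hdim hss hm
  have hext : Subsingleton (Ext (ModuleCat.of R (R ⧸ I)) (ModuleCat.of R R) (rs.length + 1)) :=
    HasProjectiveDimensionLT.subsingleton (ModuleCat.of R (R ⧸ I)) (rs.length + 1) _ le_rfl _
  exact lift_of_ext rs.length R rs rfl ((wreg_bot_iff rs).mpr hrs) t ht I hI hext x hx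

end Groth.Agent.CohqA.ExtLift
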