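import Groth.Agent.Dcoh.DerAdj
import Mathlib.Algebra.Homology.HomologicalComplexAbelian
import Mathlib.Algebra.Homology.ShortComplex.HomologicalComplex
import Mathlib.Algebra.Homology.ShortComplex.PreservesHomology
import Mathlib.Algebra.Homology.QuasiIso

/-!
# Homology and left exact functors

For a left exact additive functor `G` and `ψ : K ⟶ G L`:

* `zeta ψ i : Z^i(K) ⟶ G (Z^i(L))`, `eta ψ i : H^i(K) ⟶ G (H^i(L))`;
* `clsZ G L i : G (Z^i(L)) ≅ Z^i(G L)`, `cls G L i : G (Z^i(L)) ⟶ H^i(G L)` (an epimorphism with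
  kernel the image of `G (L^{i-1})`);
* `isIso_homEquiv_symm_eta`: if `F ⊣ G` with `F` exact and the morphism `F K ⟶ L` adjoint to `ψ` is a
  quasi-isomorphism in degree `i` then the morphism `F (H^i K) ⟶ H^i L` adjoint to `eta ψ i` is an
  isomorphism.
-/

set_option autoImplicit false
set_option backward.isDefEq.respectTransparency false

open CategoryTheory CategoryTheory.Limits

namespace Groth.Agent.CohqA.FBCAbs

variable {C D : Type*} [Category C] [Category D] [Abelian C] [Abelian D]

section LeftExact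

variable (G : D ⥤ C) [G.Additive] [PreservesFiniteLimits G] (L : CochainComplex D ℕ) (i : ℕ)

/-- `G (Z^i(L)) ⟶ Z^i(G L)`. -/
noncomputable def clsZ :
    G.obj (L.cycles i) ⟶ ((G.mapHomologicalComplex (ComplexShape.up ℕ)).obj L).cycles i :=
  HomologicalComplex.liftCycles _ (G.map (L.iCycles i)) (i + 1) (by simp)
    ((G.map_comp _ _).symm.trans ((congrArg G.map (L.iCycles_d i (i + 1))).trans (G.map_zero _ _)))

@[reassoc]
theorem clsZ_i : clsZ G L i ≫
    ((G.mapHomologicalComplex (ComplexShape.up ℕ)).obj L).iCycles i = G.map (L.iCycles i) :=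
  HomologicalComplex.liftCycles_i _ _ _ _ _

instance isIso_clsZ : IsIso (clsZ G L i) := by
  have h1 : IsLimit (KernelFork.ofι (L.iCycles i) (L.iCycles_d i (i + 1))) :=
    L.cyclesIsKernel i (i + 1) (by simp)
  have h2 := KernelFork.mapIsLimit _ h1 G
  have h3 := ((G.mapHomologicalComplex (ComplexShape.up ℕ)).obj L).cyclesIsKernel i (i + 1) (by simp)
  let e := h2.conePointUniqueUpToIso h3
  have he : e.hom ≫ ((G.mapHomologicalComplex (ComplexShape.up ℕ)).obj L).iCycles i =
      G.map (L.iCycles i) := h2.conePointUniqueUpToIso_hom_comp h3 WalkingParallelPair.zero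
  have : clsZ G L i = e.hom := by
    rw [← cancel_mono (((G.mapHomologicalComplex (ComplexShape.up ℕ)).obj L).iCycles i)]
    exact (clsZ_i G L i).trans he.symm
  rw [this]
  infer_instance

/-- `G (Z^i(L)) ⟶ H^i(G L)`. -/
noncomputable def cls :
    G.obj (L.cycles i) ⟶ ((G.mapHomologicalComplex (ComplexShape.up ℕ)).obj L).homology i :=
  clsZ G L i ≫ ((G.mapHomologicalComplex (ComplexShape.up ℕ)).obj L).homologyπ i

instance epi_cls : Epi (cls G L i) := by
  unfold cls
  infer_instance

theorem map_toCycles_clsZ (j : ℕ) : G.map (L.toCycles j i) ≫ clsZ G L i =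
    ((G.mapHomologicalComplex (ComplexShape.up ℕ)).obj L).toCycles j i := by
  rw [← cancel_mono (((G.mapHomologicalComplex (ComplexShape.up ℕ)).obj L).iCycles i),
    Category.assoc, clsZ_i, HomologicalComplex.toCycles_i, ← G.map_comp,
    HomologicalComplex.toCycles_i]
  rfl

theorem map_toCycles_cls (j : ℕ) : G.map (L.toCycles j i) ≫ cls G L i = 0 := by
  rw [cls, ← Category.assoc, map_toCycles_clsZ, HomologicalComplex.toCycles_comp_homologyπ]

theorem exact_cls (j : ℕ) (hj : (ComplexShape.up ℕ).prev i = j) :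
    (ShortComplex.mk (G.map (L.toCycles j i)) (cls G L i) (map_toCycles_cls G L i j)).Exact := by
  let GL := (G.mapHomologicalComplex (ComplexShape.up ℕ)).obj L
  let S₁ := ShortComplex.mk (G.map (L.toCycles j i)) (cls G L i) (map_toCycles_cls G L i j)
  let S₂ := ShortComplex.mk (GL.toCycles j i) (GL.homologyπ i) (GL.toCycles_comp_homologyπ j i)
  have h1 : S₂.Exact := ShortComplex.exact_of_g_is_cokernel _ (GL.homologyIsCokernel j i hj)
  let e₂ : S₁.X₂ ≅ S₂.X₂ := asIso (clsZ G L i)
  let e : S₁ ≅ S₂ := ShortComplex.isoMk (Iso.refl _) e₂ (Iso.refl _)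
    ((Category.id_comp _).trans (map_toCycles_clsZ G L i j).symm)
    (Category.comp_id _).symm
  exact (ShortComplex.exact_iff_of_iso e).2 h1

variable {G L} {K : CochainComplex C ℕ}
  (ψ : K ⟶ (G.mapHomologicalComplex (ComplexShape.up ℕ)).obj L)

/-- `Z^i(K) ⟶ G (Z^i(L))` induced by `ψ : K ⟶ G L`. -/
noncomputable def zeta : K.cycles i ⟶ G.obj (L.cycles i) :=
  HomologicalComplex.cyclesMap ψ i ≫ inv (clsZ G L i)

theorem zeta_clsZ : zeta i ψ ≫ clsZ G L i = HomologicalComplex.cyclesMap ψ i := by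
  rw [zeta, Category.assoc, IsIso.inv_hom_id, Category.comp_id]

theorem zeta_i : zeta i ψ ≫ G.map (L.iCycles i) = K.iCycles i ≫ ψ.f i := by
  rw [← clsZ_i, ← Category.assoc, zeta_clsZ, HomologicalComplex.cyclesMap_i]

theorem toCycles_zeta (j : ℕ) : K.toCycles j i ≫ zeta i ψ = ψ.f j ≫ G.map (L.toCycles j i) := by
  have : Mono (G.map (L.iCycles i)) := inferInstance
  rw [← cancel_mono (G.map (L.iCycles i)), Category.assoc, zeta_i, Category.assoc, ← G.map_comp,
    HomologicalComplex.toCycles_i, ← Category.assoc, HomologicalComplex.toCycles_i]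
  exact (ψ.comm j i).symm

/-- `H^i(K) ⟶ G (H^i(L))` induced by `ψ : K ⟶ G L`. -/
noncomputable def eta : K.homology i ⟶ G.obj (L.homology i) :=
  (K.homologyIsCokernel _ i rfl).desc (CokernelCofork.ofπ (zeta i ψ ≫ G.map (L.homologyπ i)) (by
    rw [← Category.assoc, toCycles_zeta, Category.assoc, ← G.map_comp,
      HomologicalComplex.toCycles_comp_homologyπ, G.map_zero, comp_zero]))

theorem π_eta : K.homologyπ i ≫ eta i ψ = zeta i ψ ≫ G.map (L.homologyπ i) :=
  (K.homologyIsCokernel _ i rfl).fac _ WalkingParallelPair.one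

end LeftExact

section Comparison

variable (G : D ⥤ C) [G.Additive] [PreservesFiniteLimits G] (L : CochainComplex D ℕ) (i : ℕ)

/-- The comparison `H^i(G L) ⟶ G (H^i(L))` for a left exact functor. -/
noncomputable def cmpH : ((G.mapHomologicalComplex (ComplexShape.up ℕ)).obj L).homology i ⟶
    G.obj (L.homology i) :=
  eta i (𝟙 ((G.mapHomologicalComplex (ComplexShape.up ℕ)).obj L))

@[reassoc]
theorem cls_cmpH : cls G L i ≫ cmpH G L i = G.map (L.homologyπ i) := by
  rw [cls, cmpH, Category.assoc, π_eta, ← Category.assoc, zeta, HomologicalComplex.cyclesMap_id,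
    Category.id_comp, IsIso.hom_inv_id, Category.id_comp]

instance isIso_cmpH [PreservesFiniteColimits G] : IsIso (cmpH G L i) := by
  let j := (ComplexShape.up ℕ).prev i
  have h1 : IsColimit (CokernelCofork.ofπ (cls G L i) (map_toCycles_cls G L i j)) :=
    (exact_cls G L i j rfl).gIsCokernel
  have h2 : IsColimit (CokernelCofork.ofπ (L.homologyπ i) (L.toCycles_comp_homologyπ j i)) :=
    L.homologyIsCokernel j i rfl
  have h3 := CokernelCofork.mapIsColimit _ h2 G
  let e := h1.coconePointUniqueUpToIso h3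
  have he : cls G L i ≫ e.hom = G.map (L.homologyπ i) :=
    h1.comp_coconePointUniqueUpToIso_hom h3 WalkingParallelPair.one
  have : cmpH G L i = e.hom := by
    rw [← cancel_epi (cls G L i)]
    exact (cls_cmpH G L i).trans he.symm
  rw [this]
  infer_instance

end Comparison

section Adj

variable {F : C ⥤ D} {G : D ⥤ C} [F.Additive] [G.Additive] [PreservesFiniteLimits F]
  [PreservesFiniteColimits F] [PreservesFiniteLimits G] (adj : F ⊣ G)
  {K : CochainComplex C ℕ} {L : CochainComplex D ℕ} (i : ℕ)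
  (ψ : K ⟶ (G.mapHomologicalComplex (ComplexShape.up ℕ)).obj L)

theorem homEquiv_symm_f :
    (((Dcoh.DerAdj.adjCx adj (ComplexShape.up ℕ)).homEquiv K L).symm ψ).f i =
      (adj.homEquiv (K.X i) (L.X i)).symm (ψ.f i) := by
  rw [Adjunction.homEquiv_counit, Adjunction.homEquiv_counit]
  rfl

theorem homEquiv_symm_zeta : clsZ F K i ≫ HomologicalComplex.cyclesMap
      (((Dcoh.DerAdj.adjCx adj (ComplexShape.up ℕ)).homEquiv K L).symm ψ) i =
    (adj.homEquiv _ _).symm (zeta i ψ) := by
  rw [← cancel_mono (L.iCycles i), Category.assoc, HomologicalComplex.cyclesMap_i,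
    ← Category.assoc, clsZ_i, homEquiv_symm_f, ← adj.homEquiv_naturality_left_symm,
    ← adj.homEquiv_naturality_right_symm, zeta_i]

theorem cmpH_homEquiv_symm_eta : cmpH F K i ≫ (adj.homEquiv _ _).symm (eta i ψ) =
    HomologicalComplex.homologyMap
      (((Dcoh.DerAdj.adjCx adj (ComplexShape.up ℕ)).homEquiv K L).symm ψ) i := by
  rw [← cancel_epi (cls F K i), cls_cmpH_assoc, ← adj.homEquiv_naturality_left_symm, π_eta,
    adj.homEquiv_naturality_right_symm, ← homEquiv_symm_zeta, cls, Category.assoc, Category.assoc,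
    HomologicalComplex.homologyπ_naturality]

/-- If `F K ⟶ L` is a quasi-isomorphism in degree `i`, `F` exact, then `F (H^i K) ⟶ H^i L` is an
isomorphism. -/
theorem isIso_homEquiv_symm_eta
    (h : QuasiIsoAt (((Dcoh.DerAdj.adjCx adj (ComplexShape.up ℕ)).homEquiv K L).symm ψ) i) :
    IsIso ((adj.homEquiv _ _).symm (eta i ψ)) := by
  have h1 : IsIso (HomologicalComplex.homologyMap
      (((Dcoh.DerAdj.adjCx adj (ComplexShape.up ℕ)).homEquiv K L).symm ψ) i) :=
    (quasiIsoAt_iff_isIso_homologyMap _ _).1 h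
  rw [← cmpH_homEquiv_symm_eta] at h1
  exact IsIso.of_isIso_comp_left (cmpH F K i) _

end Adj

end Groth.Agent.CohqA.FBCAbs
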