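import Groth.Agent.CohqA.FBCHom
import Groth.Agent.CohqB.QCSheaf

/-!
# Homology sheaves of complexes whose sections localize

Let `K` be a complex of `O_S`-modules such that `Γ(S, D(r)) ⊗ Γ(U, K) ⟶ Γ(D(r), K)` is a quasi-isomorphism
for all affine opens `U` and `r ∈ Γ(S, U)`.  Then `H^i(K)` is quasi-coherent and
`H^i(Γ(U, K)) ⟶ Γ(U, H^i(K))` is bijective for `U` affine.
-/

set_option autoImplicit false
universe u

open CategoryTheory CategoryTheory.Limits AlgebraicGeometry Opposite TopologicalSpace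

namespace Groth.Agent.CohqA.FBCCore

open Ega1.QCohLoc FBCSec FBCCx FBCRes FBCAbs FBCHom PullbackUniv PullbackAffine BaseChangeMod

/-- Base change to a localization at one element, elementwise. -/
theorem isBC_away {A B : Type u} [CommRing A] [CommRing B] [Algebra A B] (r : A)
    [IsLocalization.Away r B] {M N : Type u} [AddCommGroup M] [Module A M] [AddCommGroup N]
    [Module B N] (f : M →+ N) (h : IsBC (algebraMap A B) f) :
    (∀ x, f x = 0 → ∃ n : ℕ, r ^ n • x = 0) ∧
      (∀ t, ∃ (n : ℕ) (s : M), f s = (algebraMap A B r) ^ n • t) := by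
  let : Module A N := Module.compHom N (algebraMap A B)
  have : IsScalarTower A B N := ⟨fun a b x => by
    change (a • b) • x = algebraMap A B a • (b • x)
    rw [Algebra.smul_def, mul_smul]⟩
  let f' : M →ₗ[A] N := { f with map_smul' := h.map_smul }
  have h1 : IsBaseChange B f' := (isBC_iff_isBaseChange f').1 h
  have h2 : IsLocalizedModule (Submonoid.powers r) f' :=
    (isLocalizedModule_iff_isBaseChange (Submonoid.powers r) B f').2 h1
  constructor
  · intro x hx
    have h3 : f' x = f' 0 := hx.trans (map_zero f).symm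
    obtain ⟨⟨_, n, rfl⟩, hn⟩ := IsLocalizedModule.exists_of_eq (S := Submonoid.powers r) h3
    refine ⟨n, ?_⟩
    rw [smul_zero] at hn
    exact hn
  · intro t
    obtain ⟨⟨s, ⟨_, n, rfl⟩⟩, hs⟩ := IsLocalizedModule.surj (Submonoid.powers r) f' t
    refine ⟨n, s, ?_⟩
    have h4 : r ^ n • t = f' s := hs
    have h5 : (algebraMap A B r) ^ n • t = r ^ n • t := by
      change _ = algebraMap A B (r ^ n) • t
      rw [map_pow]
    rw [h5, h4]
    rfl

variable {S : Scheme.{u}}

/-- `K ⟶ 𝟙_* K`. -/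
noncomputable def idCx (K : CochainComplex S.Modules ℕ) :
    K ⟶ ((Scheme.Modules.pushforward (𝟙 S)).mapHomologicalComplex (ComplexShape.up ℕ)).obj K where
  f n := (Scheme.Modules.pushforwardId S).inv.app (K.X n)
  comm' i j _ := ((Scheme.Modules.pushforwardId S).inv.naturality (K.d i j)).symm

theorem secMap_pushforwardId (M : S.Modules) {U V : S.Opens} (h : V ≤ U) (e : V ≤ (𝟙 S) ⁻¹ᵁ U)
    (x : Γ(M, U)) : secMap (𝟙 S) ((Scheme.Modules.pushforwardId S).inv.app M) U V e x =
      res M h x := rfl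

set_option backward.isDefEq.respectTransparency false in
theorem zeta_idCx (K : CochainComplex S.Modules ℕ) (i : ℕ) :
    zeta i (idCx K) = (Scheme.Modules.pushforwardId S).inv.app (K.cycles i) := by
  have h1 : Mono ((Scheme.Modules.pushforward (𝟙 S)).map (K.iCycles i)) := inferInstance
  rw [← cancel_mono ((Scheme.Modules.pushforward (𝟙 S)).map (K.iCycles i)), zeta_i]
  exact (Scheme.Modules.pushforwardId S).inv.naturality (K.iCycles i)

set_option backward.isDefEq.respectTransparency false in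
theorem eta_idCx (K : CochainComplex S.Modules ℕ) (i : ℕ) :
    eta i (idCx K) = (Scheme.Modules.pushforwardId S).inv.app (K.homology i) := by
  rw [← cancel_epi (K.homologyπ i), π_eta, zeta_idCx]
  exact ((Scheme.Modules.pushforwardId S).inv.naturality (K.homologyπ i)).symm

section

variable (K : CochainComplex S.Modules ℕ) (i : ℕ)

/-- The presheaf `U ↦ H^i(Γ(U, K))`. -/
abbrev P (U : S.Opens) : Type u :=
  ((((sec (RingHom.id Γ(S, U)) (le_refl U)).mapHomologicalComplex (ComplexShape.up ℕ)).obj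
    K).homology i : ModuleCat.{u} Γ(S, U))

/-- The class of a cycle. -/
noncomputable def c (U : S.Opens) : Γ(K.cycles i, U) →+ P K i U :=
  (cls (sec (RingHom.id Γ(S, U)) (le_refl U)) K i).hom.toAddMonoidHom

theorem c_surjective (U : S.Opens) : Function.Surjective (c K i U) :=
  (ModuleCat.epi_iff_surjective _).1 (epi_cls (sec (RingHom.id Γ(S, U)) (le_refl U)) K i)

theorem c_toCycles (U : S.Opens) (j : ℕ) (y : Γ(K.X j, U)) :
    c K i U ((K.toCycles j i).app U y) = 0 :=
  ConcreteCategory.congr_hom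
    (map_toCycles_cls (sec (RingHom.id Γ(S, U)) (le_refl U)) K i j) y

/-- The comparison `H^i(Γ(U, K)) ⟶ Γ(U, H^i(K))`. -/
noncomputable def b (U : S.Opens) : P K i U →ₗ[Γ(S, U)] Γ(K.homology i, U) :=
  { (cmpH (sec (RingHom.id Γ(S, U)) (le_refl U)) K i).hom.toAddMonoidHom with
    map_smul' := fun r x => by
      refine ((cmpH (sec (RingHom.id Γ(S, U)) (le_refl U)) K i).hom.map_smul r x).trans ?_
      change (resO (le_refl U) r • _ : Γ(K.homology i, U)) = _
      rw [resO_rfl]
      rfl }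

theorem b_apply (U : S.Opens) (x : P K i U) :
    b K i U x = cmpH (sec (RingHom.id Γ(S, U)) (le_refl U)) K i x := rfl

theorem b_c (U : S.Opens) (z : Γ(K.cycles i, U)) :
    b K i U (c K i U z) = (K.homologyπ i).app U z :=
  ConcreteCategory.congr_hom (cls_cmpH (sec (RingHom.id Γ(S, U)) (le_refl U)) K i) z

/-- Restriction. -/
noncomputable def r {U V : S.Opens} (h : V ≤ U) : P K i U →+ P K i V :=
  addOf _ (eta i (psi (𝟙 S) ((𝟙 S : S ⟶ S).appLE U V h).hom h (RingHom.id Γ(S, U))
    (RingHom.id Γ(S, V)) (fun _ => rfl) (idCx K) (le_refl U) (le_refl V) h))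

theorem r_c {U V : S.Opens} (h : V ≤ U) (z : Γ(K.cycles i, U)) :
    r K i h (c K i U z) = c K i V (res (K.cycles i) h z) := by
  have h1 := ConcreteCategory.congr_hom (cls_eta_psi (𝟙 S) ((𝟙 S : S ⟶ S).appLE U V h).hom h
    (RingHom.id Γ(S, U)) (RingHom.id Γ(S, V)) (fun _ => rfl) (idCx K) (le_refl U) (le_refl V) h i) z
  rw [zeta_idCx] at h1
  exact h1

theorem appLE_id_apply {U V : S.Opens} (h : V ≤ U) (e : V ≤ (𝟙 S : S ⟶ S) ⁻¹ᵁ U) (a : Γ(S, U)) :
    ((𝟙 S : S ⟶ S).appLE U V e).hom a = resO h a := by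
  have h1 : (𝟙 S : S ⟶ S).appLE U V e = S.presheaf.map (homOfLE h).op := by
    rw [Scheme.Hom.appLE, Scheme.Hom.id_app]
    exact Category.id_comp _
  exact congr($h1 a)

theorem r_smul {U V : S.Opens} (h : V ≤ U) (a : Γ(S, U)) (x : P K i U) :
    r K i h (a • x) = S.presheaf.map (homOfLE h).op a • r K i h x := by
  have h1 : S.presheaf.map (homOfLE h).op a = ((𝟙 S : S ⟶ S).appLE U V h).hom a :=
    (appLE_id_apply h h a).symm
  rw [h1]
  exact (eta i (psi (𝟙 S) ((𝟙 S : S ⟶ S).appLE U V h).hom h (RingHom.id Γ(S, U))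
    (RingHom.id Γ(S, V)) (fun _ => rfl) (idCx K) (le_refl U) (le_refl V) h)).hom.map_smul a x

theorem b_r {U V : S.Opens} (h : V ≤ U) (x : P K i U) :
    b K i V (r K i h x) = res (K.homology i) h (b K i U x) := by
  obtain ⟨z, rfl⟩ := c_surjective K i U x
  rw [r_c, b_c, b_c, res_app]

theorem r_r {U V T : S.Opens} (h : V ≤ U) (h' : T ≤ V) (x : P K i U) :
    r K i h' (r K i h x) = r K i (h'.trans h) x := by
  obtain ⟨z, rfl⟩ := c_surjective K i U x
  rw [r_c, r_c, r_c, res_res]

/-- Sections over `D(r)` are localizations, up to quasi-isomorphism. -/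
def Loc : Prop := ∀ (U : S.Opens), IsAffineOpen U → ∀ f : Γ(S, U),
  QuasiIsoAt (phi (𝟙 S) ((𝟙 S : S ⟶ S).appLE U (S.basicOpen f) (S.basicOpen_le f)).hom
    (S.basicOpen_le f) (RingHom.id Γ(S, U)) (RingHom.id Γ(S, S.basicOpen f)) (fun _ => rfl)
    (idCx K) (le_refl U) (le_refl (S.basicOpen f)) (S.basicOpen_le f)) i

variable {K i}

theorem Loc.isBC (hL : Loc K i) {U : S.Opens} (hU : IsAffineOpen U) (f : Γ(S, U)) :
    IsBC (M := P K i U) (N := P K i (S.basicOpen f))
      ((𝟙 S : S ⟶ S).appLE U (S.basicOpen f) (S.basicOpen_le f)).hom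
      (r K i (S.basicOpen_le f)) :=
  isBC_eta_psi (𝟙 S) _ _ _ _ _ (idCx K) _ _ _ i
    ((𝟙 S : S ⟶ S).flat_appLE hU (hU.basicOpen f) (S.basicOpen_le f)) (hL U hU f)

theorem Loc.isLocalizedModule (hL : Loc K i) {U : S.Opens} (hU : IsAffineOpen U) (f : Γ(S, U)) :
    (∀ x : P K i U, r K i (S.basicOpen_le f) x = 0 → ∃ n : ℕ, f ^ n • x = 0) ∧
    (∀ t : P K i (S.basicOpen f), ∃ (n : ℕ) (s : P K i U), r K i (S.basicOpen_le f) s =
        (S.presheaf.map (homOfLE (S.basicOpen_le f)).op f) ^ n • t) := by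
  have h1 := hL.isBC hU f
  have h2 : ((𝟙 S : S ⟶ S).appLE U (S.basicOpen f) (S.basicOpen_le f)).hom =
      (S.presheaf.map (homOfLE (S.basicOpen_le f)).op).hom :=
    RingHom.ext (appLE_id_apply (S.basicOpen_le f) (S.basicOpen_le f))
  rw [h2] at h1
  have := hU.isLocalization_basicOpen f
  exact isBC_away f _ h1

/-- Sections killed by `T.g` come locally from `T.X₁`, for `T` exact. -/
theorem exists_local_of_exact (T : ShortComplex S.Modules) (hT : T.Exact) {U : S.Opens}
    (z : Γ(T.X₂, U)) (hz : T.g.app U z = 0) (x : S) (hx : x ∈ U) :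
    ∃ (V : S.Opens) (hV : V ≤ U) (y : Γ(T.X₁, V)), x ∈ V ∧ T.f.app V y = res T.X₂ hV z := by
  let T' : ShortComplex S.Modules := ShortComplex.mk (kernel.ι T.g) T.g (kernel.condition _)
  have hT' : T'.Exact := ShortComplex.exact_kernel T.g
  have hm : Mono T'.f := inferInstanceAs (Mono (kernel.ι T.g))
  have h1 : (T'.map (sec (RingHom.id Γ(S, U)) (le_refl U))).Exact :=
    hT'.map_of_mono_of_preservesKernel _ hm inferInstance
  obtain ⟨w, hw⟩ := (ShortComplex.moduleCat_exact_iff _).1 h1 z hz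
  have h2 : Epi (kernel.lift T.g T.f T.zero) := hT.epi_kernelLift
  obtain ⟨V, hV, y, hxV, hy⟩ := CohqB.QCSheaf.exists_local_lift (kernel.lift T.g T.f T.zero)
    (U := U) w x hx
  refine ⟨V, hV, y, hxV, ?_⟩
  have h3 : T.f.app V y = (kernel.ι T.g).app V ((kernel.lift T.g T.f T.zero).app V y) := by
    have := congr($(kernel.lift_ι T.g T.f T.zero).app V y)
    exact this.symm
  have h4 : (kernel.ι T.g).app U w = z := hw
  rw [h3, hy, ← h4]
  exact res_app (kernel.ι T.g) hV w

variable (K i) in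
/-- The structure used to compare with the homology sheaf. -/
noncomputable def core (hL : Loc K i) : PreLoc.Core (K.homology i) ⊤ (P K i) where
  res h := r K i h
  res_smul h a x := r_smul K i h a x
  res_res h h' x := r_r K i h h' x
  φ U := b K i U
  φ_res h x := b_r K i h x
  inj U hU _ s hs x hx := by
    obtain ⟨z, rfl⟩ := c_surjective K i U s
    rw [b_c] at hs
    have hT : (ShortComplex.mk (K.toCycles ((ComplexShape.up ℕ).prev i) i) (K.homologyπ i)
        (K.toCycles_comp_homologyπ _ i)).Exact :=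
      ShortComplex.exact_of_g_is_cokernel _ (K.homologyIsCokernel _ i rfl)
    obtain ⟨V, hV, y, hxV, hy⟩ := exists_local_of_exact _ hT z hs x hx
    refine ⟨V, hV, hxV, ?_⟩
    rw [r_c]
    have h1 := c_toCycles K i V _ y
    rw [← h1]
    exact congrArg (c K i V) hy.symm
  surj U hU _ t x hx := by
    obtain ⟨V, hV, z, hxV, hz⟩ := CohqB.QCSheaf.exists_local_lift (K.homologyπ i) t x hx
    exact ⟨V, hV, hxV, c K i V z, (b_c K i V z).trans hz⟩
  loc_zero U hU _ f := (hL.isLocalizedModule hU f).1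
  loc_surj U hU _ f := (hL.isLocalizedModule hU f).2

theorem Loc.isQCoh (hL : Loc K i) : Coh.IsQCoh (K.homology i) := (core K i hL).isQCoh

theorem Loc.bijective (hL : Loc K i) {U : S.Opens} (hU : IsAffineOpen U) :
    Function.Bijective (b K i U) := (core K i hL).bijective hU le_top

end

end Groth.Agent.CohqA.FBCCore
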