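import Groth.Agent.CohqA.FBCSec
import Groth.Agent.S0015
import Mathlib.Algebra.Category.ModuleCat.Descent

/-!
# Flat base change for complexes of sections of flasque modules

`quasiIso_phi`: let `g : X' ⟶ X`, `A → B` flat, `ρ : A → Γ(X, W)`, `ρ' : B → Γ(X', W')` compatible,
`θ : J ⟶ g_* I` a morphism of complexes of `O_X`-modules with flasque terms.  If
`B ⊗ Γ(U, J) ⟶ Γ(g⁻¹ U ⊓ W', I)` is a quasi-isomorphism for all affine `U ≤ W`, then it is one for
all quasi-compact `U ≤ W`, if `W` is quasi-separated.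
-/

set_option autoImplicit false
universe u

open CategoryTheory CategoryTheory.Limits AlgebraicGeometry Opposite TopologicalSpace

namespace Groth.Agent.CohqA.FBCCx

open Ega1.QCohLoc FBCSquare FBCSec

variable {X X' : Scheme.{u}}

/-- Induction principle for quasi-compact opens of a quasi-separated open `W`. -/
theorem induction_le (W : X.Opens) (hW : IsQuasiSeparated (W : Set X))
    (P : X.Opens → Prop) (h₁ : ∀ U : X.Opens, U ≤ W → IsAffineOpen U → P U)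
    (h₂ : ∀ U V : X.Opens, U ≤ W → V ≤ W → P U → P V → P (U ⊓ V) → P (U ⊔ V))
    (U : X.Opens) (hUW : U ≤ W) (hU : IsCompact (U : Set X)) : P U := by
  have h₁' : ∀ U : X.Opens, IsAffineOpen U → (U ≤ W → P U) := fun U h h' => h₁ U h' h
  have h₂' : ∀ U V : X.Opens, IsCompact (U : Set X) → IsAffineOpen V → (U ≤ W → P U) →
      (V ≤ W → P V) → (U ⊓ V ≤ W → P (U ⊓ V)) → (U ⊔ V ≤ W → P (U ⊔ V)) := by
    intro U V _ _ hU hV hUV h
    have hU' : U ≤ W := le_sup_left.trans h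
    have hV' : V ≤ W := le_sup_right.trans h
    exact h₂ U V hU' hV' (hU hU') (hV hV') (hUV (inf_le_left.trans hU'))
  refine compact_open_induction_on (P := fun U => U ≤ W → P U) U hU
    (h₁' _ (isAffineOpen_bot X)) ?_ hUW
  intro S hS V hPS hSV
  refine h₂' S V hS V.2 hPS (h₁' _ V.2) ?_ hSV
  refine Groth.Agent.S0015.le_affine X (fun U => U ≤ W → P U) h₁' h₂' V V.2 _ ?_ inf_le_right
  rw [TopologicalSpace.Opens.coe_inf]
  exact hW _ _ (le_sup_left.trans hSV) S.2 hS (le_sup_right.trans hSV) V.1.2 V.2.isCompact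

section

variable {A B : Type u} [CommRing A] [CommRing B]

/-- Sections over `U` of a complex of modules. -/
noncomputable abbrev secCx {W : X.Opens} (ρ : A →+* Γ(X, W)) {U : X.Opens} (h : U ≤ W)
    (J : CochainComplex X.Modules ℕ) : CochainComplex (ModuleCat.{u} A) ℕ :=
  ((sec ρ h).mapHomologicalComplex (ComplexShape.up ℕ)).obj J

/-- Restriction for section complexes. -/
noncomputable abbrev resCx {W : X.Opens} (ρ : A →+* Γ(X, W)) {U V : X.Opens} (h : U ≤ W)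
    (hVU : V ≤ U) (J : CochainComplex X.Modules ℕ) :
    secCx ρ h J ⟶ secCx ρ (hVU.trans h) J :=
  (NatTrans.mapHomologicalComplex (secRes ρ h hVU) (ComplexShape.up ℕ)).app J

theorem mvSq_secCx {W : X.Opens} (ρ : A →+* Γ(X, W)) {U V : X.Opens} (hU : U ≤ W) (hV : V ≤ W)
    (J : CochainComplex X.Modules ℕ) (hJ : ∀ n, Flasque (J.X n)) :
    MVSq (resCx ρ (sup_le hU hV) (le_sup_left : U ≤ U ⊔ V) J)
      (resCx ρ (sup_le hU hV) (le_sup_right : V ≤ U ⊔ V) J)
      (resCx ρ hU (inf_le_left : U ⊓ V ≤ U) J)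
      (resCx ρ hV (inf_le_right : U ⊓ V ≤ V) J) :=
  MVSq.of_degreewise fun n => mvSq_sec ρ hU hV (J.X n) (hJ n)

theorem mvSq_secCx' {W : X.Opens} (ρ : A →+* Γ(X, W)) {U V S T : X.Opens} (hS : S = U ⊔ V)
    (hT : T = U ⊓ V) (hSW : S ≤ W) (hU : U ≤ W) (hV : V ≤ W)
    (hUS : U ≤ S) (hVS : V ≤ S) (hTU : T ≤ U) (hTV : T ≤ V)
    (J : CochainComplex X.Modules ℕ) (hJ : ∀ n, Flasque (J.X n)) :
    MVSq (resCx ρ hSW hUS J) (resCx ρ hSW hVS J) (resCx ρ hU hTU J) (resCx ρ hV hTV J) := by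
  subst hS hT
  exact mvSq_secCx ρ hU hV J hJ

variable (g : X' ⟶ X) (α : A →+* B) {W : X.Opens} {W' : X'.Opens} (e : W' ≤ g ⁻¹ᵁ W)
  (ρ : A →+* Γ(X, W)) (ρ' : B →+* Γ(X', W'))
  (hρ : ∀ a, ρ' (α a) = g.appLE W W' e (ρ a))

/-- The map `Γ(U, J) ⟶ Γ(U', I)` of complexes of `A`-modules. -/
noncomputable def psi {J : CochainComplex X.Modules ℕ} {I : CochainComplex X'.Modules ℕ}
    (θ : J ⟶ ((Scheme.Modules.pushforward g).mapHomologicalComplex (ComplexShape.up ℕ)).obj I)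
    {U : X.Opens} (h : U ≤ W) {U' : X'.Opens} (h' : U' ≤ W') (e' : U' ≤ g ⁻¹ᵁ U) :
    secCx ρ h J ⟶
      ((ModuleCat.restrictScalars α).mapHomologicalComplex (ComplexShape.up ℕ)).obj
        (secCx ρ' h' I) where
  f n := (sec ρ h).map (θ.f n) ≫ (pushRes g α e ρ ρ' hρ h h' e').app (I.X n)
  comm' i j _ := by
    have h1 := (pushRes g α e ρ ρ' hρ h h' e').naturality (I.d i j)
    have h2 := congr_arg (sec ρ h).map (θ.comm i j)
    rw [Functor.map_comp, Functor.map_comp] at h2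
    refine (Category.assoc _ _ _).trans ?_
    refine (congrArg (fun t => (sec ρ h).map (θ.f i) ≫ t) h1.symm).trans ?_
    refine (Category.assoc _ _ _).symm.trans ?_
    refine (congrArg (fun t => t ≫ (pushRes g α e ρ ρ' hρ h h' e').app (I.X j)) h2).trans ?_
    exact Category.assoc _ _ _

theorem psi_f_apply {J : CochainComplex X.Modules ℕ} {I : CochainComplex X'.Modules ℕ}
    (θ : J ⟶ ((Scheme.Modules.pushforward g).mapHomologicalComplex (ComplexShape.up ℕ)).obj I)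
    {U : X.Opens} (h : U ≤ W) {U' : X'.Opens} (h' : U' ≤ W') (e' : U' ≤ g ⁻¹ᵁ U) (n : ℕ)
    (x : Γ(J.X n, U)) : (psi g α e ρ ρ' hρ θ h h' e').f n x =
      res (I.X n) e' (show Γ(I.X n, g ⁻¹ᵁ U) from (θ.f n).app U x) := rfl

instance additive_extendScalars {A B : Type u} [CommRing A] [CommRing B] (α : A →+* B) :
    (ModuleCat.extendScalars.{u, u, u} α).Additive :=
  (ModuleCat.extendRestrictScalarsAdj.{u, u, u} α).left_adjoint_additive

/-- The map `B ⊗ Γ(U, J) ⟶ Γ(U', I)` of complexes of `B`-modules. -/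
noncomputable def phi {J : CochainComplex X.Modules ℕ} {I : CochainComplex X'.Modules ℕ}
    (θ : J ⟶ ((Scheme.Modules.pushforward g).mapHomologicalComplex (ComplexShape.up ℕ)).obj I)
    {U : X.Opens} (h : U ≤ W) {U' : X'.Opens} (h' : U' ≤ W') (e' : U' ≤ g ⁻¹ᵁ U) :
    ((ModuleCat.extendScalars α).mapHomologicalComplex (ComplexShape.up ℕ)).obj (secCx ρ h J) ⟶
      secCx ρ' h' I :=
  ((Dcoh.DerAdj.adjCx (ModuleCat.extendRestrictScalarsAdj α) (ComplexShape.up ℕ)).homEquiv _ _).symm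
    (psi g α e ρ ρ' hρ θ h h' e')

theorem psi_naturality {J : CochainComplex X.Modules ℕ} {I : CochainComplex X'.Modules ℕ}
    (θ : J ⟶ ((Scheme.Modules.pushforward g).mapHomologicalComplex (ComplexShape.up ℕ)).obj I)
    {U : X.Opens} (h : U ≤ W) {U' : X'.Opens} (h' : U' ≤ W') (e' : U' ≤ g ⁻¹ᵁ U)
    {V : X.Opens} (hVU : V ≤ U) {V' : X'.Opens} (hVU' : V' ≤ U') (e'' : V' ≤ g ⁻¹ᵁ V) :
    resCx ρ h hVU J ≫ psi g α e ρ ρ' hρ θ (hVU.trans h) (hVU'.trans h') e'' =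
      psi g α e ρ ρ' hρ θ h h' e' ≫
        ((ModuleCat.restrictScalars α).mapHomologicalComplex (ComplexShape.up ℕ)).map
          (resCx ρ' h' hVU' I) := by
  ext n x
  change res (I.X n) e'' ((θ.f n).app V (res (J.X n) hVU x)) =
    res (I.X n) hVU' (res (I.X n) e' ((θ.f n).app U x))
  rw [res_app, res_res]
  exact res_res (I.X n) (Scheme.Hom.preimage_mono g hVU) e'' _

theorem phi_naturality {J : CochainComplex X.Modules ℕ} {I : CochainComplex X'.Modules ℕ}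
    (θ : J ⟶ ((Scheme.Modules.pushforward g).mapHomologicalComplex (ComplexShape.up ℕ)).obj I)
    {U : X.Opens} (h : U ≤ W) {U' : X'.Opens} (h' : U' ≤ W') (e' : U' ≤ g ⁻¹ᵁ U)
    {V : X.Opens} (hVU : V ≤ U) {V' : X'.Opens} (hVU' : V' ≤ U') (e'' : V' ≤ g ⁻¹ᵁ V) :
    ((ModuleCat.extendScalars α).mapHomologicalComplex (ComplexShape.up ℕ)).map
      (resCx ρ h hVU J) ≫ phi g α e ρ ρ' hρ θ (hVU.trans h) (hVU'.trans h') e'' =
      phi g α e ρ ρ' hρ θ h h' e' ≫ resCx ρ' h' hVU' I := by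
  rw [phi, phi, ← Adjunction.homEquiv_naturality_left_symm,
    ← Adjunction.homEquiv_naturality_right_symm, psi_naturality]

theorem MVSq.map_extend (hα : α.Flat) {X₁ X₂ X₃ X₄ : CochainComplex (ModuleCat.{u} A) ℕ}
    {a : X₁ ⟶ X₂} {b : X₁ ⟶ X₃} {c : X₂ ⟶ X₄} {d : X₃ ⟶ X₄} (h : MVSq a b c d) :
    MVSq (((ModuleCat.extendScalars.{u, u, u} α).mapHomologicalComplex _).map a)
      (((ModuleCat.extendScalars.{u, u, u} α).mapHomologicalComplex _).map b)
      (((ModuleCat.extendScalars.{u, u, u} α).mapHomologicalComplex _).map c)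
      (((ModuleCat.extendScalars.{u, u, u} α).mapHomologicalComplex _).map d) := by
  have h1 := ModuleCat.preservesFiniteLimits_extendScalars_of_flat hα
  have h2 : PreservesFiniteColimits (ModuleCat.extendScalars.{u, u, u} α) :=
    have := (ModuleCat.extendRestrictScalarsAdj.{u, u, u} α).leftAdjoint_preservesColimits
    inferInstance
  exact MVSq.map ((ModuleCat.extendScalars.{u, u, u} α).mapHomologicalComplex _) h

/-- Mayer-Vietoris step. -/
theorem quasiIso_phi_sup (hα : α.Flat) {J : CochainComplex X.Modules ℕ}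
    {I : CochainComplex X'.Modules ℕ}
    (hJ : ∀ n, Flasque (J.X n)) (hI : ∀ n, Flasque (I.X n))
    (θ : J ⟶ ((Scheme.Modules.pushforward g).mapHomologicalComplex (ComplexShape.up ℕ)).obj I)
    {U V S T : X.Opens} (hS : S = U ⊔ V) (hT : T = U ⊓ V)
    (hSW : S ≤ W) (hU : U ≤ W) (hV : V ≤ W) (hTW : T ≤ W)
    {U' V' S' T' : X'.Opens} (hS' : S' = U' ⊔ V') (hT' : T' = U' ⊓ V')
    (hSW' : S' ≤ W') (hU' : U' ≤ W') (hV' : V' ≤ W') (hTW' : T' ≤ W')
    (eU : U' ≤ g ⁻¹ᵁ U) (eV : V' ≤ g ⁻¹ᵁ V) (eS : S' ≤ g ⁻¹ᵁ S) (eT : T' ≤ g ⁻¹ᵁ T)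
    (h₁ : QuasiIso (phi g α e ρ ρ' hρ θ hU hU' eU))
    (h₂ : QuasiIso (phi g α e ρ ρ' hρ θ hV hV' eV))
    (h₃ : QuasiIso (phi g α e ρ ρ' hρ θ hTW hTW' eT)) :
    QuasiIso (phi g α e ρ ρ' hρ θ hSW hSW' eS) := by
  have hUS : U ≤ S := by rw [hS]; exact le_sup_left
  have hVS : V ≤ S := by rw [hS]; exact le_sup_right
  have hTU : T ≤ U := by rw [hT]; exact inf_le_left
  have hTV : T ≤ V := by rw [hT]; exact inf_le_right
  have hUS' : U' ≤ S' := by rw [hS']; exact le_sup_left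
  have hVS' : V' ≤ S' := by rw [hS']; exact le_sup_right
  have hTU' : T' ≤ U' := by rw [hT']; exact inf_le_left
  have hTV' : T' ≤ V' := by rw [hT']; exact inf_le_right
  exact quasiIso_of_mvSq
    (MVSq.map_extend α hα (mvSq_secCx' ρ hS hT hSW hU hV hUS hVS hTU hTV J hJ))
    (mvSq_secCx' ρ' hS' hT' hSW' hU' hV' hUS' hVS' hTU' hTV' I hI)
    _ _ _ _
    (phi_naturality g α e ρ ρ' hρ θ hSW hSW' eS hUS hUS' eU)
    (phi_naturality g α e ρ ρ' hρ θ hSW hSW' eS hVS hVS' eV)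
    (phi_naturality g α e ρ ρ' hρ θ hU hU' eU hTU hTU' eT)
    (phi_naturality g α e ρ ρ' hρ θ hV hV' eV hTV hTV' eT) h₁ h₂ h₃

/-- Flat base change for complexes of sections of flasque modules. -/
theorem quasiIso_phi (hα : α.Flat) {J : CochainComplex X.Modules ℕ}
    {I : CochainComplex X'.Modules ℕ}
    (hJ : ∀ n, Flasque (J.X n)) (hI : ∀ n, Flasque (I.X n))
    (θ : J ⟶ ((Scheme.Modules.pushforward g).mapHomologicalComplex (ComplexShape.up ℕ)).obj I)
    (hW : IsQuasiSeparated (W : Set X))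
    (haff : ∀ (U : X.Opens) (hU : U ≤ W), IsAffineOpen U →
      QuasiIso (phi g α e ρ ρ' hρ θ hU (U' := g ⁻¹ᵁ U ⊓ W') inf_le_right inf_le_left))
    (U : X.Opens) (hUW : U ≤ W) (hU : IsCompact (U : Set X)) :
    QuasiIso (phi g α e ρ ρ' hρ θ hUW (U' := g ⁻¹ᵁ U ⊓ W') inf_le_right inf_le_left) := by
  refine induction_le W hW (fun U => ∀ hU : U ≤ W,
    QuasiIso (phi g α e ρ ρ' hρ θ hU (U' := g ⁻¹ᵁ U ⊓ W') inf_le_right inf_le_left)) ?_ ?_ U hUW
    hU hUW
  · intro U hU hU' _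
    exact haff U hU hU'
  · intro U V hU hV h₁ h₂ h₃ hUV
    refine quasiIso_phi_sup g α e ρ ρ' hρ hα hJ hI θ rfl rfl hUV hU hV
      (inf_le_left.trans hU) ?_ ?_ _ _ _ _ _ _ _ _ (h₁ hU) (h₂ hV) (h₃ _)
    · rw [← inf_sup_right, Scheme.Hom.preimage_sup]
    · rw [inf_inf_inf_comm, inf_idem, Scheme.Hom.preimage_inf]

end

end Groth.Agent.CohqA.FBCCx
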