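import Mathlib.Algebra.Homology.HomologySequenceLemmas

/-!
# The five lemma for the first term of short exact sequences of complexes

Mathlib has `HomologicalComplex.HomologySequence.quasiIso_τ₃`; here is the version for `τ₁`, and a
Mayer-Vietoris style consequence.
-/

universe v u w

open CategoryTheory Limits HomologicalComplex HomologicalComplex.HomologySequence ComposableArrows
  Abelian

namespace Groth.Agent.CohqA.FBCFive

variable {C ι : Type*} [Category C] [Abelian C] {c : ComplexShape ι}
  {S₁ S₂ : ShortComplex (HomologicalComplex C c)} (φ : S₁ ⟶ S₂)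
  (hS₁ : S₁.ShortExact) (hS₂ : S₂.ShortExact)

include hS₁ hS₂

theorem isIso_homologyMap_τ₁ (j : ι)
    (h₂ : IsIso (homologyMap φ.τ₂ j))
    (h₃ : Mono (homologyMap φ.τ₃ j))
    (h₄ : ∀ i, c.Rel i j → Epi (homologyMap φ.τ₂ i))
    (h₅ : ∀ i, c.Rel i j → IsIso (homologyMap φ.τ₃ i)) :
    IsIso (homologyMap φ.τ₁ j) := by
  by_cases hj : ∃ i, c.Rel i j
  · obtain ⟨i, hij⟩ := hj
    exact isIso_of_epi_of_isIso_of_isIso_of_mono
      (composableArrows₅_exact hS₁ i j hij).δ₀ (composableArrows₅_exact hS₂ i j hij).δ₀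
      (δ₀Functor.map (mapComposableArrows₅ φ hS₁ hS₂ i j hij))
      (h₄ i hij) (h₅ i hij) h₂ h₃
  · have hm₁ : Mono (homologyMap S₁.f j) := by
      have := hS₁.mono_f
      apply mono_homologyMap_of_mono_of_not_rel
      simpa using hj
    have hm₂ : Mono (homologyMap S₂.f j) := by
      have := hS₂.mono_f
      apply mono_homologyMap_of_mono_of_not_rel
      simpa using hj
    have eq : homologyMap φ.τ₁ j ≫ homologyMap S₂.f j =
        homologyMap S₁.f j ≫ homologyMap φ.τ₂ j := by
      rw [← homologyMap_comp, φ.comm₁₂, homologyMap_comp]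
    have : Mono (homologyMap φ.τ₁ j) := by
      have : Mono (homologyMap φ.τ₁ j ≫ homologyMap S₂.f j) := by
        rw [eq]
        infer_instance
      exact mono_of_mono _ (homologyMap S₂.f j)
    have he : Epi (homologyMap φ.τ₂ j) := inferInstance
    have : Epi (homologyMap φ.τ₁ j) :=
      epi_of_mono_of_epi_of_mono (mapComposableArrows₂ φ j)
        (composableArrows₂_exact hS₁ j) (composableArrows₂_exact hS₂ j) hm₂ he h₃
    exact isIso_of_mono_of_epi _

theorem quasiIso_τ₁ (h₂ : QuasiIso φ.τ₂) (h₃ : QuasiIso φ.τ₃) : QuasiIso φ.τ₁ := by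
  rw [quasiIso_iff]
  intro i
  rw [quasiIsoAt_iff_isIso_homologyMap]
  apply isIso_homologyMap_τ₁ φ hS₁ hS₂
  all_goals infer_instance

end Groth.Agent.CohqA.FBCFive
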