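import Groth.Agent.CohqA.FBCRes
import Groth.Agent.CohqA.AffineBaseChange
import Mathlib.AlgebraicGeometry.Morphisms.Flat

/-!
# Flat base change for complexes of sections of injective resolutions

`quasiIso_phi_of_isPullback`: given a cartesian square with `f : X ⟶ S` quasi-compact and
quasi-separated, `M` quasi-coherent on `X`, `M'` its pullback to `X'`, `J`, `I` injective
resolutions of `M`, `M'`, `θ : J ⟶ g'_* I` compatible with `M ⟶ g'_* M'`, `V ⊆ S`,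
`V' ⊆ g⁻¹ V` affine with `Γ(S, V) ⟶ Γ(S', V')` flat: then
`Γ(S', V') ⊗ Γ(f⁻¹ V, J) ⟶ Γ(f'⁻¹ V', I)` is a quasi-isomorphism.
-/

set_option autoImplicit false
universe u

open CategoryTheory CategoryTheory.Limits AlgebraicGeometry Opposite TopologicalSpace

namespace Groth.Agent.CohqA.FBCGeom

open Ega1.QCohLoc FBCSquare FBCSec FBCCx FBCRes PullbackUniv BaseChangeMod

variable {X S X' S' : Scheme.{u}} {f : X ⟶ S} {g : S' ⟶ S} {g' : X' ⟶ X} {f' : X' ⟶ S'}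

theorem ring_square (w : g' ≫ f = f' ≫ g) {V : S.Opens} {V' : S'.Opens} (e : V' ≤ g ⁻¹ᵁ V)
    (e₁ : f' ⁻¹ᵁ V' ≤ g' ⁻¹ᵁ (f ⁻¹ᵁ V)) (a : Γ(S, V)) :
    (f'.app V').hom ((g.appLE V V' e).hom a) =
      g'.appLE (f ⁻¹ᵁ V) (f' ⁻¹ᵁ V') e₁ ((f.app V).hom a) := by
  have h1 : g.appLE V V' e ≫ f'.app V' = f.app V ≫ g'.appLE (f ⁻¹ᵁ V) (f' ⁻¹ᵁ V') e₁ := by
    rw [Scheme.Hom.app_eq_appLE, Scheme.Hom.app_eq_appLE, Scheme.Hom.appLE_comp_appLE,
      Scheme.Hom.appLE_comp_appLE]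
    simp only [w]
  exact congr($h1 a)

theorem quasiIso_phi_of_isPullback (H : IsPullback g' f' f g) [QuasiCompact f] [QuasiSeparated f]
    {M : X.Modules} (hM : Coh.IsQCoh M) {M' : X'.Modules}
    (a : M ⟶ (Scheme.Modules.pushforward g').obj M') (ha : IsUniv g' a)
    (J : InjectiveResolution M) (I : InjectiveResolution M')
    (θ : J.cocomplex ⟶
      ((Scheme.Modules.pushforward g').mapHomologicalComplex (ComplexShape.up ℕ)).obj I.cocomplex)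
    (hθ : aug J ≫ θ.f 0 = a ≫ (Scheme.Modules.pushforward g').map (aug I))
    {V : S.Opens} (hV : IsAffineOpen V) {V' : S'.Opens} (hV' : IsAffineOpen V')
    (e : V' ≤ g ⁻¹ᵁ V) (e₁ : f' ⁻¹ᵁ V' ≤ g' ⁻¹ᵁ (f ⁻¹ᵁ V))
    (hα : (g.appLE V V' e).hom.Flat) :
    QuasiIso (phi g' (g.appLE V V' e).hom e₁ (f.app V).hom (f'.app V').hom
      (ring_square H.w e e₁) θ (le_refl (f ⁻¹ᵁ V)) (le_refl (f' ⁻¹ᵁ V')) e₁) := by
  have hM1 := hM
  have hM' : Coh.IsQCoh M' := PullbackQCoh.isQuasicoherent_of_isUniv g' a ha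
  have key : QuasiIso (phi g' (g.appLE V V' e).hom e₁ (f.app V).hom (f'.app V').hom
      (ring_square H.w e e₁) θ (le_refl (f ⁻¹ᵁ V)) (U' := g' ⁻¹ᵁ (f ⁻¹ᵁ V) ⊓ f' ⁻¹ᵁ V')
      inf_le_right inf_le_left) := by
    refine quasiIso_phi g' _ e₁ _ _ _ hα (fun n => ?_) (fun n => ?_) θ
      (f.isQuasiSeparated_preimage hV.isQuasiSeparated) ?_ _ le_rfl
      (f.isCompact_preimage hV.isCompact)
    · have := J.injective n
      exact flasque_of_injective _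
    · have := I.injective n
      exact flasque_of_injective _
    intro U hU hUa
    have hU'a : IsAffineOpen (g' ⁻¹ᵁ U ⊓ f' ⁻¹ᵁ V') := by
      have : IsAffine _ := hV
      have : IsAffine _ := hV'
      have : IsAffine _ := hUa
      exact .of_isIso (Scheme.Hom.isPullback_resLE H e hU rfl).isoPullback.hom
    refine quasiIso_phi_affine g' _ hα e₁ _ _ _ J I a θ hθ hU _ _
      (acycOn_of_isAffineOpen U hUa M hM) (acycOn_of_isAffineOpen _ hU'a M' hM') ?_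
    have h1 : IsPushout (g.appLE V V' e) (f.appLE V U hU)
        (f'.appLE V' (g' ⁻¹ᵁ U ⊓ f' ⁻¹ᵁ V') inf_le_right)
        (g'.appLE U (g' ⁻¹ᵁ U ⊓ f' ⁻¹ᵁ V') inf_le_left) :=
      ((isIso_pushoutSection_iff H e hU rfl).1
        (isIso_pushoutSection_of_isAffineOpen H e hU rfl hV hV' hUa)).flip
    have h2 := PullbackSections.isBC_secMap g' a ha hUa hU'a
      (inf_le_left : g' ⁻¹ᵁ U ⊓ f' ⁻¹ᵁ V' ≤ g' ⁻¹ᵁ U)
    let : Module Γ(S, V) Γ(M, U) := ((sec (f.app V).hom hU).obj M).isModule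
    let : Module Γ(S', V') Γ(M', g' ⁻¹ᵁ U ⊓ f' ⁻¹ᵁ V') :=
      ((sec (f'.app V').hom inf_le_right).obj M').isModule
    exact BaseChangePushout.isBC_of_isPushout (M := Γ(M, U))
      (M' := Γ(M', g' ⁻¹ᵁ U ⊓ f' ⁻¹ᵁ V')) h1 (fun r x => rfl) (fun r x => rfl) h2
  have hU : g' ⁻¹ᵁ (f ⁻¹ᵁ V) ⊓ f' ⁻¹ᵁ V' = f' ⁻¹ᵁ V' := inf_eq_right.2 e₁
  have h3 : ∀ (U' : X'.Opens) (hU' : U' = f' ⁻¹ᵁ V') (h1 : U' ≤ f' ⁻¹ᵁ V')
      (h2 : U' ≤ g' ⁻¹ᵁ (f ⁻¹ᵁ V)), QuasiIso (phi g' (g.appLE V V' e).hom e₁ (f.app V).hom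
        (f'.app V').hom (ring_square H.w e e₁) θ (le_refl (f ⁻¹ᵁ V)) h1 h2) →
      QuasiIso (phi g' (g.appLE V V' e).hom e₁ (f.app V).hom (f'.app V').hom
        (ring_square H.w e e₁) θ (le_refl (f ⁻¹ᵁ V)) (le_refl (f' ⁻¹ᵁ V')) e₁) := by
    rintro U' rfl h1 h2 h
    exact h
  exact h3 _ hU _ _ key

end Groth.Agent.CohqA.FBCGeom
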