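import Groth.Agent.CohqA.AffSec

/-!
# Presheaves of modules which localize on affine opens

Let `P` be a presheaf of `O_X`-modules (given in elementary form: modules `P U` over `Γ(X, U)`, semilinear restriction
maps) with a map `φ : P → F` to a sheaf of modules `F : X.Modules`, locally injective and locally surjective
(i.e. `F` is the sheafification of `P`).  If for every affine open `V ≤ W` and `f ∈ Γ(X, V)` the restriction map
`P V → P (D(f))` is a localization at `f` (elementary form), then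

* `Core.injective`, `Core.bijective`: `φ V : P V → Γ(F, V)` is bijective for every affine open `V ≤ W`;
* `Core.isQCoh`: (for `W = ⊤`) `F` is quasi-coherent.
* `bijective_of_isLocallyBijective`, `isQCoh_of_isLocallyBijective`: the same for `P : X.PresheafOfModules` and
  `φ : P ⟶ F.val` with the locality expressed by Mathlib's `Presheaf.IsLocallyInjective/Surjective`.
-/

set_option autoImplicit false
universe u

open CategoryTheory Limits AlgebraicGeometry Opposite TopologicalSpace

namespace Groth.Agent.CohqA.PreLoc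

open Groth.Agent.Fdesc.QCohStalk

variable {X : Scheme.{u}}

/-- Elementary presheaf of modules with a map to `F`, locally bijective, and localizing on the affine opens `V ≤ W`. -/
structure Core (F : X.Modules) (W : X.Opens) (P : X.Opens → Type u) [∀ U, AddCommGroup (P U)]
    [∀ U : X.Opens, Module Γ(X, U) (P U)] where
  /-- restriction maps -/
  res : ∀ {U V : X.Opens} (_ : V ≤ U), P U →+ P V
  res_smul : ∀ {U V : X.Opens} (h : V ≤ U) (r : Γ(X, U)) (s : P U),
    res h (r • s) = X.presheaf.map (homOfLE h).op r • res h s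
  res_res : ∀ {U V T : X.Opens} (h : V ≤ U) (h' : T ≤ V) (s : P U),
    res h' (res h s) = res (h'.trans h) s
  /-- the map to the sheaf -/
  φ : ∀ U : X.Opens, P U →ₗ[Γ(X, U)] Γ(F, U)
  φ_res : ∀ {U V : X.Opens} (h : V ≤ U) (s : P U), φ V (res h s) = F.presheaf.map (homOfLE h).op (φ U s)
  inj : ∀ (U : X.Opens), IsAffineOpen U → U ≤ W → ∀ s : P U, φ U s = 0 → ∀ x ∈ U,
    ∃ (V : X.Opens) (h : V ≤ U), x ∈ V ∧ res h s = 0
  surj : ∀ (U : X.Opens), IsAffineOpen U → U ≤ W → ∀ t : Γ(F, U), ∀ x ∈ U,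
    ∃ (V : X.Opens) (h : V ≤ U), x ∈ V ∧ ∃ p : P V, φ V p = F.presheaf.map (homOfLE h).op t
  loc_zero : ∀ (U : X.Opens), IsAffineOpen U → U ≤ W → ∀ (f : Γ(X, U)) (s : P U),
    res (X.basicOpen_le f) s = 0 → ∃ n : ℕ, f ^ n • s = 0
  loc_surj : ∀ (U : X.Opens), IsAffineOpen U → U ≤ W → ∀ (f : Γ(X, U)) (t : P (X.basicOpen f)),
    ∃ (n : ℕ) (s : P U), res (X.basicOpen_le f) s =
      (X.presheaf.map (homOfLE (X.basicOpen_le f)).op f) ^ n • t

namespace Core

variable {F : X.Modules} {W : X.Opens} {P : X.Opens → Type u} [∀ U, AddCommGroup (P U)]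
    [∀ U : X.Opens, Module Γ(X, U) (P U)] (C : Core F W P)

include C

/-- On an affine open, a section of `P` which is locally zero is zero. -/
theorem eq_zero_of_locally {U : X.Opens} (hU : IsAffineOpen U) (hW : U ≤ W) (s : P U)
    (h : ∀ x ∈ U, ∃ (V : X.Opens) (h : V ≤ U), x ∈ V ∧ C.res h s = 0) : s = 0 := by
  -- the ideal of functions killing `s`
  let I : Ideal Γ(X, U) := Submodule.annihilator (Submodule.span Γ(X, U) {s})
  have hI : ∀ f : Γ(X, U), f ∈ I ↔ f • s = 0 := fun f => Submodule.mem_annihilator_span_singleton s f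
  have key : Ideal.span {f : Γ(X, U) | ∃ n : ℕ, f ^ n ∈ I} = ⊤ := by
    rw [← hU.self_le_iSup_basicOpen_iff]
    intro x hx
    obtain ⟨V, hVU, hxV, hV⟩ := h x hx
    obtain ⟨f, hfV, hxf⟩ := hU.exists_basicOpen_le (V := V) ⟨x, hxV⟩ hx
    have h0 : C.res (X.basicOpen_le f) s = 0 := by
      rw [← C.res_res hVU hfV, hV, map_zero]
    obtain ⟨n, hn⟩ := C.loc_zero U hU hW f s h0
    exact Opens.mem_iSup.mpr ⟨⟨f, n, (hI _).mpr hn⟩, hxf⟩
  have hrad : (1 : Γ(X, U)) ∈ I.radical := by
    have : Ideal.span {f : Γ(X, U) | ∃ n : ℕ, f ^ n ∈ I} ≤ I.radical :=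
      Ideal.span_le.mpr fun f hf => hf
    exact this (key ▸ Submodule.mem_top)
  obtain ⟨n, hn⟩ := hrad
  rw [one_pow] at hn
  simpa using (hI 1).mp hn

theorem injective {U : X.Opens} (hU : IsAffineOpen U) (hW : U ≤ W) : Function.Injective (C.φ U) := by
  rw [injective_iff_map_eq_zero]
  intro s hs
  exact C.eq_zero_of_locally hU hW s (C.inj U hU hW s hs)

/-- Locally, with basic opens: the elements `f` such that `t` comes from `P (D(f))` generate the unit ideal. -/
theorem span_eq_top {U : X.Opens} (hU : IsAffineOpen U) (hW : U ≤ W) (t : Γ(F, U)) :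
    Ideal.span {f : Γ(X, U) | ∃ p : P (X.basicOpen f),
      C.φ _ p = F.presheaf.map (homOfLE (X.basicOpen_le f)).op t} = ⊤ := by
  rw [← hU.self_le_iSup_basicOpen_iff]
  intro x hx
  obtain ⟨V, hVU, hxV, p, hp⟩ := C.surj U hU hW t x hx
  obtain ⟨f, hfV, hxf⟩ := hU.exists_basicOpen_le (V := V) ⟨x, hxV⟩ hx
  refine Opens.mem_iSup.mpr ⟨⟨f, C.res hfV p, ?_⟩, hxf⟩
  rw [C.φ_res, hp, map_map]

/-- `F` localizes (kernel part) on affine opens. -/
theorem sheaf_loc_zero {U : X.Opens} (hU : IsAffineOpen U) (hW : U ≤ W) (f : Γ(X, U)) (t : Γ(F, U))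
    (ht : F.presheaf.map (homOfLE (X.basicOpen_le f)).op t = 0) : ∃ n : ℕ, f ^ n • t = 0 := by
  obtain ⟨T, hT, hT'⟩ := (Ideal.span_eq_top_iff_finite _).mp (C.span_eq_top hU hW t)
  have h1 : ∀ g ∈ T, ∃ n : ℕ, F.presheaf.map (homOfLE (X.basicOpen_le g)).op (f ^ n • t) = 0 := by
    intro g hg
    obtain ⟨p, hp⟩ := hT hg
    have hgU := hU.basicOpen g
    let f' := X.presheaf.map (homOfLE (X.basicOpen_le g)).op f
    have hle : X.basicOpen f' ≤ X.basicOpen f := by
      simp only [f', Scheme.basicOpen_res]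
      exact inf_le_right
    have h0 : C.φ _ (C.res (X.basicOpen_le f') p) = 0 := by
      rw [C.φ_res, hp, map_map, ← map_map F (X.basicOpen_le f) hle, ht, map_zero]
    have h2 := C.injective (hgU.basicOpen f') ((X.basicOpen_le f').trans ((X.basicOpen_le g).trans hW))
      (h0.trans (map_zero _).symm)
    obtain ⟨n, hn⟩ := C.loc_zero _ hgU ((X.basicOpen_le g).trans hW) f' p h2
    refine ⟨n, ?_⟩
    rw [map_smul', map_pow, ← hp, ← map_smul]
    change C.φ _ (f' ^ n • p) = 0
    rw [hn, map_zero]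
  choose! n hn using h1
  refine ⟨T.sup n, ?_⟩
  have hcov : U ≤ ⨆ g : T, X.basicOpen (g : Γ(X, U)) := by
    have := (hU.self_le_iSup_basicOpen_iff (s := (T : Set Γ(X, U)))).mpr hT'
    exact this
  refine TopCat.Sheaf.eq_of_locally_eq' (C := Ab) ⟨F.presheaf, F.isSheaf⟩
    (fun g : T => X.basicOpen (g : Γ(X, U))) U (fun g => homOfLE (X.basicOpen_le _)) hcov _ _ fun g => ?_
  have h3 : T.sup n = (T.sup n - n g) + n g := (Nat.sub_add_cancel (Finset.le_sup g.2)).symm
  change F.presheaf.map (homOfLE (X.basicOpen_le g.1)).op (f ^ (T.sup n) • t) =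
    F.presheaf.map (homOfLE (X.basicOpen_le g.1)).op 0
  rw [h3, pow_add, mul_smul, map_smul', hn g g.2, smul_zero, map_zero]

theorem surjective {U : X.Opens} (hU : IsAffineOpen U) (hW : U ≤ W) : Function.Surjective (C.φ U) := by
  intro t
  let J : Ideal Γ(X, U) :=
    { carrier := {g | ∃ s : P U, C.φ U s = g • t}
      add_mem' := by
        rintro a b ⟨s, hs⟩ ⟨s', hs'⟩
        exact ⟨s + s', by rw [map_add, hs, hs', add_smul]⟩
      zero_mem' := ⟨0, by rw [map_zero, zero_smul]⟩
      smul_mem' := by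
        rintro c a ⟨s, hs⟩
        exact ⟨c • s, by rw [map_smul, hs, smul_eq_mul, mul_smul]⟩ }
  have hJ : ∀ f : Γ(X, U), (∃ p : P (X.basicOpen f),
      C.φ _ p = F.presheaf.map (homOfLE (X.basicOpen_le f)).op t) → f ∈ J.radical := by
    rintro f ⟨p, hp⟩
    obtain ⟨n, s, hs⟩ := C.loc_surj U hU hW f p
    have h0 : F.presheaf.map (homOfLE (X.basicOpen_le f)).op (C.φ U s - f ^ n • t) = 0 := by
      rw [map_sub, ← C.φ_res, hs, map_smul', map_smul, hp, map_pow, sub_self]
    obtain ⟨m, hm⟩ := C.sheaf_loc_zero hU hW f _ h0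
    refine ⟨m + n, f ^ m • s, ?_⟩
    rw [smul_sub, sub_eq_zero] at hm
    rw [map_smul, hm, pow_add, mul_smul]
  have h1 : (1 : Γ(X, U)) ∈ J.radical :=
    (Ideal.span_le.mpr hJ) ((C.span_eq_top hU hW t) ▸ Submodule.mem_top)
  obtain ⟨n, s, hs⟩ := h1
  exact ⟨s, by rw [hs, one_pow, one_smul]⟩

theorem bijective {U : X.Opens} (hU : IsAffineOpen U) (hW : U ≤ W) : Function.Bijective (C.φ U) :=
  ⟨C.injective hU hW, C.surjective hU hW⟩

/-- `F` localizes (surjectivity part) on affine opens. -/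
theorem sheaf_loc_surj {U : X.Opens} (hU : IsAffineOpen U) (hW : U ≤ W) (f : Γ(X, U))
    (t : Γ(F, X.basicOpen f)) : ∃ (n : ℕ) (s : Γ(F, U)),
      F.presheaf.map (homOfLE (X.basicOpen_le f)).op s =
        (X.presheaf.map (homOfLE (X.basicOpen_le f)).op f) ^ n • t := by
  obtain ⟨p, rfl⟩ := C.surjective (hU.basicOpen f) ((X.basicOpen_le f).trans hW) t
  obtain ⟨n, s, hs⟩ := C.loc_surj U hU hW f p
  exact ⟨n, C.φ U s, by rw [← C.φ_res, hs, map_smul]⟩

end Core

/-- `F` is quasi-coherent if it receives a locally bijective map from a presheaf localizing on affine opens. -/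
theorem Core.isQCoh {F : X.Modules} {P : X.Opens → Type u} [∀ U, AddCommGroup (P U)]
    [∀ U : X.Opens, Module Γ(X, U) (P U)] (C : Core F ⊤ P) : Coh.IsQCoh F := by
  refine AffSec.isQCoh_of_loc F fun x => ?_
  obtain ⟨U, hU, hx, -⟩ := Opens.isBasis_iff_nbhd.mp X.isBasis_affineOpens
    (show x ∈ (⊤ : X.Opens) from trivial)
  exact ⟨U, hU, hx, fun f s => C.sheaf_loc_zero hU le_top f s, fun f t => C.sheaf_loc_surj hU le_top f t⟩

/-- Quasi-coherence from a local version: every point has an open neighbourhood `W` with a `Core F W P`. -/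
theorem isQCoh_of_core {F : X.Modules}
    (h : ∀ x : X, ∃ (W : X.Opens), x ∈ W ∧ ∃ (P : X.Opens → Type u) (_ : ∀ U, AddCommGroup (P U))
      (_ : ∀ U : X.Opens, Module Γ(X, U) (P U)), Nonempty (Core F W P)) : Coh.IsQCoh F := by
  refine AffSec.isQCoh_of_loc F fun x => ?_
  obtain ⟨W, hxW, P, _, _, ⟨C⟩⟩ := h x
  obtain ⟨U, hU, hx, hUW⟩ := Opens.isBasis_iff_nbhd.mp X.isBasis_affineOpens hxW
  exact ⟨U, hU, hx, fun f s => C.sheaf_loc_zero hU hUW f s, fun f t => C.sheaf_loc_surj hU hUW f t⟩

section Presheaf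

variable (P : X.PresheafOfModules) (F : X.Modules) (φ : P ⟶ F.val)

/-- The sections of a presheaf of modules. -/
abbrev psec (P : X.PresheafOfModules) (U : X.Opens) : Type u := P.obj (op U)

noncomputable instance (P : X.PresheafOfModules) (U : X.Opens) : Module Γ(X, U) (psec P U) :=
  inferInstanceAs (Module (X.ringCatSheaf.obj.obj (op U)) (P.obj (op U)))

/-- Restriction maps of a presheaf of modules as additive maps. -/
noncomputable def pres {U V : X.Opens} (h : V ≤ U) : psec P U →+ psec P V :=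
  (P.presheaf.map (homOfLE h).op).hom

/-- The components of `φ` as linear maps. -/
noncomputable def pφ (U : X.Opens) : psec P U →ₗ[Γ(X, U)] Γ(F, U) := (φ.app (op U)).hom

variable {P F}

/-- `Core` from a locally bijective morphism of presheaves of modules. -/
noncomputable def coreOfPresheaf (W : X.Opens)
    (hinj : Presheaf.IsLocallyInjective (Opens.grothendieckTopology X)
      ((PresheafOfModules.toPresheaf _).map φ))
    (hsurj : Presheaf.IsLocallySurjective (Opens.grothendieckTopology X)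
      ((PresheafOfModules.toPresheaf _).map φ))
    (h0 : ∀ (U : X.Opens), IsAffineOpen U → U ≤ W → ∀ (f : Γ(X, U)) (s : psec P U),
      pres P (X.basicOpen_le f) s = 0 → ∃ n : ℕ, f ^ n • s = 0)
    (h1 : ∀ (U : X.Opens), IsAffineOpen U → U ≤ W → ∀ (f : Γ(X, U)) (t : psec P (X.basicOpen f)),
      ∃ (n : ℕ) (s : psec P U), pres P (X.basicOpen_le f) s =
        (X.presheaf.map (homOfLE (X.basicOpen_le f)).op f) ^ n • t) : Core F W (psec P) where
  res h := pres P h
  res_smul h r s := P.map_smul (homOfLE h).op r s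
  res_res h h' s := by
    change P.presheaf.map _ (P.presheaf.map _ s) = P.presheaf.map _ s
    rw [← ConcreteCategory.comp_apply, ← P.presheaf.map_comp]
    rfl
  φ := pφ P F φ
  φ_res h s := by
    have := congr($(((PresheafOfModules.toPresheaf _).map φ).naturality (homOfLE h).op) s)
    exact this
  inj U hU hW s hs x hx := by
    have hs' : ((PresheafOfModules.toPresheaf _).map φ).app (op U) s =
        ((PresheafOfModules.toPresheaf _).map φ).app (op U) 0 := hs.trans (map_zero _).symm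
    obtain ⟨V, i, hV, hxV⟩ := hinj.equalizerSieve_mem (X := op U) s 0 hs' x hx
    refine ⟨V, leOfHom i, hxV, ?_⟩
    have : P.presheaf.map i.op s = P.presheaf.map i.op 0 := hV
    rw [map_zero] at this
    exact this
  surj U hU hW t x hx := by
    obtain ⟨V, i, ⟨p, hp⟩, hxV⟩ := hsurj.imageSieve_mem (U := U) t x hx
    exact ⟨V, leOfHom i, hxV, p, hp⟩
  loc_zero := h0
  loc_surj := h1

/-- A locally bijective morphism `φ : P ⟶ F.val` from a presheaf of modules localizing on affine opens to a sheaf is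
bijective on affine opens. -/
theorem bijective_of_isLocallyBijective (W : X.Opens)
    (hinj : Presheaf.IsLocallyInjective (Opens.grothendieckTopology X)
      ((PresheafOfModules.toPresheaf _).map φ))
    (hsurj : Presheaf.IsLocallySurjective (Opens.grothendieckTopology X)
      ((PresheafOfModules.toPresheaf _).map φ))
    (h0 : ∀ (U : X.Opens), IsAffineOpen U → U ≤ W → ∀ (f : Γ(X, U)) (s : psec P U),
      pres P (X.basicOpen_le f) s = 0 → ∃ n : ℕ, f ^ n • s = 0)
    (h1 : ∀ (U : X.Opens), IsAffineOpen U → U ≤ W → ∀ (f : Γ(X, U)) (t : psec P (X.basicOpen f)),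
      ∃ (n : ℕ) (s : psec P U), pres P (X.basicOpen_le f) s =
        (X.presheaf.map (homOfLE (X.basicOpen_le f)).op f) ^ n • t)
    {U : X.Opens} (hU : IsAffineOpen U) (hW : U ≤ W) :
    Function.Bijective (φ.app (op U)) :=
  (coreOfPresheaf φ W hinj hsurj h0 h1).bijective hU hW

theorem isQCoh_of_isLocallyBijective
    (hinj : Presheaf.IsLocallyInjective (Opens.grothendieckTopology X)
      ((PresheafOfModules.toPresheaf _).map φ))
    (hsurj : Presheaf.IsLocallySurjective (Opens.grothendieckTopology X)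
      ((PresheafOfModules.toPresheaf _).map φ))
    (h0 : ∀ (U : X.Opens), IsAffineOpen U → ∀ (f : Γ(X, U)) (s : psec P U),
      pres P (X.basicOpen_le f) s = 0 → ∃ n : ℕ, f ^ n • s = 0)
    (h1 : ∀ (U : X.Opens), IsAffineOpen U → ∀ (f : Γ(X, U)) (t : psec P (X.basicOpen f)),
      ∃ (n : ℕ) (s : psec P U), pres P (X.basicOpen_le f) s =
        (X.presheaf.map (homOfLE (X.basicOpen_le f)).op f) ^ n • t) : Coh.IsQCoh F :=
  (coreOfPresheaf φ ⊤ hinj hsurj (fun U hU _ => h0 U hU) (fun U hU _ => h1 U hU)).isQCoh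

end Presheaf

end Groth.Agent.CohqA.PreLoc
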