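import Groth.Agent.CohqA.FBCAbs
import Groth.Agent.CohqA.FBCGeom
import Groth.Agent.CohqA.PreLoc

/-!
# Homology sheaves of complexes of modules and base change

Compatibilities between homology of section complexes and sections of homology sheaves, and transfer of the
base change morphism from `X` to `S`.

-/

set_option autoImplicit false
universe u

open CategoryTheory CategoryTheory.Limits AlgebraicGeometry Opposite TopologicalSpace

namespace Groth.Agent.CohqA.FBCHom

open Ega1.QCohLoc FBCSec FBCCx FBCRes FBCAbs PullbackUniv PullbackAffine BaseChangeMod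

variable {X X' : Scheme.{u}} {A B : Type u} [CommRing A] [CommRing B]

instance preservesFiniteLimits_pushforward (g : X' ⟶ X) :
    PreservesFiniteLimits (Scheme.Modules.pushforward g) :=
  have := (Scheme.Modules.pullbackPushforwardAdjunction g).rightAdjoint_preservesLimits
  inferInstance

section

variable (g : X' ⟶ X) (α : A →+* B) {W : X.Opens} {W' : X'.Opens} (e : W' ≤ g ⁻¹ᵁ W)
  (ρ : A →+* Γ(X, W)) (ρ' : B →+* Γ(X', W'))
  (hρ : ∀ a, ρ' (α a) = g.appLE W W' e (ρ a)) {J : CochainComplex X.Modules ℕ}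
  {I : CochainComplex X'.Modules ℕ}
  (θ : J ⟶ ((Scheme.Modules.pushforward g).mapHomologicalComplex (ComplexShape.up ℕ)).obj I)
  {U : X.Opens} (h : U ≤ W) {U' : X'.Opens} (h' : U' ≤ W') (e' : U' ≤ g ⁻¹ᵁ U) (i : ℕ)

set_option backward.isDefEq.respectTransparency false in
theorem clsZ_zeta_psi : clsZ (sec ρ h) J i ≫ zeta i (psi g α e ρ ρ' hρ θ h h' e') =
    secHom g α e ρ ρ' hρ (zeta i θ) h h' e' ≫
      (ModuleCat.restrictScalars α).map (clsZ (sec ρ' h') I i) := by
  have h1 : Mono ((ModuleCat.restrictScalars α).map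
      ((((sec ρ' h').mapHomologicalComplex (ComplexShape.up ℕ)).obj I).iCycles i)) := inferInstance
  rw [← cancel_mono ((ModuleCat.restrictScalars α).map
      ((((sec ρ' h').mapHomologicalComplex (ComplexShape.up ℕ)).obj I).iCycles i))]
  rw [Category.assoc, zeta_i, ← Category.assoc, clsZ_i, Category.assoc, ← Functor.map_comp, clsZ_i]
  have h7 := (pushRes g α e ρ ρ' hρ h h' e').naturality (I.iCycles i)
  have h8 : (sec ρ h).map (zeta i θ) ≫
        (sec ρ h).map ((Scheme.Modules.pushforward g).map (I.iCycles i)) =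
      (sec ρ h).map (J.iCycles i) ≫ (sec ρ h).map (θ.f i) :=
    ((sec ρ h).map_comp _ _).symm.trans
      ((congr_arg (sec ρ h).map (zeta_i i θ)).trans ((sec ρ h).map_comp _ _))
  refine Eq.trans ?_ (Category.assoc _ _ _).symm
  refine Eq.trans ?_ (congrArg (fun t => (sec ρ h).map (zeta i θ) ≫ t) h7)
  refine Eq.trans ?_ (Category.assoc _ _ _)
  refine Eq.trans ?_ (congrArg (fun t => t ≫ (pushRes g α e ρ ρ' hρ h h' e').app _) h8.symm)
  exact (Category.assoc _ _ _).symm

set_option backward.isDefEq.respectTransparency false in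
theorem cls_eta_psi : cls (sec ρ h) J i ≫ eta i (psi g α e ρ ρ' hρ θ h h' e') =
    secHom g α e ρ ρ' hρ (zeta i θ) h h' e' ≫
      (ModuleCat.restrictScalars α).map (cls (sec ρ' h') I i) := by
  rw [cls, Category.assoc, π_eta, ← Category.assoc, clsZ_zeta_psi, Category.assoc,
    ← Functor.map_comp]
  rfl

/-- Comparison with sections of the homology sheaves. -/
theorem cmpH_secHom : eta i (psi g α e ρ ρ' hρ θ h h' e') ≫
      (ModuleCat.restrictScalars α).map (cmpH (sec ρ' h') I i) =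
    cmpH (sec ρ h) J i ≫ secHom g α e ρ ρ' hρ (eta i θ) h h' e' := by
  rw [← cancel_epi (cls (sec ρ h) J i), ← Category.assoc, cls_eta_psi, Category.assoc,
    ← Functor.map_comp, cls_cmpH, cls_cmpH_assoc]
  have h7 := (pushRes g α e ρ ρ' hρ h h' e').naturality (I.homologyπ i)
  have h8 : (sec ρ h).map (J.homologyπ i) ≫ (sec ρ h).map (eta i θ) = (sec ρ h).map (zeta i θ) ≫
        (sec ρ h).map ((Scheme.Modules.pushforward g).map (I.homologyπ i)) :=
    ((sec ρ h).map_comp _ _).symm.trans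
      ((congr_arg (sec ρ h).map (π_eta i θ)).trans ((sec ρ h).map_comp _ _))
  refine (Category.assoc _ _ _).trans ?_
  refine (congrArg (fun t => (sec ρ h).map (zeta i θ) ≫ t) h7.symm).trans ?_
  refine (Category.assoc _ _ _).symm.trans ?_
  refine (congrArg (fun t => t ≫ (pushRes g α e ρ ρ' hρ h h' e').app _) h8.symm).trans ?_
  exact Category.assoc _ _ _

/-- Base change on homology. -/
theorem isBC_eta_psi (hα : α.Flat) (hq : QuasiIsoAt (phi g α e ρ ρ' hρ θ h h' e') i) :
    IsBC (M := ((((sec ρ h).mapHomologicalComplex (ComplexShape.up ℕ)).obj J).homology i :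
        ModuleCat.{u} A))
      (N := ((((sec ρ' h').mapHomologicalComplex (ComplexShape.up ℕ)).obj I).homology i :
        ModuleCat.{u} B)) α
      (addOf α (eta i (psi g α e ρ ρ' hρ θ h h' e'))) := by
  have h1 := ModuleCat.preservesFiniteLimits_extendScalars_of_flat hα
  have h2 : PreservesFiniteColimits (ModuleCat.extendScalars.{u, u, u} α) :=
    have := (ModuleCat.extendRestrictScalarsAdj.{u, u, u} α).leftAdjoint_preservesColimits
    inferInstance
  exact (isIso_extend_iff α (ModuleCat.extendRestrictScalarsAdj.{u, u, u} α) _).1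
    (isIso_homEquiv_symm_eta (ModuleCat.extendRestrictScalarsAdj.{u, u, u} α) i _ hq)

end

section Transfer

variable {S S' : Scheme.{u}} {f : X ⟶ S} {g : S' ⟶ S} {g' : X' ⟶ X} {f' : X' ⟶ S'}

/-- Sections of `f_* M` over `U` are sections of `M` over `f⁻¹ U`, linearly. -/
noncomputable def pushSecEquiv (f : X ⟶ S) {W : S.Opens} (ρ : A →+* Γ(S, W))
    (σ : A →+* Γ(X, f ⁻¹ᵁ W)) (hσ : ∀ a, σ a = f.app W (ρ a)) {U : S.Opens} (h : U ≤ W)
    (M : X.Modules) :
    ((sec ρ h).obj ((Scheme.Modules.pushforward f).obj M) : ModuleCat.{u} A) ≃ₗ[A]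
      ((sec σ (Scheme.Hom.preimage_mono f h)).obj M : ModuleCat.{u} A) :=
  { AddEquiv.refl Γ(M, f ⁻¹ᵁ U) with
    map_smul' := fun a (x : Γ(M, f ⁻¹ᵁ U)) => by
      change (f.app U (resO h (ρ a)) • x : Γ(M, f ⁻¹ᵁ U)) =
        (resO (Scheme.Hom.preimage_mono f h) (σ a) • x : Γ(M, f ⁻¹ᵁ U))
      rw [hσ]
      have := congr($(f.naturality (homOfLE h).op) (ρ a))
      exact congrArg (fun r => (r • x : Γ(M, f ⁻¹ᵁ U))) this }

/-- Sections of `f_* M` over `U` are sections of `M` over `f⁻¹ U`. -/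
noncomputable def pushSecIso (f : X ⟶ S) {W : S.Opens} (ρ : A →+* Γ(S, W))
    (σ : A →+* Γ(X, f ⁻¹ᵁ W)) (hσ : ∀ a, σ a = f.app W (ρ a)) {U : S.Opens} (h : U ≤ W) :
    Scheme.Modules.pushforward f ⋙ sec ρ h ≅ sec σ (Scheme.Hom.preimage_mono f h) :=
  NatIso.ofComponents (fun M => (pushSecEquiv f ρ σ hσ h M).toModuleIso) (fun _ => rfl)

theorem pushSecIso_hom_app_apply (f : X ⟶ S) {W : S.Opens} (ρ : A →+* Γ(S, W))
    (σ : A →+* Γ(X, f ⁻¹ᵁ W)) (hσ : ∀ a, σ a = f.app W (ρ a)) {U : S.Opens} (h : U ≤ W)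
    (M : X.Modules) (x : Γ(M, f ⁻¹ᵁ U)) : (pushSecIso f ρ σ hσ h).hom.app M x = x := rfl

/-- `g'_* f_* ≅ f'_* g_*` for a commutative square. -/
noncomputable def squareIso (w : g' ≫ f = f' ≫ g) :
    Scheme.Modules.pushforward g' ⋙ Scheme.Modules.pushforward f ≅
      Scheme.Modules.pushforward f' ⋙ Scheme.Modules.pushforward g :=
  Scheme.Modules.pushforwardComp g' f ≪≫ Scheme.Modules.pushforwardCongr w ≪≫
    (Scheme.Modules.pushforwardComp f' g).symm

/-- The morphism `f_* J ⟶ g_* f'_* I` attached to `θ : J ⟶ g'_* I`. -/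
noncomputable def pushCx (w : g' ≫ f = f' ≫ g) {J : CochainComplex X.Modules ℕ}
    {I : CochainComplex X'.Modules ℕ}
    (θ : J ⟶ ((Scheme.Modules.pushforward g').mapHomologicalComplex (ComplexShape.up ℕ)).obj I) :
    ((Scheme.Modules.pushforward f).mapHomologicalComplex (ComplexShape.up ℕ)).obj J ⟶
      ((Scheme.Modules.pushforward g).mapHomologicalComplex (ComplexShape.up ℕ)).obj
        (((Scheme.Modules.pushforward f').mapHomologicalComplex (ComplexShape.up ℕ)).obj I) :=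
  ((Scheme.Modules.pushforward f).mapHomologicalComplex (ComplexShape.up ℕ)).map θ ≫
    (NatTrans.mapHomologicalComplex (squareIso w).hom (ComplexShape.up ℕ)).app I

theorem pushCx_f_app (w : g' ≫ f = f' ≫ g) {J : CochainComplex X.Modules ℕ}
    {I : CochainComplex X'.Modules ℕ}
    (θ : J ⟶ ((Scheme.Modules.pushforward g').mapHomologicalComplex (ComplexShape.up ℕ)).obj I)
    (n : ℕ) {V : S.Opens} {V' : S'.Opens} (e : V' ≤ g ⁻¹ᵁ V)
    (e₁ : f' ⁻¹ᵁ V' ≤ g' ⁻¹ᵁ (f ⁻¹ᵁ V)) (x : Γ(J.X n, f ⁻¹ᵁ V)) :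
    (secMap g (N := (Scheme.Modules.pushforward f').obj (I.X n)) ((pushCx w θ).f n) V V' e x :
      Γ(I.X n, f' ⁻¹ᵁ V')) =
      secMap g' (N := I.X n) (θ.f n) (f ⁻¹ᵁ V) (f' ⁻¹ᵁ V') e₁ x :=
  AffineBaseChange.secMap_pushSquare f g g' f' w (N := I.X n) (θ.f n) V V' e e₁ x

/-- Transfer of the base change morphism from `X` to `S`. -/
theorem quasiIsoAt_phi_push (w : g' ≫ f = f' ≫ g) {J : CochainComplex X.Modules ℕ}
    {I : CochainComplex X'.Modules ℕ}
    (θ : J ⟶ ((Scheme.Modules.pushforward g').mapHomologicalComplex (ComplexShape.up ℕ)).obj I)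
    {V : S.Opens} {V' : S'.Opens} (e : V' ≤ g ⁻¹ᵁ V)
    (e₁ : f' ⁻¹ᵁ V' ≤ g' ⁻¹ᵁ (f ⁻¹ᵁ V)) (i : ℕ)
    (hq : QuasiIsoAt (phi g' (g.appLE V V' e).hom e₁ (f.app V).hom (f'.app V').hom
      (FBCGeom.ring_square w e e₁) θ (le_refl (f ⁻¹ᵁ V)) (le_refl (f' ⁻¹ᵁ V')) e₁) i) :
    QuasiIsoAt (phi g (g.appLE V V' e).hom e (RingHom.id Γ(S, V)) (RingHom.id Γ(S', V'))
      (fun _ => rfl) (pushCx w θ) (le_refl V) (le_refl V') e) i := by
  let a := (NatIso.mapHomologicalComplex (pushSecIso f (RingHom.id Γ(S, V)) (f.app V).hom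
    (fun _ => rfl) (le_refl V)) (ComplexShape.up ℕ)).app J
  let b := (NatIso.mapHomologicalComplex (pushSecIso f' (RingHom.id Γ(S', V')) (f'.app V').hom
    (fun _ => rfl) (le_refl V')) (ComplexShape.up ℕ)).app I
  have key : psi g (g.appLE V V' e).hom e (RingHom.id Γ(S, V)) (RingHom.id Γ(S', V'))
      (fun _ => rfl) (pushCx w θ) (le_refl V) (le_refl V') e ≫
        ((ModuleCat.restrictScalars (g.appLE V V' e).hom).mapHomologicalComplex
          (ComplexShape.up ℕ)).map b.hom =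
      a.hom ≫ psi g' (g.appLE V V' e).hom e₁ (f.app V).hom (f'.app V').hom
      (FBCGeom.ring_square w e e₁) θ (le_refl (f ⁻¹ᵁ V)) (le_refl (f' ⁻¹ᵁ V')) e₁ := by
    ext n x
    exact pushCx_f_app w θ n e e₁ x
  have key2 : phi g (g.appLE V V' e).hom e (RingHom.id Γ(S, V)) (RingHom.id Γ(S', V'))
      (fun _ => rfl) (pushCx w θ) (le_refl V) (le_refl V') e ≫ b.hom =
      ((ModuleCat.extendScalars (g.appLE V V' e).hom).mapHomologicalComplex
          (ComplexShape.up ℕ)).map a.hom ≫ phi g' (g.appLE V V' e).hom e₁ (f.app V).hom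
        (f'.app V').hom (FBCGeom.ring_square w e e₁) θ (le_refl (f ⁻¹ᵁ V))
        (le_refl (f' ⁻¹ᵁ V')) e₁ :=
    (Adjunction.homEquiv_naturality_right_symm _ _ _).symm.trans
      ((congrArg (((Dcoh.DerAdj.adjCx (ModuleCat.extendRestrictScalarsAdj.{u, u, u} _)
        (ComplexShape.up ℕ)).homEquiv _ _).symm) key).trans
          (Adjunction.homEquiv_naturality_left_symm _ _ _))
  have h1 : QuasiIsoAt (phi g (g.appLE V V' e).hom e (RingHom.id Γ(S, V)) (RingHom.id Γ(S', V'))
      (fun _ => rfl) (pushCx w θ) (le_refl V) (le_refl V') e ≫ b.hom) i := by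
    rw [key2]
    have h2 : IsIso (((ModuleCat.extendScalars (g.appLE V V' e).hom).mapHomologicalComplex
          (ComplexShape.up ℕ)).map a.hom) := Functor.map_isIso _ _
    have h3 : QuasiIsoAt (((ModuleCat.extendScalars (g.appLE V V' e).hom).mapHomologicalComplex
          (ComplexShape.up ℕ)).map a.hom) i := quasiIsoAt_of_isIso _ _
    exact (quasiIsoAt_iff_comp_left (hφ := h3) _ _ i).2 hq
  exact (quasiIsoAt_iff_comp_right _ b.hom i).1 h1

end Transfer

end Groth.Agent.CohqA.FBCHom
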