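import Mathlib.CategoryTheory.Abelian.Injective.Resolution
import Groth.Agent.PerfB.FlatPull

/-!
# Lifting a morphism `M ⟶ G N` to a morphism of complexes `J ⟶ G I`

`J` an injective resolution of `M`, `I` an injective resolution of `N`, and `G` an additive functor
which preserves injective objects (no exactness of `G`).
-/

set_option autoImplicit false

open CategoryTheory Limits

namespace Groth.Agent.CohqA.InjLift

universe v v' u u'

section Abstract

variable {C : Type u} [Category.{v} C] [Abelian C]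

/-- The first map of the lift. -/
theorem exists_zero {M : C} (J : InjectiveResolution M) (K₀ : C) (hK : Injective K₀)
    (m : M ⟶ K₀) : ∃ φ₀ : J.cocomplex.X 0 ⟶ K₀, J.ι.f 0 ≫ φ₀ = m := by
  have := hK
  have hm : Mono (J.ι.f 0) := inferInstance
  exact ⟨Injective.factorThru (X := ((CochainComplex.single₀ C).obj M).X 0) m (J.ι.f 0),
    Injective.comp_factorThru (X := ((CochainComplex.single₀ C).obj M).X 0) m (J.ι.f 0)⟩

/-- Lifting a map from `M` to the cycles of a complex of injective objects to a morphism of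
complexes. -/
theorem exists_lift_complex {M : C} (J : InjectiveResolution M) (K : CochainComplex C ℕ)
    (hK : ∀ n, Injective (K.X n)) (m : M ⟶ K.X 0) (hm : m ≫ K.d 0 1 = 0) :
    ∃ θ : J.cocomplex ⟶ K, J.ι.f 0 ≫ θ.f 0 = m := by
  have := hK
  obtain ⟨φ₀, h₀⟩ := exists_zero J (K.X 0) (hK 0) m
  have w₁ : J.ι.f 0 ≫ φ₀ ≫ K.d 0 1 = 0 := by
    rw [← Category.assoc, h₀]
    exact hm
  let φ₁ : J.cocomplex.X 1 ⟶ K.X 1 := J.exact₀.descToInjective (φ₀ ≫ K.d 0 1) w₁
  have h₁ : J.cocomplex.d 0 1 ≫ φ₁ = φ₀ ≫ K.d 0 1 := J.exact₀.comp_descToInjective _ w₁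
  have h₂ : ∀ (n : ℕ) (g : J.cocomplex.X n ⟶ K.X n) (g' : J.cocomplex.X (n + 1) ⟶ K.X (n + 1))
      (_ : g ≫ K.d n (n + 1) = J.cocomplex.d n (n + 1) ≫ g'),
      J.cocomplex.d n (n + 1) ≫ g' ≫ K.d (n + 1) (n + 2) = 0 := by
    intro n g g' w
    rw [← Category.assoc, ← w, Category.assoc, K.d_comp_d, comp_zero]
  refine ⟨CochainComplex.mkHom _ _ φ₀ φ₁ h₁.symm fun n p =>
    ⟨(J.exact_succ n).descToInjective (p.2.1 ≫ K.d (n + 1) (n + 2)) (h₂ n p.1 p.2.1 p.2.2),
      ((J.exact_succ n).comp_descToInjective _ _).symm⟩, ?_⟩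
  rw [CochainComplex.mkHom_f_0]
  exact h₀

variable {D : Type u'} [Category.{v'} D] [Abelian D]

/-- Lifting `a : M ⟶ G N` to a morphism of complexes `J ⟶ G I`. -/
theorem exists_lift (G : D ⥤ C) [G.Additive]
    (hG : ∀ Q : D, Injective Q → Injective (G.obj Q)) {M : C} {N : D} (J : InjectiveResolution M)
    (I : InjectiveResolution N) (a : M ⟶ G.obj N) :
    ∃ θ : J.cocomplex ⟶ (G.mapHomologicalComplex (ComplexShape.up ℕ)).obj I.cocomplex,
      J.ι.f 0 ≫ θ.f 0 = a ≫ G.map (I.ι.f 0) := by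
  have h : I.ι.f 0 ≫ I.cocomplex.d 0 1 = 0 := I.ι_f_zero_comp_complex_d
  have h' : (a ≫ G.map (I.ι.f 0) : M ⟶ G.obj (I.cocomplex.X 0)) ≫
      G.map (I.cocomplex.d 0 1) = 0 := by
    have : G.map (I.ι.f 0) ≫ G.map (I.cocomplex.d 0 1) = 0 := by
      rw [← G.map_comp, h, G.map_zero]
    have e : (a ≫ G.map (I.ι.f 0) : M ⟶ G.obj (I.cocomplex.X 0)) ≫
      G.map (I.cocomplex.d 0 1) = a ≫ (G.map (I.ι.f 0) ≫ G.map (I.cocomplex.d 0 1)) :=
      Category.assoc _ _ _
    rw [e]
    erw [this]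
    exact comp_zero
  exact exists_lift_complex J
    ((G.mapHomologicalComplex (ComplexShape.up ℕ)).obj I.cocomplex)
    (fun n => hG _ (I.injective n)) (a ≫ G.map (I.ι.f 0)) h'

end Abstract

open AlgebraicGeometry

/-- Direct images of injective modules along flat morphisms are injective. -/
theorem injective_pushforward {X Y : Scheme.{u}} (g : X ⟶ Y) [Flat g] (Q : X.Modules)
    (h : Injective Q) : Injective ((Scheme.Modules.pushforward g).obj Q) := by
  have : (Scheme.Modules.pullback g).PreservesMonomorphisms :=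
    ⟨fun φ _ => PerfB.FlatPull.mono_pullback_map g φ⟩
  exact Injective.injective_of_adjoint (Scheme.Modules.pullbackPushforwardAdjunction g) Q

end Groth.Agent.CohqA.InjLift
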