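import Groth.Agent.CohqA.FBCCore
import Groth.Agent.CohqA.InjLift

/-!
# Flat base change for higher direct images

* `isQCoh_homology_push`: `H^i(f_* J)` is quasi-coherent for `J` an injective resolution of a quasi-coherent
  module and `f` quasi-compact quasi-separated.
* `isUniv_eta`: `H^i(f_* J) ⟶ g_* H^i(f'_* I)` identifies the target with the pullback, `g` flat.
-/

set_option autoImplicit false
universe u

open CategoryTheory CategoryTheory.Limits AlgebraicGeometry Opposite TopologicalSpace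

namespace Groth.Agent.CohqA.FBCMain

open Ega1.QCohLoc FBCSec FBCCx FBCRes FBCAbs FBCHom FBCCore PullbackUniv PullbackAffine
  BaseChangeMod

section

variable {S S' : Scheme.{u}} (g : S' ⟶ S) {K : CochainComplex S.Modules ℕ}
  {K' : CochainComplex S'.Modules ℕ}
  (Θ : K ⟶ ((Scheme.Modules.pushforward g).mapHomologicalComplex (ComplexShape.up ℕ)).obj K')
  (i : ℕ)

/-- Base change of homology sheaves on a pair of affine opens. -/
theorem isBC_secMap_eta (hK : Loc K i) (hK' : Loc K' i) {V : S.Opens} (hV : IsAffineOpen V)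
    {V' : S'.Opens} (hV' : IsAffineOpen V') (e : V' ≤ g ⁻¹ᵁ V)
    (hα : (g.appLE V V' e).hom.Flat)
    (hq : QuasiIsoAt (phi g (g.appLE V V' e).hom e (RingHom.id Γ(S, V)) (RingHom.id Γ(S', V'))
      (fun _ => rfl) Θ (le_refl V) (le_refl V') e) i) :
    IsBC (g.appLE V V' e).hom (secMap g (eta i Θ) V V' e).hom := by
  have h1 : IsBC (M := P K i V) (N := P K' i V') (g.appLE V V' e).hom
      (addOf _ (eta i (psi g (g.appLE V V' e).hom e (RingHom.id Γ(S, V)) (RingHom.id Γ(S', V'))
      (fun _ => rfl) Θ (le_refl V) (le_refl V') e))) :=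
    isBC_eta_psi g _ e _ _ _ Θ _ _ _ i hα hq
  refine (PullbackSections.isBC_congr_of_bijective (RingHom.id _) Function.bijective_id
    (RingHom.id _) Function.bijective_id
    (b K i V).toAddMonoidHom (hK.bijective hV) (fun r x => (b K i V).map_smul r x)
    (b K' i V').toAddMonoidHom (hK'.bijective hV') (fun r x => (b K' i V').map_smul r x)
    rfl ?_).1 h1
  ext x
  exact ConcreteCategory.congr_hom (cmpH_secHom g (g.appLE V V' e).hom e (RingHom.id Γ(S, V))
    (RingHom.id Γ(S', V')) (fun _ => rfl) Θ (le_refl V) (le_refl V') e i) x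

end

section

variable {X S X' S' : Scheme.{u}} {f : X ⟶ S} {g : S' ⟶ S} {g' : X' ⟶ X} {f' : X' ⟶ S'}

/-- `f_* J` as a complex. -/
noncomputable abbrev push (f : X ⟶ S) (J : CochainComplex X.Modules ℕ) :
    CochainComplex S.Modules ℕ :=
  ((Scheme.Modules.pushforward f).mapHomologicalComplex (ComplexShape.up ℕ)).obj J

/-- Base change of section complexes of `f_* J`. -/
theorem quasiIsoAt_phi_pushCx (H : IsPullback g' f' f g) [QuasiCompact f] [QuasiSeparated f]
    {M : X.Modules} (hM : Coh.IsQCoh M) {M' : X'.Modules}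
    (a : M ⟶ (Scheme.Modules.pushforward g').obj M') (ha : IsUniv g' a)
    (J : InjectiveResolution M) (I : InjectiveResolution M')
    (θ : J.cocomplex ⟶
      ((Scheme.Modules.pushforward g').mapHomologicalComplex (ComplexShape.up ℕ)).obj I.cocomplex)
    (hθ : aug J ≫ θ.f 0 = a ≫ (Scheme.Modules.pushforward g').map (aug I))
    {V : S.Opens} (hV : IsAffineOpen V) {V' : S'.Opens} (hV' : IsAffineOpen V')
    (e : V' ≤ g ⁻¹ᵁ V) (hα : (g.appLE V V' e).hom.Flat) (i : ℕ) :
    QuasiIsoAt (phi g (g.appLE V V' e).hom e (RingHom.id Γ(S, V)) (RingHom.id Γ(S', V'))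
      (fun _ => rfl) (pushCx H.w θ) (le_refl V) (le_refl V') e) i := by
  refine quasiIsoAt_phi_push H.w θ e (AffineBaseChange.preimage_le H.w V V' e) i ?_
  have := FBCGeom.quasiIso_phi_of_isPullback H hM a ha J I θ hθ hV hV' e
    (AffineBaseChange.preimage_le H.w V V' e) hα
  infer_instance

theorem pushCx_idCx (f : X ⟶ S) (J : CochainComplex X.Modules ℕ) (w : 𝟙 X ≫ f = f ≫ 𝟙 S) :
    pushCx w (idCx J) = idCx (push f J) := by
  ext n U x
  exact res_rfl (J.X n) (U := f ⁻¹ᵁ U) x

/-- `M ⟶ 𝟙_* M` is universal. -/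
theorem isUniv_pushforwardId (M : X.Modules) :
    IsUniv (𝟙 X) ((Scheme.Modules.pushforwardId X).inv.app M) := by
  intro N
  have h : (fun φ : M ⟶ N => (Scheme.Modules.pushforwardId X).inv.app M ≫
      (Scheme.Modules.pushforward (𝟙 X)).map φ) =
      fun φ : M ⟶ N => φ ≫ (Scheme.Modules.pushforwardId X).inv.app N :=
    funext fun φ => ((Scheme.Modules.pushforwardId X).inv.naturality φ).symm
  rw [h]
  constructor
  · intro φ ψ hφ
    exact (cancel_mono ((Scheme.Modules.pushforwardId X).inv.app N)).1 hφ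
  · intro ψ
    refine ⟨ψ ≫ (Scheme.Modules.pushforwardId X).hom.app N, ?_⟩
    change (ψ ≫ (Scheme.Modules.pushforwardId X).hom.app N) ≫
      (Scheme.Modules.pushforwardId X).inv.app N = ψ
    rw [Category.assoc, Iso.hom_inv_id_app]
    exact Category.comp_id _

theorem loc_push (f : X ⟶ S) [QuasiCompact f] [QuasiSeparated f] {M : X.Modules}
    (hM : Coh.IsQCoh M) (J : InjectiveResolution M) (i : ℕ) : Loc (push f J.cocomplex) i := by
  intro U hU r
  have H : IsPullback (𝟙 X) f f (𝟙 S) := IsPullback.of_horiz_isIso ⟨by simp⟩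
  rw [← pushCx_idCx f J.cocomplex H.w]
  refine quasiIsoAt_phi_pushCx H hM ((Scheme.Modules.pushforwardId X).inv.app M) ?_ J J
    (idCx J.cocomplex) ?_ hU (hU.basicOpen r) _ ?_ i
  · exact isUniv_pushforwardId M
  · exact ((Scheme.Modules.pushforwardId X).inv.naturality (aug J))
  · exact (𝟙 S : S ⟶ S).flat_appLE hU (hU.basicOpen r) (S.basicOpen_le r)

theorem isQCoh_homology_push (f : X ⟶ S) [QuasiCompact f] [QuasiSeparated f] {M : X.Modules}
    (hM : Coh.IsQCoh M) (J : InjectiveResolution M) (i : ℕ) :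
    Coh.IsQCoh ((push f J.cocomplex).homology i) :=
  (loc_push f hM J i).isQCoh

theorem isUniv_eta (H : IsPullback g' f' f g) [QuasiCompact f] [QuasiSeparated f] [Flat g]
    {M : X.Modules} (hM : Coh.IsQCoh M) {M' : X'.Modules}
    (a : M ⟶ (Scheme.Modules.pushforward g').obj M') (ha : IsUniv g' a)
    (J : InjectiveResolution M) (I : InjectiveResolution M')
    (θ : J.cocomplex ⟶
      ((Scheme.Modules.pushforward g').mapHomologicalComplex (ComplexShape.up ℕ)).obj I.cocomplex)
    (hθ : aug J ≫ θ.f 0 = a ≫ (Scheme.Modules.pushforward g').map (aug I)) (i : ℕ) :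
    IsUniv g (eta i (pushCx (f := f) (g := g) (f' := f') H.w θ)) := by
  have h1 : QuasiCompact f' := MorphismProperty.of_isPullback H ‹_›
  have h2 : QuasiSeparated f' := MorphismProperty.of_isPullback H ‹_›
  have hM1 := hM
  have hM' : Coh.IsQCoh M' := PullbackQCoh.isQuasicoherent_of_isUniv g' a ha
  have h3 := isQCoh_homology_push f hM J i
  have h4 := isQCoh_homology_push f' hM' I i
  refine PullbackQCoh.isUniv_of_isBC_cover g _ fun y => ?_
  obtain ⟨V, V', hV, hV', hy, e⟩ := PullbackQCoh.exists_affine_pair g y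
  refine ⟨V, V', hV, hV', e, hy, ?_⟩
  exact isBC_secMap_eta g (pushCx H.w θ) i (loc_push f hM J i) (loc_push f' hM' I i) hV hV' e
    (g.flat_appLE hV hV' e)
    (quasiIsoAt_phi_pushCx H hM a ha J I θ hθ hV hV' e (g.flat_appLE hV hV' e) i)

/-- Quasi-coherence of higher direct images. -/
theorem isQCoh_Rpush (f : X ⟶ S) [QuasiCompact f] [QuasiSeparated f]
    [HasInjectiveResolutions X.Modules] (M : X.Modules) (hM : Coh.IsQCoh M) (i : ℕ) :
    Coh.IsQCoh ((Coh.Rpush f i).obj M) := by
  obtain ⟨J⟩ := (HasInjectiveResolutions.out M).out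
  exact isQCoh_of_iso (J.isoRightDerivedObj (Scheme.Modules.pushforward f) i).symm
    (isQCoh_homology_push f hM J i)

/-- Flat base change for higher direct images. -/
theorem nonempty_iso (H : IsPullback g' f' f g) [QuasiCompact f] [QuasiSeparated f] [Flat g]
    [HasInjectiveResolutions X.Modules] [HasInjectiveResolutions X'.Modules]
    (M : X.Modules) (hM : Coh.IsQCoh M) (i : ℕ) :
    Nonempty ((Scheme.Modules.pullback g).obj ((Coh.Rpush f i).obj M) ≅
      (Coh.Rpush f' i).obj ((Scheme.Modules.pullback g').obj M)) := by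
  have hg' : Flat g' := MorphismProperty.of_isPullback H.flip ‹_›
  obtain ⟨J⟩ := (HasInjectiveResolutions.out M).out
  obtain ⟨I⟩ := (HasInjectiveResolutions.out ((Scheme.Modules.pullback g').obj M)).out
  obtain ⟨θ, hθ⟩ := InjLift.exists_lift (Scheme.Modules.pushforward g')
    (fun Q hQ => InjLift.injective_pushforward g' Q hQ) J I (PullbackSections.pbUnit g' M)
  have h1 := isUniv_eta H hM (PullbackSections.pbUnit g' M)
    (PullbackSections.isUniv_pbUnit g' M) J I θ hθ i
  obtain ⟨e, -⟩ := (PullbackSections.isUniv_pbUnit g ((push f J.cocomplex).homology i)).exists_iso h1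
  exact ⟨(Scheme.Modules.pullback g).mapIso
      (J.isoRightDerivedObj (Scheme.Modules.pushforward f) i) ≪≫ e ≪≫
        (I.isoRightDerivedObj (Scheme.Modules.pushforward f') i).symm⟩

end

end Groth.Agent.CohqA.FBCMain
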