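import Groth.Agent.CohqA.FBCCx
import Groth.Agent.Etrest.RAcyc
import Groth.Agent.Ega3B.InjMod
import Groth.Agent.CohtopA.Flasque
import Groth.Agent.CohqA.AffineVanish
import Groth.Agent.CohqB.DevSupport
import Groth.Agent.CohqA.PullbackQCoh

/-!
# Sections of injective resolutions of quasi-coherent modules over affine opens

* `exactAt_secCx`: `Γ(U, J)` is exact in positive degrees for `J` an injective resolution of a
  quasi-coherent module and `U` affine.
-/

set_option autoImplicit false
universe u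

open CategoryTheory CategoryTheory.Limits AlgebraicGeometry Opposite TopologicalSpace

namespace Groth.Agent.CohqA.FBCRes

open Ega1.QCohLoc FBCSquare FBCSec FBCCx

variable {X X' : Scheme.{u}}

theorem flasque_of_injective (I : X.Modules) [Injective I] : Flasque I :=
  fun _ _ h => Ega3B.InjMod.surjective_map_of_injective I (homOfLE h)

/-- No higher cohomology on `U`. -/
def AcycOn (U : X.Opens) (N : X.Modules) : Prop :=
  ∀ n : ℕ, Subsingleton (SheafH.HU (J := Opens.grothendieckTopology X) (Coh.toAb N) (n + 1) U)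

theorem acycOn_of_injective (U : X.Opens) (I : X.Modules) [Injective I] : AcycOn U I := by
  intro n
  have := Ega3B.InjMod.isFlasque_of_injective I
  exact CohtopA.Flasque.subsingleton_HU_succ (X := X.toTopCat) (Coh.toAb I) U n

theorem acycOn_of_isAffineOpen (U : X.Opens) (hU : IsAffineOpen U) (M : X.Modules)
    (hM : Coh.IsQCoh M) : AcycOn U M := by
  intro n
  have := hM
  exact AffineVanish.HU_subsingleton M (n + 1) n.succ_pos U hU

theorem acycOn_step_aux {C : Type u} [Category.{u} C] {J : GrothendieckTopology C}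
    [HasSheafify J AddCommGrpCat.{u}] [HasExt.{u} (Sheaf J AddCommGrpCat.{u})]
    (U : C) (T : ShortComplex (Sheaf J AddCommGrpCat.{u})) (hT : T.ShortExact)
    (hT1 : ∀ n : ℕ, Subsingleton (SheafH.HU T.X₁ (n + 1) U))
    (hT2 : ∀ n : ℕ, Subsingleton (SheafH.HU T.X₂ (n + 1) U)) :
    (∀ n : ℕ, Subsingleton (SheafH.HU T.X₃ (n + 1) U)) ∧
      Function.Surjective (T.g.hom.app (op U)) := by
  constructor
  · intro n
    refine subsingleton_of_forall_eq 0 fun x => ?_
    obtain ⟨y, rfl⟩ := SheafH.exact₃ hT (n + 1) U x (Subsingleton.elim _ _)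
    rw [Subsingleton.elim y 0, map_zero]
  · intro s
    exact SheafH.exists_lift_of_H1_eq_zero hT U s

theorem acycOn_step (U : X.Opens) (S : ShortComplex X.Modules) (hS : S.ShortExact)
    (h2 : Injective S.X₂) (h1 : AcycOn U S.X₁) :
    AcycOn U S.X₃ ∧ Function.Surjective (S.g.app U) :=
  acycOn_step_aux (J := Opens.grothendieckTopology X) U _
    (CohqB.DevSupport.shortExact_map_toAbF hS) h1 (acycOn_of_injective U S.X₂)

section Res

variable {A : Type u} [CommRing A]

/-- `Γ(U, J)` is exact in positive degrees, `J` an injective resolution of a module without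
higher cohomology on `U`. -/
theorem exactAt_secCx_of_acycOn {W : X.Opens} (ρ : A →+* Γ(X, W)) {U : X.Opens} (h : U ≤ W)
    {M : X.Modules} (hM : AcycOn U M) (J : InjectiveResolution M) (n : ℕ) :
    (secCx ρ h J.cocomplex).ExactAt (n + 1) := by
  refine Etrest.RAcyc.exactAt_of_class (sec ρ h) (AcycOn U) ?_ hM J n
  intro S hS h2 h1
  have h3 := acycOn_step U S hS h2 h1
  refine ⟨h3.1, ?_⟩
  rw [ModuleCat.epi_iff_surjective]
  exact h3.2

theorem exactAt_secCx {W : X.Opens} (ρ : A →+* Γ(X, W)) {U : X.Opens} (h : U ≤ W)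
    (hU : IsAffineOpen U) {M : X.Modules} (hM : Coh.IsQCoh M) (J : InjectiveResolution M)
    (n : ℕ) : (secCx ρ h J.cocomplex).ExactAt (n + 1) :=
  exactAt_secCx_of_acycOn ρ h (acycOn_of_isAffineOpen U hU M hM) J n

end Res

section Zero

variable {C : Type*} [Category C] [Abelian C]

/-- Quasi-isomorphism in degree zero, tested on kernels. -/
theorem quasiIsoAt_zero {K L : CochainComplex C ℕ} (f : K ⟶ L) {Z Z' : C}
    (i : Z ⟶ K.X 0) (hi : i ≫ K.d 0 1 = 0) (hZ : IsLimit (KernelFork.ofι i hi))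
    (i' : Z' ⟶ L.X 0) (hi' : i' ≫ L.d 0 1 = 0) (hZ' : IsLimit (KernelFork.ofι i' hi'))
    (z : Z ⟶ Z') [IsIso z] (hz : z ≫ i' = i ≫ f.f 0) : QuasiIsoAt f 0 := by
  let eK : Z ≅ K.cycles 0 :=
    hZ.conePointUniqueUpToIso (K.cyclesIsKernel 0 1 (by simp))
  let eL : Z' ≅ L.cycles 0 :=
    hZ'.conePointUniqueUpToIso (L.cyclesIsKernel 0 1 (by simp))
  have hK : eK.hom ≫ K.iCycles 0 = i :=
    hZ.conePointUniqueUpToIso_hom_comp (K.cyclesIsKernel 0 1 (by simp)) WalkingParallelPair.zero
  have hL : eL.hom ≫ L.iCycles 0 = i' :=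
    hZ'.conePointUniqueUpToIso_hom_comp (L.cyclesIsKernel 0 1 (by simp)) WalkingParallelPair.zero
  have h1 : HomologicalComplex.cyclesMap f 0 = eK.inv ≫ z ≫ eL.hom := by
    rw [← cancel_mono (L.iCycles 0), HomologicalComplex.cyclesMap_i, Category.assoc,
      Category.assoc, hL, hz, ← hK, Category.assoc, Iso.inv_hom_id_assoc]
  have h2 : IsIso (HomologicalComplex.cyclesMap f 0) := by
    rw [h1]; infer_instance
  rw [quasiIsoAt_iff_isIso_homologyMap]
  have h3 := HomologicalComplex.homologyπ_naturality f 0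
  have h4 : HomologicalComplex.homologyMap f 0 =
      inv (K.homologyπ 0) ≫ HomologicalComplex.cyclesMap f 0 ≫ L.homologyπ 0 := by
    rw [← h3, IsIso.inv_hom_id_assoc]
  rw [h4]
  infer_instance

end Zero

section BC

open BaseChangeMod

variable {A B : Type u} [CommRing A] [CommRing B] (α : A →+* B)

/-- The underlying additive map of `f : M ⟶ (restrictScalars α).obj N`. -/
noncomputable def addOf {M : ModuleCat.{u} A} {N : ModuleCat.{u} B}
    (f : M ⟶ (ModuleCat.restrictScalars α).obj N) : M →+ N := f.hom.toAddMonoidHom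

theorem addOf_apply {M : ModuleCat.{u} A} {N : ModuleCat.{u} B}
    (f : M ⟶ (ModuleCat.restrictScalars α).obj N) (x : M) : addOf α f x = f x := rfl

/-- A semilinear map as a morphism. -/
noncomputable def homOf {M : ModuleCat.{u} A} {N : ModuleCat.{u} B} (f : M →+ N)
    (hf : ∀ (r : A) (x : M), f (r • x) = α r • f x) : M ⟶ (ModuleCat.restrictScalars α).obj N :=
  ModuleCat.ofHom (Y := (ModuleCat.restrictScalars α).obj N)
    { toFun := f
      map_add' := map_add f
      map_smul' := hf }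

variable {F : ModuleCat.{u} A ⥤ ModuleCat.{u} B} (adj : F ⊣ ModuleCat.restrictScalars.{u} α)

theorem isBC_unit (M : ModuleCat.{u} A) :
    IsBC (M := M) (N := F.obj M) α (addOf α (M := M) (N := F.obj M) (adj.unit.app M)) := by
  refine ⟨fun r x => ?_, fun Q _ _ g hg => ?_⟩
  · exact (adj.unit.app M).hom.map_smul r x
  · let Q' : ModuleCat.{u} B := ModuleCat.of B Q
    let g' : M ⟶ (ModuleCat.restrictScalars α).obj Q' := homOf α (N := Q') g hg
    let t : F.obj M ⟶ Q' := (adj.homEquiv M Q').symm g'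
    refine ⟨t.hom, fun x => ?_, fun s hs => ?_⟩
    · have h1 : adj.unit.app M ≫ (ModuleCat.restrictScalars α).map t = g' :=
        (Adjunction.homEquiv_unit adj _ _ _).symm.trans (Equiv.apply_symm_apply _ _)
      exact ConcreteCategory.congr_hom h1 x
    · let s' : F.obj M ⟶ Q' := ModuleCat.ofHom (X := F.obj M) s
      have h2 : adj.homEquiv M Q' s' = g' := by
        rw [Adjunction.homEquiv_unit]
        ext x
        exact hs x
      have h3 : s' = t := (Equiv.eq_symm_apply _).2 h2
      exact congrArg ModuleCat.Hom.hom h3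

theorem isIso_extend_iff {M : ModuleCat.{u} A} {N : ModuleCat.{u} B}
    (f : M ⟶ (ModuleCat.restrictScalars α).obj N) :
    IsIso ((adj.homEquiv M N).symm f) ↔ IsBC α (addOf α f) := by
  let t : F.obj M ⟶ N := (adj.homEquiv M N).symm f
  have h1 : adj.unit.app M ≫ (ModuleCat.restrictScalars α).map t = f :=
    (Adjunction.homEquiv_unit adj _ _ _).symm.trans (Equiv.apply_symm_apply _ _)
  have h2 : ∀ x, t (addOf α (M := M) (N := F.obj M) (adj.unit.app M) x) =
      addOf α f x := fun x => ConcreteCategory.congr_hom h1 x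
  constructor
  · intro h
    exact (isBC_unit α adj M).of_equiv (asIso t).toLinearEquiv h2
  · intro h
    have h3 := (isBC_unit α adj M).bijective_of_isBC h t.hom h2
    exact (ConcreteCategory.isIso_iff_bijective t).2 h3

end BC

section Ker

variable {C D : Type*} [Category C] [Category D] [Abelian C] [Abelian D]

/-- The augmentation of an injective resolution, as a morphism out of the object. -/
noncomputable abbrev aug {M : C} (J : InjectiveResolution M) : M ⟶ J.cocomplex.X 0 := J.ι.f 0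

theorem aug_d {M : C} (J : InjectiveResolution M) : aug J ≫ J.cocomplex.d 0 1 = 0 :=
  J.ι_f_zero_comp_complex_d

theorem map_aug_d (R : C ⥤ D) [R.Additive] {M : C} (J : InjectiveResolution M) :
    R.map (aug J) ≫ ((R.mapHomologicalComplex (ComplexShape.up ℕ)).obj J.cocomplex).d 0 1 = 0 :=
  (R.map_comp _ _).symm.trans ((congrArg R.map (aug_d J)).trans (R.map_zero _ _))

/-- The augmentation stays a kernel after a left exact functor. -/
noncomputable def isLimitMapAug (R : C ⥤ D) [R.Additive] [PreservesFiniteLimits R] {M : C}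
    (J : InjectiveResolution M) : IsLimit (KernelFork.ofι (R.map (aug J)) (map_aug_d R J)) := by
  have h : (ShortComplex.mk (aug J) (J.cocomplex.d 0 1) (aug_d J)).Exact := J.exact₀
  have : Mono (ShortComplex.mk (aug J) (J.cocomplex.d 0 1) (aug_d J)).f :=
    inferInstanceAs (Mono (J.ι.f 0))
  exact KernelFork.mapIsLimit _ h.fIsKernel R

end Ker

section Affine

open BaseChangeMod

variable {A B : Type u} [CommRing A] [CommRing B]

theorem adjCx_homEquiv_symm_f {C D : Type*} [Category C] [Category D] [Preadditive C]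
    [Preadditive D] {F : C ⥤ D} {G : D ⥤ C} [F.Additive] [G.Additive] (adj : F ⊣ G)
    (K : CochainComplex C ℕ) (L : CochainComplex D ℕ)
    (ψ : K ⟶ (G.mapHomologicalComplex (ComplexShape.up ℕ)).obj L) (i : ℕ) :
    (((Dcoh.DerAdj.adjCx adj (ComplexShape.up ℕ)).homEquiv K L).symm ψ).f i =
      (adj.homEquiv (K.X i) (L.X i)).symm (ψ.f i) := by
  rw [Adjunction.homEquiv_counit, Adjunction.homEquiv_counit]
  rfl

/-- The map on sections induced by `a : M ⟶ g_* M'`, as a morphism of modules. -/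
noncomputable def secHom (g : X' ⟶ X) (α : A →+* B) {W : X.Opens} {W' : X'.Opens}
    (e : W' ≤ g ⁻¹ᵁ W) (ρ : A →+* Γ(X, W)) (ρ' : B →+* Γ(X', W'))
    (hρ : ∀ a, ρ' (α a) = g.appLE W W' e (ρ a)) {M : X.Modules} {M' : X'.Modules}
    (a : M ⟶ (Scheme.Modules.pushforward g).obj M')
    {U : X.Opens} (h : U ≤ W) {U' : X'.Opens} (h' : U' ≤ W') (e' : U' ≤ g ⁻¹ᵁ U) :
    (sec ρ h).obj M ⟶ (ModuleCat.restrictScalars α).obj ((sec ρ' h').obj M') :=
  (sec ρ h).map a ≫ (pushRes g α e ρ ρ' hρ h h' e').app M'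

theorem secHom_apply (g : X' ⟶ X) (α : A →+* B) {W : X.Opens} {W' : X'.Opens}
    (e : W' ≤ g ⁻¹ᵁ W) (ρ : A →+* Γ(X, W)) (ρ' : B →+* Γ(X', W'))
    (hρ : ∀ a, ρ' (α a) = g.appLE W W' e (ρ a)) {M : X.Modules} {M' : X'.Modules}
    (a : M ⟶ (Scheme.Modules.pushforward g).obj M')
    {U : X.Opens} (h : U ≤ W) {U' : X'.Opens} (h' : U' ≤ W') (e' : U' ≤ g ⁻¹ᵁ U)
    (x : Γ(M, U)) :
    secHom g α e ρ ρ' hρ a h h' e' x = PullbackAffine.secMap g a U U' e' x := rfl

/-- The affine case: `B ⊗ Γ(U, J) ⟶ Γ(U', I)` is a quasi-isomorphism as soon as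
`B ⊗ Γ(U, M) ⟶ Γ(U', M')` is an isomorphism, `J`, `I` being injective resolutions of `M`, `M'`. -/
theorem quasiIso_phi_affine (g : X' ⟶ X) (α : A →+* B) (hα : α.Flat) {W : X.Opens} {W' : X'.Opens}
    (e : W' ≤ g ⁻¹ᵁ W) (ρ : A →+* Γ(X, W)) (ρ' : B →+* Γ(X', W'))
    (hρ : ∀ a, ρ' (α a) = g.appLE W W' e (ρ a)) {M : X.Modules} {M' : X'.Modules}
    (J : InjectiveResolution M) (I : InjectiveResolution M')
    (a : M ⟶ (Scheme.Modules.pushforward g).obj M')
    (θ : J.cocomplex ⟶
      ((Scheme.Modules.pushforward g).mapHomologicalComplex (ComplexShape.up ℕ)).obj I.cocomplex)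
    (hθ : aug J ≫ θ.f 0 = a ≫ (Scheme.Modules.pushforward g).map (aug I))
    {U : X.Opens} (h : U ≤ W) {U' : X'.Opens} (h' : U' ≤ W') (e' : U' ≤ g ⁻¹ᵁ U)
    (hM : AcycOn U M) (hM' : AcycOn U' M')
    (hbc : IsBC (M := (sec ρ h).obj M) (N := (sec ρ' h').obj M') α
      (addOf α (secHom g α e ρ ρ' hρ a h h' e'))) :
    QuasiIso (phi g α e ρ ρ' hρ θ h h' e') := by
  have h1 := ModuleCat.preservesFiniteLimits_extendScalars_of_flat hα
  have h2 : PreservesFiniteColimits (ModuleCat.extendScalars.{u, u, u} α) :=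
    have := (ModuleCat.extendRestrictScalarsAdj.{u, u, u} α).leftAdjoint_preservesColimits
    inferInstance
  rw [quasiIso_iff]
  intro n
  cases n with
  | zero =>
    have h3 : PreservesFiniteLimits (sec ρ h ⋙ ModuleCat.extendScalars.{u, u, u} α) :=
      comp_preservesFiniteLimits _ _
    have h4 : IsIso (((ModuleCat.extendRestrictScalarsAdj.{u, u, u} α).homEquiv _ _).symm
      (secHom g α e ρ ρ' hρ a h h' e')) := (isIso_extend_iff α _ _).2 hbc
    refine quasiIsoAt_zero _ _ _
      (isLimitMapAug (sec ρ h ⋙ ModuleCat.extendScalars.{u, u, u} α) J) _ _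
      (isLimitMapAug (sec ρ' h') I)
      (((ModuleCat.extendRestrictScalarsAdj.{u, u, u} α).homEquiv _ _).symm
        (secHom g α e ρ ρ' hρ a h h' e')) ?_
    have h5 : (phi g α e ρ ρ' hρ θ h h' e').f 0 =
        ((ModuleCat.extendRestrictScalarsAdj.{u, u, u} α).homEquiv _ _).symm
          ((psi g α e ρ ρ' hρ θ h h' e').f 0) := adjCx_homEquiv_symm_f _ _ _ _ _
    have h6 : secHom g α e ρ ρ' hρ a h h' e' ≫
        (ModuleCat.restrictScalars α).map ((sec ρ' h').map (aug I)) =
        (sec ρ h).map (aug J) ≫ (psi g α e ρ ρ' hρ θ h h' e').f 0 := by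
      have h7 := (pushRes g α e ρ ρ' hρ h h' e').naturality (aug I)
      have h8 : (sec ρ h).map (aug J) ≫ (sec ρ h).map (θ.f 0) = (sec ρ h).map a ≫
          (sec ρ h).map ((Scheme.Modules.pushforward g).map (aug I)) :=
        ((sec ρ h).map_comp _ _).symm.trans
          ((congr_arg (sec ρ h).map hθ).trans ((sec ρ h).map_comp _ _))
      refine (Category.assoc _ _ _).trans ?_
      refine (congrArg (fun t => (sec ρ h).map a ≫ t) h7.symm).trans ?_
      refine (Category.assoc _ _ _).symm.trans ?_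
      refine (congrArg (fun t => t ≫ (pushRes g α e ρ ρ' hρ h h' e').app _) h8.symm).trans ?_
      exact Category.assoc _ _ _
    rw [h5]
    exact (Adjunction.homEquiv_naturality_right_symm _ _ _).symm.trans
      ((congrArg ((ModuleCat.extendRestrictScalarsAdj.{u, u, u} α).homEquiv _ _).symm h6).trans
        (Adjunction.homEquiv_naturality_left_symm _ _ _))
  | succ n =>
    rw [quasiIsoAt_iff_exactAt]
    · exact exactAt_secCx_of_acycOn ρ' h' hM' I n
    · exact (exactAt_secCx_of_acycOn ρ h hM J n).map (ModuleCat.extendScalars.{u, u, u} α)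

end Affine

end Groth.Agent.CohqA.FBCRes
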