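import Groth.Agent.CohqA.FBCSquare
import Groth.Agent.Ega1.QCohLoc
import Groth.Agent.Dcoh.DerAdj
import Mathlib.Algebra.Category.ModuleCat.ChangeOfRings
import Mathlib.Topology.Sheaves.SheafCondition.PairwiseIntersections

/-!
# Sections of `O_X`-modules as modules over a base ring, functorially

* `sec ρ h : X.Modules ⥤ ModuleCat A` for `ρ : A →+* Γ(X, W)`, `h : U ≤ W`: sections over `U`.
* `secRes`: restriction maps.
* `mvSq_sec`: for a flasque module, sections on `U ⊔ V`, `U`, `V`, `U ⊓ V` form a Mayer-Vietoris square.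
* `pushRes`: sections of `g_* N` over `U` to sections of `N` over `U' ≤ g⁻¹ U`, semilinear.
-/

set_option autoImplicit false
universe u

open CategoryTheory CategoryTheory.Limits AlgebraicGeometry Opposite TopologicalSpace

namespace Groth.Agent.CohqA.FBCSec

open Ega1.QCohLoc FBCSquare

variable {X X' : Scheme.{u}} {A B : Type u} [CommRing A] [CommRing B]

/-- Sections over `U ≤ W`, as an `A`-module, where `ρ : A →+* Γ(X, W)`. -/
noncomputable def sec {W : X.Opens} (ρ : A →+* Γ(X, W)) {U : X.Opens} (h : U ≤ W) :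
    X.Modules ⥤ ModuleCat.{u} A :=
  Scheme.Modules.toPresheafOfModules X ⋙ PresheafOfModules.evaluation X.ringCatSheaf.obj (op U) ⋙
    ModuleCat.restrictScalars ((resO h).comp ρ)

section

variable {W : X.Opens} (ρ : A →+* Γ(X, W)) {U V : X.Opens} (h : U ≤ W)

theorem sec_smul (M : X.Modules) (a : A)
    (x : (sec ρ h).obj M) : a • x = (resO h (ρ a) • (show Γ(M, U) from x) : Γ(M, U)) := rfl

theorem sec_map_apply {M N : X.Modules} (φ : M ⟶ N)
    (x : (sec ρ h).obj M) : (sec ρ h).map φ x = φ.app U (show Γ(M, U) from x) := rfl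

instance : PreservesFiniteLimits (Scheme.Modules.toPresheafOfModules X) :=
  inferInstanceAs (PreservesFiniteLimits (SheafOfModules.forget.{u} X.ringCatSheaf))

instance : (Scheme.Modules.toPresheafOfModules X).Additive where
  map_add := rfl

instance preservesFiniteLimits_restrictScalars {R S : Type u} [Ring R] [Ring S] (f : R →+* S) :
    PreservesFiniteLimits (ModuleCat.restrictScalars.{u} f) where
  preservesFiniteLimits _ _ _ := ⟨fun {_} => inferInstance⟩

instance preservesFiniteLimits_sec : PreservesFiniteLimits (sec ρ h) := by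
  have h1 : PreservesFiniteLimits (PresheafOfModules.evaluation X.ringCatSheaf.obj (op U) ⋙
    ModuleCat.restrictScalars ((resO h).comp ρ)) := comp_preservesFiniteLimits _ _
  exact comp_preservesFiniteLimits _ _

instance additive_sec : (sec ρ h).Additive where
  map_add {M N φ ψ} := by
    ext x
    rfl

/-- Restriction of sections. -/
noncomputable def secRes (hVU : V ≤ U) : sec ρ h ⟶ sec ρ (hVU.trans h) where
  app M := ModuleCat.ofHom (X := (sec ρ h).obj M) (Y := (sec ρ (hVU.trans h)).obj M)
    { toFun := fun x => res M hVU x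
      map_add' := map_add _
      map_smul' := fun a x => by
        refine (res_smul M hVU (resO h (ρ a)) x).trans ?_
        rw [resO_resO]
        rfl }
  naturality M N φ := by
    ext x
    exact (res_app φ hVU x).symm

theorem secRes_apply (hVU : V ≤ U) (M : X.Modules) (x : Γ(M, U)) :
    (secRes ρ h hVU).app M x = res M hVU x := rfl

theorem secRes_comp {T : X.Opens} (hVU : V ≤ U) (hTV : T ≤ V) :
    secRes ρ h hVU ≫ secRes ρ (hVU.trans h) hTV = secRes ρ h (hTV.trans hVU) := by
  ext M x
  exact res_res M hVU hTV x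

end

section MV

variable {W : X.Opens} (ρ : A →+* Γ(X, W)) {U V : X.Opens} (hU : U ≤ W) (hV : V ≤ W)

/-- A module all of whose restriction maps are surjective. -/
def Flasque (M : X.Modules) : Prop :=
  ∀ (U V : X.Opens) (h : V ≤ U), Function.Surjective (res M h)

theorem isPullback_presheaf (M : X.Modules) (U V : X.Opens) :
    IsPullback (M.presheaf.map (homOfLE (le_sup_left : U ≤ U ⊔ V)).op)
      (M.presheaf.map (homOfLE (le_sup_right : V ≤ U ⊔ V)).op)
      (M.presheaf.map (homOfLE (inf_le_left : U ⊓ V ≤ U)).op)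
      (M.presheaf.map (homOfLE (inf_le_right : U ⊓ V ≤ V)).op) where
  w := by
    rw [← Functor.map_comp, ← Functor.map_comp]
    rfl
  isLimit' := ⟨TopCat.Sheaf.isLimitPullbackCone (X := X.toTopCat) ⟨M.presheaf, M.isSheaf⟩ U V⟩

theorem mvSq_sec (M : X.Modules) (hM : Flasque M) :
    MVSq ((secRes ρ (sup_le hU hV) (le_sup_left : U ≤ U ⊔ V)).app M)
      ((secRes ρ (sup_le hU hV) (le_sup_right : V ≤ U ⊔ V)).app M)
      ((secRes ρ hU (inf_le_left : U ⊓ V ≤ U)).app M)
      ((secRes ρ hV (inf_le_right : U ⊓ V ≤ V)).app M) where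
  isPullback := by
    have h1 := isPullback_presheaf M U V
    exact IsPullback.of_map (forget₂ (ModuleCat.{u} A) AddCommGrpCat.{u}) (by
      ext x
      exact (res_res M _ _ x).trans (res_res M _ _ x).symm) h1
  epi := by
    rw [ModuleCat.epi_iff_surjective]
    exact hM _ _ _

end MV

section Push

variable (g : X' ⟶ X) (α : A →+* B) {W : X.Opens} {W' : X'.Opens} (e : W' ≤ g ⁻¹ᵁ W)
  (ρ : A →+* Γ(X, W)) (ρ' : B →+* Γ(X', W'))
  (hρ : ∀ a, ρ' (α a) = g.appLE W W' e (ρ a))

theorem ring_compat {U : X.Opens} (h : U ≤ W) {U' : X'.Opens} (h' : U' ≤ W')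
    (e' : U' ≤ g ⁻¹ᵁ U) (r : Γ(X, W)) :
    resO e' (g.app U (resO h r)) = resO h' (g.appLE W W' e r) := by
  have h1 : resO e' (g.app U (resO h r)) =
      g.appLE W U' (e'.trans (Scheme.Hom.preimage_mono g h)) r := by
    have := g.map_appLE e' (homOfLE h).op
    exact congr($this r)
  have h2 : resO h' (g.appLE W W' e r) =
      g.appLE W U' (h'.trans e) r := by
    have := g.appLE_map e (homOfLE h').op
    exact congr($this r)
  rw [h1, h2]

include hρ in
/-- Sections of `g_* N` over `U` to sections of `N` over `U'`. -/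
noncomputable def pushRes {U : X.Opens} (h : U ≤ W) {U' : X'.Opens} (h' : U' ≤ W')
    (e' : U' ≤ g ⁻¹ᵁ U) :
    Scheme.Modules.pushforward g ⋙ sec ρ h ⟶ sec ρ' h' ⋙ ModuleCat.restrictScalars α where
  app N := ModuleCat.ofHom (X := (Scheme.Modules.pushforward g ⋙ sec ρ h).obj N)
    (Y := (sec ρ' h' ⋙ ModuleCat.restrictScalars α).obj N)
    { toFun := fun (x : Γ(N, g ⁻¹ᵁ U)) => (res N e' x : Γ(N, U'))
      map_add' := fun x y => map_add (res N e') x y
      map_smul' := fun a (x : Γ(N, g ⁻¹ᵁ U)) => by
        change res N e' (g.app U (resO h (ρ a)) • x) = resO h' (ρ' (α a)) • res N e' x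
        rw [res_smul, hρ, ring_compat g e h h' e'] }
  naturality M N φ := by
    ext x
    exact (res_app φ e' x).symm

end Push

end Groth.Agent.CohqA.FBCSec
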