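import Groth.Agent.CohqA.FBCFive
import Mathlib.Algebra.Homology.CommSq
import Mathlib.Algebra.Homology.HomologicalComplexAbelian
import Mathlib.Algebra.Homology.QuasiIso

/-!
# Mayer-Vietoris squares of complexes and quasi-isomorphisms

`MVSq a b c d`: a square which is a pullback, with `c` an epimorphism.
`quasiIso_of_mvSq`: a morphism of `MVSq` squares of complexes which is a quasi-isomorphism on the
last three vertices is a quasi-isomorphism on the first.
-/

universe v u w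

open CategoryTheory Limits HomologicalComplex

namespace Groth.Agent.CohqA.FBCSquare

section

variable {C : Type*} [Category C]

/-- A Mayer-Vietoris square: a pullback square whose right vertical map is an epimorphism. -/
structure MVSq {X₁ X₂ X₃ X₄ : C} (a : X₁ ⟶ X₂) (b : X₁ ⟶ X₃) (c : X₂ ⟶ X₄) (d : X₃ ⟶ X₄) :
    Prop where
  isPullback : IsPullback a b c d
  epi : Epi c

theorem MVSq.map {D : Type*} [Category D] (F : C ⥤ D)
    [F.PreservesEpimorphisms] {X₁ X₂ X₃ X₄ : C} {a : X₁ ⟶ X₂} {b : X₁ ⟶ X₃} {c : X₂ ⟶ X₄}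
    {d : X₃ ⟶ X₄} [PreservesLimit (cospan c d) F] (h : MVSq a b c d) :
    MVSq (F.map a) (F.map b) (F.map c) (F.map d) where
  isPullback := h.isPullback.map F
  epi := by
    have := h.epi
    infer_instance

theorem MVSq.shortExact [Abelian C] {X₁ X₂ X₃ X₄ : C} {a : X₁ ⟶ X₂} {b : X₁ ⟶ X₃} {c : X₂ ⟶ X₄}
    {d : X₃ ⟶ X₄} (h : MVSq a b c d) : h.isPullback.toCommSq.shortComplex'.ShortExact where
  exact := ShortComplex.exact_of_f_is_kernel _ h.isPullback.isLimitKernelFork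
  mono_f := h.isPullback.mono_shortComplex'_f
  epi_g := by
    have := h.epi
    have h1 : Epi (biprod.inl ≫ biprod.desc c (-d)) := by
      rw [biprod.inl_desc]
      exact h.epi
    exact epi_of_epi (biprod.inl) (biprod.desc c (-d))

end

theorem isIso_map_biprod_map {C D : Type*} [Category C] [Category D] [Preadditive C] [Preadditive D]
    [HasBinaryBiproducts C] [HasBinaryBiproducts D] (F : C ⥤ D) [F.Additive]
    {K₁ K₂ L₁ L₂ : C} (f : K₁ ⟶ L₁) (g : K₂ ⟶ L₂) (hf : IsIso (F.map f)) (hg : IsIso (F.map g)) :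
    IsIso (F.map (biprod.map f g)) := by
  refine ⟨F.map biprod.fst ≫ inv (F.map f) ≫ F.map biprod.inl +
    F.map biprod.snd ≫ inv (F.map g) ≫ F.map biprod.inr, ?_, ?_⟩
  · rw [Preadditive.comp_add, ← F.map_comp_assoc, ← F.map_comp_assoc, biprod.map_fst,
      biprod.map_snd, F.map_comp, F.map_comp, Category.assoc, Category.assoc,
      IsIso.hom_inv_id_assoc, IsIso.hom_inv_id_assoc, ← F.map_comp, ← F.map_comp, ← F.map_add,
      biprod.total, F.map_id]
  · rw [Preadditive.add_comp, Category.assoc, Category.assoc, Category.assoc, Category.assoc,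
      ← F.map_comp, ← F.map_comp, biprod.inl_map, biprod.inr_map, F.map_comp, F.map_comp,
      IsIso.inv_hom_id_assoc, IsIso.inv_hom_id_assoc, ← F.map_comp, ← F.map_comp, ← F.map_add,
      biprod.total, F.map_id]

section

variable {C ι : Type*} [Category C] [Abelian C] {c : ComplexShape ι}

/-- `MVSq` for complexes can be checked degreewise. -/
theorem MVSq.of_degreewise {K₁ K₂ K₃ K₄ : HomologicalComplex C c} {f : K₁ ⟶ K₂} {g : K₁ ⟶ K₃}
    {h : K₂ ⟶ K₄} {k : K₃ ⟶ K₄} (H : ∀ i, MVSq (f.f i) (g.f i) (h.f i) (k.f i)) :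
    MVSq f g h k where
  isPullback := by
    refine ⟨⟨?_⟩, ⟨?_⟩⟩
    · ext i
      exact (H i).isPullback.w
    · refine isLimitOfEval _ _ (fun i => ?_)
      exact (isLimitMapConePullbackConeEquiv (eval C c i) _).symm (H i).isPullback.isLimit
  epi := by
    have := fun i => (H i).epi
    exact HomologicalComplex.epi_of_epi_f h this

instance quasiIso_biprod_map {K₁ K₂ L₁ L₂ : HomologicalComplex C c} (f : K₁ ⟶ L₁) (g : K₂ ⟶ L₂)
    [QuasiIso f] [QuasiIso g] : QuasiIso (biprod.map f g) := by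
  rw [quasiIso_iff]
  intro i
  rw [quasiIsoAt_iff_isIso_homologyMap]
  exact isIso_map_biprod_map (homologyFunctor C c i) f g
    (inferInstanceAs (IsIso (homologyMap f i))) (inferInstanceAs (IsIso (homologyMap g i)))

/-- A morphism of Mayer-Vietoris squares of complexes which is a quasi-isomorphism on three
vertices is a quasi-isomorphism on the remaining one. -/
theorem quasiIso_of_mvSq {K₁ K₂ K₃ K₄ : HomologicalComplex C c} {f : K₁ ⟶ K₂} {g : K₁ ⟶ K₃}
    {h : K₂ ⟶ K₄} {k : K₃ ⟶ K₄} (H : MVSq f g h k)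
    {L₁ L₂ L₃ L₄ : HomologicalComplex C c} {f' : L₁ ⟶ L₂} {g' : L₁ ⟶ L₃}
    {h' : L₂ ⟶ L₄} {k' : L₃ ⟶ L₄} (H' : MVSq f' g' h' k')
    (φ₁ : K₁ ⟶ L₁) (φ₂ : K₂ ⟶ L₂) (φ₃ : K₃ ⟶ L₃) (φ₄ : K₄ ⟶ L₄)
    (w₁ : f ≫ φ₂ = φ₁ ≫ f') (w₂ : g ≫ φ₃ = φ₁ ≫ g') (w₃ : h ≫ φ₄ = φ₂ ≫ h')
    (w₄ : k ≫ φ₄ = φ₃ ≫ k') (h₂ : QuasiIso φ₂) (h₃ : QuasiIso φ₃) (h₄ : QuasiIso φ₄) :
    QuasiIso φ₁ := by
  have e₁ : φ₁ ≫ biprod.lift f' g' = biprod.lift f g ≫ biprod.map φ₂ φ₃ := by
    apply biprod.hom_ext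
    · simp [w₁]
    · simp [w₂]
  have e₂ : biprod.map φ₂ φ₃ ≫ biprod.desc h' (-k') = biprod.desc h (-k) ≫ φ₄ := by
    apply biprod.hom_ext'
    · simp [w₃]
    · simp [w₄]
  let φ : H.isPullback.toCommSq.shortComplex' ⟶ H'.isPullback.toCommSq.shortComplex' :=
    { τ₁ := φ₁
      τ₂ := biprod.map φ₂ φ₃
      τ₃ := φ₄
      comm₁₂ := e₁
      comm₂₃ := e₂ }
  exact FBCFive.quasiIso_τ₁ φ H.shortExact H'.shortExact (quasiIso_biprod_map φ₂ φ₃) h₄

end

end Groth.Agent.CohqA.FBCSquare
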