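import Mathlib.Topology.Sheaves.AddCommGrpCat
import Mathlib.Topology.Category.TopCat.Opens
import Mathlib.CategoryTheory.Abelian.GrothendieckCategory.HasExt
import Mathlib.CategoryTheory.Abelian.GrothendieckCategory.EnoughInjectives
import Mathlib.CategoryTheory.Abelian.GrothendieckAxioms.Sheaf
import Mathlib.CategoryTheory.Sites.LeftExact
import Mathlib.CategoryTheory.Sites.Abelian
import Mathlib.Algebra.Category.Grp.AB
import Mathlib.Algebra.Category.Grp.FilteredColimits

/-!
# Short-circuit instances for abelian sheaves

Mathlib finds `HasSheafify J AddCommGrpCat` with an enormous instance term, which then appears in the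
type of every `Ext`-group of abelian sheaves; each declaration mentioning it costs the kernel 1-2 s.
`open scoped Groth.Agent.CohqA.FastInst` makes instance search use the short constants below
instead (they are propositions, so all instances agree definitionally by proof irrelevance):
type checking time drops by a factor of 100 or more.
-/

universe u

open CategoryTheory TopologicalSpace

namespace Groth.Agent.CohqA.FastInst

/-- sheafification of presheaves of abelian groups on a small site -/
theorem hasSheafifyAb {C : Type u} [SmallCategory C] (J : GrothendieckTopology C) :
    HasSheafify J AddCommGrpCat.{u} := inferInstance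

/-- sheafification of presheaves of abelian groups on a small site -/
theorem hasWeakSheafifyAb {C : Type u} [SmallCategory C] (J : GrothendieckTopology C) :
    HasWeakSheafify J AddCommGrpCat.{u} := inferInstance

scoped[Groth.Agent.CohqA.FastInst] attribute [instance 100000]
  Groth.Agent.CohqA.FastInst.hasSheafifyAb Groth.Agent.CohqA.FastInst.hasWeakSheafifyAb

/-- abelian sheaves form a Grothendieck abelian category -/
theorem isGrothendieckAb {C : Type u} [SmallCategory C] (J : GrothendieckTopology C) :
    IsGrothendieckAbelian.{u} (Sheaf J AddCommGrpCat.{u}) :=
  Sheaf.isGrothendieckAbelian_of_essentiallySmall _ _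

scoped[Groth.Agent.CohqA.FastInst] attribute [instance 100000]
  Groth.Agent.CohqA.FastInst.isGrothendieckAb

/-- `Ext` of abelian sheaves exists -/
theorem hasExtAb {C : Type u} [SmallCategory C] (J : GrothendieckTopology C) :
    HasExt.{u} (Sheaf J AddCommGrpCat.{u}) := inferInstance

/-- enough injective abelian sheaves -/
theorem enoughInjectivesAb {C : Type u} [SmallCategory C] (J : GrothendieckTopology C) :
    EnoughInjectives (Sheaf J AddCommGrpCat.{u}) := inferInstance

scoped[Groth.Agent.CohqA.FastInst] attribute [instance 100000]
  Groth.Agent.CohqA.FastInst.hasExtAb Groth.Agent.CohqA.FastInst.enoughInjectivesAb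

end Groth.Agent.CohqA.FastInst
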