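import Groth.Agent.Ega3A.FlatSES
import Mathlib.RingTheory.LocalRing.Module
import Mathlib.RingTheory.Ideal.Quotient.Operations
import Mathlib.RingTheory.Flat.Basic

/-!
# Bounded complexes of flat modules (elementwise)

`ExAt d n`: exactness in degree `n` of a (nonnegatively graded, elementwise) complex
`d n : X n → X (n+1)`.

* `good_of_exact`: if `C` is bounded, `C n` is flat for `n ≥ 1` and `C` is exact in all degrees
  `> m`, then for `n ≥ m` the module of cycles `Z n` satisfies `Z n ⊗ Q = Z n (C ⊗ Q)`, and is flat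
  (if `C n` is).
* `exAt_rTensor`: under the same hypothesis `C ⊗ Q` is exact in degrees `> m`.
* `surjective_rTensor`, `subsingleton_rTensor`: `H^m(C ⊗ Q) = 0 → H^m(C) ⊗ Q = 0`.
-/

set_option autoImplicit false

universe u v w

namespace Groth.Agent.CohqA.FlatCpx

open TensorProduct LinearMap

/-- exactness in degree `n` -/
def ExAt {X : ℕ → Type*} [∀ n, Zero (X n)] (d : ∀ n, X n → X (n + 1)) : ℕ → Prop
  | 0 => ∀ x, d 0 x = 0 → x = 0
  | n + 1 => ∀ x, d (n + 1) x = 0 → ∃ y, d n y = x

/-- transport of exactness along an isomorphism of complexes -/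
theorem ExAt.of_equiv {X Y : ℕ → Type*} [∀ n, AddCommGroup (X n)] [∀ n, AddCommGroup (Y n)]
    {d : ∀ n, X n → X (n + 1)} {d' : ∀ n, Y n → Y (n + 1)} (e : ∀ n, X n ≃+ Y n)
    (he : ∀ n x, e (n + 1) (d n x) = d' n (e n x)) {n : ℕ} (h : ExAt d n) : ExAt d' n := by
  cases n with
  | zero =>
    intro x hx
    obtain ⟨x, rfl⟩ := (e 0).surjective x
    rw [← he] at hx
    rw [h x ((e 1).injective (by rw [hx, map_zero])), map_zero]
  | succ n =>
    intro x hx
    obtain ⟨x, rfl⟩ := (e (n + 1)).surjective x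
    rw [← he] at hx
    obtain ⟨y, hy⟩ := h x ((e (n + 2)).injective (by rw [hx, map_zero]))
    exact ⟨e n y, by rw [← he, hy]⟩

theorem ExAt.iff_of_equiv {X Y : ℕ → Type*} [∀ n, AddCommGroup (X n)] [∀ n, AddCommGroup (Y n)]
    {d : ∀ n, X n → X (n + 1)} {d' : ∀ n, Y n → Y (n + 1)} (e : ∀ n, X n ≃+ Y n)
    (he : ∀ n x, e (n + 1) (d n x) = d' n (e n x)) {n : ℕ} : ExAt d n ↔ ExAt d' n :=
  ⟨fun h => h.of_equiv e he, fun h => h.of_equiv (fun n => (e n).symm) fun n x => by
    apply (e (n + 1)).injective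
    rw [AddEquiv.apply_symm_apply, he, AddEquiv.apply_symm_apply]⟩

theorem ExAt.of_subsingleton {X : ℕ → Type*} [∀ n, Zero (X n)] {d : ∀ n, X n → X (n + 1)} {n : ℕ}
    (h : Subsingleton (X n)) : ExAt d n := by
  cases n with
  | zero => intro x _; exact Subsingleton.elim _ _
  | succ n => intro x _; exact ⟨0, Subsingleton.elim _ _⟩

section Flat

variable {R : Type u} [CommRing R] {C : ℕ → Type v} [∀ n, AddCommGroup (C n)]
  [∀ n, Module R (C n)] (d : ∀ n, C n →ₗ[R] C (n + 1))

/-- the map onto cycles -/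
def toCyc (hdd : ∀ n x, d (n + 1) (d n x) = 0) (n : ℕ) : C n →ₗ[R] ker (d (n + 1)) :=
  (d n).codRestrict _ (fun x => LinearMap.mem_ker.2 (hdd n x))

theorem subtype_comp_toCyc (hdd : ∀ n x, d (n + 1) (d n x) = 0) (n : ℕ) :
    (ker (d (n + 1))).subtype ∘ₗ toCyc d hdd n = d n := rfl

theorem rTensor_subtype_toCyc (hdd : ∀ n x, d (n + 1) (d n x) = 0) (n : ℕ) (Q : Type w)
    [AddCommGroup Q] [Module R Q] (x : C n ⊗[R] Q) :
    (ker (d (n + 1))).subtype.rTensor Q ((toCyc d hdd n).rTensor Q x) = (d n).rTensor Q x := by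
  rw [← LinearMap.comp_apply, ← LinearMap.rTensor_comp, subtype_comp_toCyc]

theorem exact_toCyc (hdd : ∀ n x, d (n + 1) (d n x) = 0) (n : ℕ) :
    Function.Exact (ker (d n)).subtype (toCyc d hdd n) := by
  intro x
  rw [Submodule.coe_subtype, Subtype.range_coe]
  exact Subtype.ext_iff

theorem surjective_toCyc (hdd : ∀ n x, d (n + 1) (d n x) = 0) {n : ℕ}
    (h : ExAt (fun n => (d n : C n → C (n + 1))) (n + 1)) : Function.Surjective (toCyc d hdd n) := by
  rintro ⟨x, hx⟩
  obtain ⟨y, hy⟩ := h x hx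
  exact ⟨y, Subtype.ext hy⟩

/-- Cycles commute with tensor products. -/
structure Good (n : ℕ) : Prop where
  flat : Module.Flat R (C n) → Module.Flat R (ker (d n))
  inj : ∀ (Q : Type w) [AddCommGroup Q] [Module R Q],
    Function.Injective ((ker (d n)).subtype.rTensor Q)
  exact : ∀ (Q : Type w) [AddCommGroup Q] [Module R Q] (x : C n ⊗[R] Q),
    (d n).rTensor Q x = 0 → x ∈ range ((ker (d n)).subtype.rTensor Q)

variable {d}

theorem Good.step (hdd : ∀ n x, d (n + 1) (d n x) = 0) {n : ℕ}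
    (hf : Module.Flat R (C (n + 1)))
    (h : ExAt (fun n => (d n : C n → C (n + 1))) (n + 1)) (hg : Good.{u, v, w} d (n + 1)) :
    Good.{u, v, w} d n := by
  have h1 := hg.flat hf
  have h2 := surjective_toCyc d hdd h
  have h3 := exact_toCyc d hdd n
  have h4 : Function.Injective (ker (d n)).subtype := Subtype.val_injective
  refine ⟨fun hC => Ega3A.FlatSES.flat_left h4 h3 h2, fun Q _ _ =>
    Ega3A.FlatSES.rTensor_injective_of_flat h4 h3 h2 Q, fun Q _ _ x hx => ?_⟩
  have h5 : (toCyc d hdd n).rTensor Q x = 0 := by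
    apply hg.inj Q
    rw [map_zero, ← LinearMap.comp_apply, ← LinearMap.rTensor_comp, subtype_comp_toCyc, hx]
  exact ((rTensor_exact Q h3 h2) _).1 h5

theorem Good.of_subsingleton {n : ℕ} (h : Subsingleton (C n)) : Good.{u, v, w} d n := by
  have h1 : Subsingleton (ker (d n)) := ⟨fun x y => Subtype.ext (Subsingleton.elim _ _)⟩
  have h2 : ∀ (Q : Type w) [AddCommGroup Q] [Module R Q], Subsingleton (ker (d n) ⊗[R] Q) := by
    intro Q _ _
    refine subsingleton_of_forall_eq 0 fun x => ?_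
    induction x using TensorProduct.induction_on with
    | zero => rfl
    | tmul a b => rw [Subsingleton.elim a 0, zero_tmul]
    | add a b ha hb => rw [ha, hb, add_zero]
  have h3 : ∀ (Q : Type w) [AddCommGroup Q] [Module R Q], Subsingleton (C n ⊗[R] Q) := by
    intro Q _ _
    refine subsingleton_of_forall_eq 0 fun x => ?_
    induction x using TensorProduct.induction_on with
    | zero => rfl
    | tmul a b => rw [Subsingleton.elim a 0, zero_tmul]
    | add a b ha hb => rw [ha, hb, add_zero]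
  refine ⟨fun _ => inferInstance, fun Q _ _ => ?_, fun Q _ _ x _ => ?_⟩
  · have := h2 Q
    exact Function.injective_of_subsingleton _
  · have := h3 Q
    rw [Subsingleton.elim x 0]
    exact zero_mem _

theorem good_of_exact (hdd : ∀ n x, d (n + 1) (d n x) = 0)
    (hflat : ∀ n, 1 ≤ n → Module.Flat R (C n)) (N : ℕ) (hN : ∀ n, N ≤ n → Subsingleton (C n))
    (m : ℕ) (hex : ∀ n, m < n → ExAt (fun n => (d n : C n → C (n + 1))) n) (n : ℕ) (hn : m ≤ n) :
    Good.{u, v, w} d n := by
  by_cases h : N ≤ n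
  · exact Good.of_subsingleton (hN n h)
  · have : ∀ k n, m ≤ n → n + k = N → Good.{u, v, w} d n := by
      intro k
      induction k with
      | zero =>
        intro n _ hn
        exact Good.of_subsingleton (hN n (by omega))
      | succ k ih =>
        intro n hmn hn
        exact Good.step hdd (hflat (n + 1) (by omega)) (hex (n + 1) (by omega))
          (ih (n + 1) (by omega) (by omega))
    exact this (N - n) n hn (by omega)

/-- `Z n ⊗ Q → C n ⊗ Q` factors the zero map -/
theorem rTensor_d_subtype (n : ℕ) (Q : Type w) [AddCommGroup Q] [Module R Q]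
    (z : ker (d n) ⊗[R] Q) : (d n).rTensor Q ((ker (d n)).subtype.rTensor Q z) = 0 := by
  rw [← LinearMap.comp_apply, ← LinearMap.rTensor_comp,
    show d n ∘ₗ (ker (d n)).subtype = 0 by ext x; exact x.2, LinearMap.rTensor_zero]
  rfl

/-- Exactness above `m` is preserved by tensor products. -/
theorem exAt_rTensor (hdd : ∀ n x, d (n + 1) (d n x) = 0)
    (hflat : ∀ n, 1 ≤ n → Module.Flat R (C n)) (N : ℕ) (hN : ∀ n, N ≤ n → Subsingleton (C n))
    (m : ℕ) (hex : ∀ n, m < n → ExAt (fun n => (d n : C n → C (n + 1))) n) (n : ℕ) (hn : m < n)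
    (Q : Type w) [AddCommGroup Q] [Module R Q] :
    ExAt (X := fun n => C n ⊗[R] Q) (fun n => ((d n).rTensor Q : _ → _)) n := by
  obtain ⟨k, rfl⟩ : ∃ k, n = k + 1 := ⟨n - 1, by omega⟩
  intro x hx
  obtain ⟨z, rfl⟩ := (good_of_exact.{u, v, w} hdd hflat N hN m hex (k + 1) (by omega)).exact Q x hx
  obtain ⟨w, rfl⟩ := LinearMap.rTensor_surjective Q (surjective_toCyc d hdd (hex (k + 1) hn)) z
  exact ⟨w, (rTensor_subtype_toCyc d hdd k Q w).symm⟩

/-- If `C` is exact above `m = k + 1` and `C ⊗ Q` is exact in degree `m`, then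
`C k ⊗ Q → Z m ⊗ Q` is surjective. -/
theorem surjective_rTensor_toCyc (hdd : ∀ n x, d (n + 1) (d n x) = 0)
    (hflat : ∀ n, 1 ≤ n → Module.Flat R (C n)) (N : ℕ) (hN : ∀ n, N ≤ n → Subsingleton (C n))
    (k : ℕ) (hex : ∀ n, k + 1 < n → ExAt (fun n => (d n : C n → C (n + 1))) n)
    (Q : Type w) [AddCommGroup Q] [Module R Q]
    (hQ : ExAt (X := fun n => C n ⊗[R] Q) (fun n => ((d n).rTensor Q : _ → _)) (k + 1)) :
    Function.Surjective ((toCyc d hdd k).rTensor Q) := by
  intro z
  obtain ⟨w, hw⟩ := hQ _ (rTensor_d_subtype (d := d) (k + 1) Q z)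
  refine ⟨w, (good_of_exact.{u, v, w} hdd hflat N hN (k + 1) hex (k + 1) le_rfl).inj Q ?_⟩
  rw [rTensor_subtype_toCyc]
  exact hw

/-- If `C` is exact above `0` and `C ⊗ Q` is exact in degree `0`, then
`Z 0 ⊗ Q = 0`. -/
theorem subsingleton_rTensor_ker (hdd : ∀ n x, d (n + 1) (d n x) = 0)
    (hflat : ∀ n, 1 ≤ n → Module.Flat R (C n)) (N : ℕ) (hN : ∀ n, N ≤ n → Subsingleton (C n))
    (hex : ∀ n, 0 < n → ExAt (fun n => (d n : C n → C (n + 1))) n)
    (Q : Type w) [AddCommGroup Q] [Module R Q]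
    (hQ : ExAt (X := fun n => C n ⊗[R] Q) (fun n => ((d n).rTensor Q : _ → _)) 0) :
    Subsingleton (ker (d 0) ⊗[R] Q) := by
  refine subsingleton_of_forall_eq 0 fun z => ?_
  apply (good_of_exact.{u, v, w} hdd hflat N hN 0 hex 0 le_rfl).inj Q
  rw [map_zero]
  exact hQ _ (rTensor_d_subtype (d := d) 0 Q z)

/-- An exact bounded complex with flat terms in degrees `≥ 1` has flat term in degree `0`. -/
theorem flat_zero (hdd : ∀ n x, d (n + 1) (d n x) = 0)
    (hflat : ∀ n, 1 ≤ n → Module.Flat R (C n)) (N : ℕ) (hN : ∀ n, N ≤ n → Subsingleton (C n))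
    (hex : ∀ n, ExAt (fun n => (d n : C n → C (n + 1))) n) : Module.Flat R (C 0) := by
  have h1 := (good_of_exact.{u, v, v} hdd hflat N hN 0 (fun n _ => hex n) 1 (by omega)).flat
    (hflat 1 le_rfl)
  have h2 : Function.Bijective (toCyc d hdd 0) :=
    ⟨(injective_iff_map_eq_zero _).2 fun x hx => hex 0 x (Subtype.ext_iff.1 hx),
      surjective_toCyc d hdd (hex 1)⟩
  exact Module.Flat.of_linearEquiv (LinearEquiv.ofBijective _ h2)

/-- exactness of `C ⊗ Q` in degree `0` too, when `C` is exact everywhere. -/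
theorem exAt_rTensor_of_exact (hdd : ∀ n x, d (n + 1) (d n x) = 0)
    (hflat : ∀ n, 1 ≤ n → Module.Flat R (C n)) (N : ℕ) (hN : ∀ n, N ≤ n → Subsingleton (C n))
    (hex : ∀ n, ExAt (fun n => (d n : C n → C (n + 1))) n) (n : ℕ)
    (Q : Type w) [AddCommGroup Q] [Module R Q] :
    ExAt (X := fun n => C n ⊗[R] Q) (fun n => ((d n).rTensor Q : _ → _)) n := by
  cases n with
  | zero =>
    intro x hx
    obtain ⟨z, rfl⟩ := (good_of_exact.{u, v, w} hdd hflat N hN 0
      (fun n _ => hex n) 0 (by omega)).exact Q x hx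
    have h1 : Subsingleton (ker (d 0)) := by
      refine subsingleton_of_forall_eq 0 fun y => Subtype.ext (hex 0 y.1 y.2)
    have h2 : z = 0 := by
      induction z using TensorProduct.induction_on with
      | zero => rfl
      | tmul a b => rw [Subsingleton.elim a 0, zero_tmul]
      | add a b ha hb =>
        rw [map_add] at hx
        have h3 : ∀ c : ker (d 0) ⊗[R] Q, c = 0 := by
          intro c
          induction c using TensorProduct.induction_on with
          | zero => rfl
          | tmul a b => rw [Subsingleton.elim a 0, zero_tmul]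
          | add a b ha hb => rw [ha, hb, add_zero]
        exact h3 _
    rw [h2, map_zero]
  | succ n =>
    exact exAt_rTensor hdd hflat N hN 0 (fun n _ => hex n) (n + 1) (by omega) Q

end Flat

end Groth.Agent.CohqA.FlatCpx
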