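import Groth.Agent.CohqA.FlatCpxLocal
import Groth.Agent.Flat2B.FlatLocusAux
import Mathlib.Algebra.Module.LocalizedModule.Exact

/-!
# Bounded complexes of flat modules with finite cohomology: exactness spreads from a fibre

* `exists_smul_mem_bd`: `A` an `R`-algebra, `A → L` with `L` a field, `K` an `R`-algebra mapping to
  `L`, `C` a bounded complex of `A`-modules, `R`-flat in degrees `≥ 1`, with finite cohomology; if
  `C ⊗[R] K` is exact then some `a` nonzero in `L` kills the cohomology of `C`.
* `exAt_localization_iff`: exactness of a localized complex.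
-/

set_option autoImplicit false

universe u v w

namespace Groth.Agent.CohqA.FlatCpx

open TensorProduct LinearMap

section Loc

variable {A : Type u} [CommRing A] (T : Submonoid A)
  {C : ℕ → Type v} [∀ n, AddCommGroup (C n)] [∀ n, Module A (C n)]
  {C' : ℕ → Type w} [∀ n, AddCommGroup (C' n)] [∀ n, Module A (C' n)]
  {d : ∀ n, C n →ₗ[A] C (n + 1)} {d' : ∀ n, C' n →ₗ[A] C' (n + 1)}
  (g : ∀ n, C n →ₗ[A] C' n) [∀ n, IsLocalizedModule T (g n)]
  (hg : ∀ n x, g (n + 1) (d n x) = d' n (g n x))

include hg in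
theorem map_mem_bd {n : ℕ} {x : C n} (h : x ∈ Bd d n) : g n x ∈ Bd d' n := by
  cases n with
  | zero =>
    change x = 0 at h
    change g 0 x = 0
    rw [h, map_zero]
  | succ n =>
    obtain ⟨y, rfl⟩ := h
    exact ⟨g n y, (hg n y).symm⟩

include g in
theorem mem_bd_of_smul {n : ℕ} (t : T) {x : C' n} (h : t • x ∈ Bd d' n) : x ∈ Bd d' n := by
  cases n with
  | zero =>
    change t • x = 0 at h
    change x = 0
    exact IsLocalizedModule.smul_injective (g 0) t (by simpa using h)
  | succ n =>
    obtain ⟨z, hz⟩ := h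
    obtain ⟨z', hz'⟩ : ∃ z', t • z' = z :=
      ((Module.End.isUnit_iff _).1 (IsLocalizedModule.map_units (g n) t)).2 z
    refine ⟨z', IsLocalizedModule.smul_injective (g (n + 1)) t ?_⟩
    change t • d' n z' = t • x
    rw [← hz, ← hz', Submonoid.smul_def, Submonoid.smul_def, map_smul]

include hg in
theorem exists_smul_mem_bd_of_map {n : ℕ} {x : C n} (h : g n x ∈ Bd d' n) :
    ∃ t ∈ T, t • x ∈ Bd d n := by
  cases n with
  | zero =>
    change g 0 x = 0 at h
    obtain ⟨t, ht⟩ := (IsLocalizedModule.eq_zero_iff T (g 0)).1 h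
    exact ⟨t, t.2, ht⟩
  | succ n =>
    obtain ⟨y', hy'⟩ := h
    obtain ⟨⟨y, s⟩, hy⟩ := IsLocalizedModule.surj T (g n) y'
    have h1 : g (n + 1) ((s : A) • x - d n y) = 0 := by
      rw [map_sub, map_smul, hg, ← hy', ← hy, Submonoid.smul_def, map_smul, sub_self]
    obtain ⟨t, ht⟩ := (IsLocalizedModule.eq_zero_iff T (g (n + 1))).1 h1
    refine ⟨t * s, T.mul_mem t.2 s.2, ⟨(t : A) • y, ?_⟩⟩
    rw [Submonoid.smul_def, smul_sub, sub_eq_zero] at ht
    rw [map_smul, ← ht, mul_smul]

include hg in
theorem exAt_localization_iff (n : ℕ) :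
    ExAt (fun n => (d' n : C' n → C' (n + 1))) n ↔
      ∀ x, d n x = 0 → ∃ t ∈ T, t • x ∈ Bd d n := by
  rw [exAt_iff_ker_le]
  constructor
  · intro h x hx
    refine exists_smul_mem_bd_of_map T g hg (h ?_)
    rw [LinearMap.mem_ker, ← hg, hx, map_zero]
  · intro h x' hx'
    obtain ⟨⟨x, t⟩, hx⟩ := IsLocalizedModule.surj T (g n) x'
    have h1 : g (n + 1) (d n x) = 0 := by
      rw [hg, ← hx, Submonoid.smul_def, map_smul, LinearMap.mem_ker.1 hx', smul_zero]
    obtain ⟨s, hs⟩ := (IsLocalizedModule.eq_zero_iff T (g (n + 1))).1 h1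
    rw [Submonoid.smul_def, ← map_smul] at hs
    obtain ⟨r, hr, hr'⟩ := h _ hs
    have h2 := map_mem_bd (d := d) (d' := d') g hg hr'
    rw [map_smul, map_smul, ← hx] at h2
    exact mem_bd_of_smul T g t (mem_bd_of_smul T g s (mem_bd_of_smul T g ⟨r, hr⟩ h2))

include T hg in
theorem exAt_of_exAt_localization (h : ∀ n, ExAt (fun n => (d n : C n → C (n + 1))) n) (n : ℕ) :
    ExAt (fun n => (d' n : C' n → C' (n + 1))) n := by
  rw [exAt_localization_iff T g hg]
  intro x hx
  refine ⟨1, T.one_mem, ?_⟩
  rw [one_smul]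
  exact (exAt_iff_ker_le d n).1 (h n) hx

end Loc

section Spread

variable {R : Type u} {A : Type u} {K : Type w} {L : Type w} [CommRing R] [CommRing A]
  [Algebra R A] [CommRing K] [Algebra R K] [Field L] [Algebra A L] [Algebra R L]
  [IsScalarTower R A L]
  {C : ℕ → Type v} [∀ n, AddCommGroup (C n)] [∀ n, Module A (C n)] [∀ n, Module R (C n)]
  [∀ n, IsScalarTower R A (C n)] {d : ∀ n, C n →ₗ[A] C (n + 1)}

theorem exists_smul_mem_bd (φ : K →ₐ[R] L)
    (hdd : ∀ n x, d (n + 1) (d n x) = 0)
    (hflat : ∀ n, 1 ≤ n → Module.Flat R (C n)) (N : ℕ) (hN : ∀ n, N ≤ n → Subsingleton (C n))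
    (hfin : ∀ n, FinAt d n)
    (hK : ∀ n, ExAt (X := fun n => C n ⊗[R] K)
      (fun n => (((d n).restrictScalars R).rTensor K : _ → _)) n) :
    ∃ a : A, algebraMap A L a ≠ 0 ∧ ∀ n x, d n x = 0 → a • x ∈ Bd d n := by
  classical
  let q : Ideal A := RingHom.ker (algebraMap A L)
  have hq : q.IsPrime := RingHom.ker_isPrime _
  have hqL : ∀ t : q.primeCompl, IsUnit (algebraMap A L t) := fun t =>
    isUnit_iff_ne_zero.2 t.2
  letI : Algebra (Localization.AtPrime q) L := (IsLocalization.lift (M := q.primeCompl) hqL).toAlgebra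
  haveI : IsScalarTower A (Localization.AtPrime q) L := IsScalarTower.of_algebraMap_eq fun a =>
    (IsLocalization.lift_eq hqL a).symm
  haveI : IsScalarTower R (Localization.AtPrime q) L := IsScalarTower.of_algebraMap_eq fun r => by
    rw [IsScalarTower.algebraMap_apply R A (Localization.AtPrime q),
      ← IsScalarTower.algebraMap_apply A (Localization.AtPrime q) L,
      IsScalarTower.algebraMap_apply R A L]
  haveI : IsLocalHom (algebraMap (Localization.AtPrime q) L) := by
    constructor
    intro x hx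
    obtain ⟨a, t, rfl⟩ := IsLocalization.exists_mk'_eq q.primeCompl x
    rw [IsLocalization.AtPrime.isUnit_mk'_iff (S := Localization.AtPrime q) q]
    change algebraMap A L a ≠ 0
    intro ha
    have h1 : algebraMap (Localization.AtPrime q) L (IsLocalization.mk' _ a t) *
        algebraMap A L t = 0 := by
      rw [IsScalarTower.algebraMap_apply A (Localization.AtPrime q) L, ← map_mul,
        IsLocalization.mk'_spec, ← IsScalarTower.algebraMap_apply, ha]
    exact (hx.mul (hqL t)).ne_zero h1
  let T := q.primeCompl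
  let Aq := Localization.AtPrime q
  let C' : ℕ → Type _ := fun n => LocalizedModule T (C n)
  let iR : ∀ n, Module R (C' n) := fun n => inferInstanceAs (Module R (LocalizedModule T (C n)))
  have iRA : ∀ n, IsScalarTower R A (C' n) := fun n =>
    inferInstanceAs (IsScalarTower R A (LocalizedModule T (C n)))
  have iRAq : ∀ n, IsScalarTower R Aq (C' n) := fun n => IsScalarTower.of_algebraMap_smul fun r x => by
    rw [IsScalarTower.algebraMap_apply R A Aq, algebraMap_smul, algebraMap_smul]
  let g : ∀ n, C n →ₗ[A] C' n := fun n => LocalizedModule.mkLinearMap T (C n)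
  let d0 : ∀ n, C' n →ₗ[A] C' (n + 1) := fun n => IsLocalizedModule.map T (g n) (g (n + 1)) (d n)
  let d' : ∀ n, C' n →ₗ[Aq] C' (n + 1) := fun n => (d0 n).extendScalarsOfIsLocalization T Aq
  have hg : ∀ n x, g (n + 1) (d n x) = d0 n (g n x) := fun n x =>
    (IsLocalizedModule.map_apply T (g n) (g (n + 1)) (d n) x).symm
  have hdd' : ∀ n x, d' (n + 1) (d' n x) = 0 := by
    intro n x'
    obtain ⟨⟨x, t⟩, hx⟩ := IsLocalizedModule.surj T (g n) x'
    change d0 (n + 1) (d0 n x') = 0
    apply IsLocalizedModule.smul_injective (g (n + 2)) t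
    change t • d0 (n + 1) (d0 n x') = t • 0
    rw [smul_zero, Submonoid.smul_def, ← map_smul, ← map_smul, ← Submonoid.smul_def, hx, ← hg, ← hg,
      hdd, map_zero]
  have hflat' : ∀ n, 1 ≤ n → Module.Flat R (C' n) := fun n hn => by
    have := hflat n hn
    exact Flat2B.FlatLocusAux.flat_of_isLocalizedModule_source T (g n)
  have hN' : ∀ n, N ≤ n → Subsingleton (C' n) := fun n hn => by
    have := hN n hn
    refine subsingleton_of_forall_eq 0 fun x' => ?_
    obtain ⟨⟨x, t⟩, hx⟩ := IsLocalizedModule.surj T (g n) x'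
    apply IsLocalizedModule.smul_injective (g n) t
    change t • x' = t • 0
    rw [hx, Subsingleton.elim x 0, map_zero, smul_zero]
  have hBd : ∀ n, (Bd d' n : Set (C' n)) = Bd d0 n := by
    intro n
    cases n with
    | zero => rfl
    | succ n => rfl
  have hfin' : ∀ n, FinAt d' n := by
    intro n
    obtain ⟨P, ⟨S, rfl⟩, hPk, hk⟩ := hfin n
    refine ⟨Submodule.span Aq (S.image (g n)), ⟨S.image (g n), rfl⟩, ?_, ?_⟩
    · rw [Submodule.span_le]
      intro y hy
      simp only [Finset.coe_image, Set.mem_image] at hy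
      obtain ⟨x, hx, rfl⟩ := hy
      change d0 n (g n x) = 0
      rw [← hg, LinearMap.mem_ker.1 (hPk (Submodule.subset_span hx)), map_zero]
    · intro x' hx'
      obtain ⟨⟨x, t⟩, hx⟩ := IsLocalizedModule.surj T (g n) x'
      have h1 : g (n + 1) (d n x) = 0 := by
        rw [hg, ← hx, Submonoid.smul_def, map_smul]
        change (t : A) • d' n x' = 0
        rw [LinearMap.mem_ker.1 hx', smul_zero]
      obtain ⟨s, hs⟩ := (IsLocalizedModule.eq_zero_iff T (g (n + 1))).1 h1
      rw [Submonoid.smul_def, ← map_smul] at hs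
      obtain ⟨p, hp, b, hb, hpb⟩ := Submodule.mem_sup.1 (hk hs)
      have h2 : (s : A) • (t : A) • x' = g n p + g n b := by
        have := congrArg (g n) hpb
        rw [map_add, map_smul, ← hx] at this
        exact this.symm
      have h3 : g n p ∈ Submodule.span Aq (S.image (g n) : Set (C' n)) := by
        have h4 : g n p ∈ (Submodule.span A (S : Set (C n))).map (g n) := ⟨p, hp, rfl⟩
        rw [Submodule.map_span] at h4
        refine Submodule.span_subset_span A Aq _ ?_
        simpa using h4
      have h5 : g n b ∈ Bd d' n := by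
        have h9 := map_mem_bd (d := d) (d' := d0) g hg hb
        have h10 : g n b ∈ (Bd d' n : Set (C' n)) := by
          rw [hBd n]
          exact h9
        exact h10
      have h6 : (s : A) • (t : A) • x' ∈ Submodule.span Aq (S.image (g n) : Set (C' n)) ⊔ Bd d' n := by
        rw [h2]
        exact Submodule.add_mem_sup h3 h5
      have h7 : IsUnit (algebraMap A Aq ((s : A) * t)) :=
        IsLocalization.map_units Aq (s * t)
      obtain ⟨v, hv⟩ := h7
      have h8 : x' = ((v⁻¹ : Aqˣ) : Aq) • ((s : A) • (t : A) • x') := by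
        rw [← mul_smul (s : A), ← algebraMap_smul Aq ((s : A) * t), ← hv, ← mul_smul,
          Units.inv_mul, one_smul]
      rw [h8]
      exact Submodule.smul_mem _ _ h6
  have hK' : ∀ n, ExAt (X := fun n => C' n ⊗[R] K)
      (fun n => (((d' n).restrictScalars R).rTensor K : _ → _)) n := by
    intro n
    have h1 := exAt_of_exAt_localization (A := A) T (C := fun n => C n ⊗[R] K)
      (C' := fun n => C' n ⊗[R] K) (d := fun n => AlgebraTensorModule.rTensor R K (d n))
      (d' := fun n => AlgebraTensorModule.rTensor R K (d0 n))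
      (fun n => AlgebraTensorModule.rTensor R K (g n)) (by
        intro n x
        induction x using TensorProduct.induction_on with
        | zero => simp
        | tmul a b =>
          change (g (n + 1) (d n a)) ⊗ₜ[R] b = (d0 n (g n a)) ⊗ₜ[R] b
          rw [hg]
        | add a b ha hb => simp only [map_add, ha, hb]) (fun n => hK n) n
    exact h1
  have hex := exAt_of_local (R := R) (A := Aq) (K := K) (L := L) (d := d') φ hdd' hflat' N hN' hfin' hK'
  have hex0 : ∀ n x, d n x = 0 → ∃ t ∈ T, t • x ∈ Bd d n := by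
    intro n
    exact (exAt_localization_iff T g hg n).1 (hex n)
  -- now spread out
  have hone : ∀ n, ∃ a : A, a ∉ q ∧ ∀ x, d n x = 0 → a • x ∈ Bd d n := by
    intro n
    obtain ⟨P, ⟨S, rfl⟩, hPk, hk⟩ := hfin n
    have h1 : ∀ s : S, ∃ t ∈ T, t • (s : C n) ∈ Bd d n := fun s =>
      hex0 n s.1 (hPk (Submodule.subset_span s.2))
    choose t ht ht' using h1
    refine ⟨∏ s : S, t s, ?_, ?_⟩
    · have : (∏ s : S, t s) ∈ T := Submonoid.prod_mem _ fun s _ => ht s
      exact this
    · intro x hx
      obtain ⟨p, hp, b, hb, rfl⟩ := Submodule.mem_sup.1 (hk hx)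
      rw [smul_add]
      refine add_mem ?_ (Submodule.smul_mem _ _ hb)
      have h2 : Submodule.span A (S : Set (C n)) ≤
          (Bd d n).comap (LinearMap.lsmul A (C n) (∏ s : S, t s)) := by
        rw [Submodule.span_le]
        intro s hs
        change (∏ s : S, t s) • s ∈ Bd d n
        rw [← Finset.prod_erase_mul Finset.univ t (Finset.mem_univ (⟨s, hs⟩ : S)), mul_smul]
        exact Submodule.smul_mem _ _ (ht' ⟨s, hs⟩)
      exact h2 hp
  choose a ha ha' using hone
  refine ⟨∏ n ∈ Finset.range N, a n, ?_, ?_⟩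
  · have : (∏ n ∈ Finset.range N, a n) ∈ T := Submonoid.prod_mem _ fun n _ => ha n
    exact this
  · intro n x hx
    by_cases hn : n < N
    · rw [← Finset.prod_erase_mul (Finset.range N) a (Finset.mem_range.2 hn), mul_smul]
      exact Submodule.smul_mem _ _ (ha' n x hx)
    · have := hN n (by omega)
      rw [Subsingleton.elim ((∏ n ∈ Finset.range N, a n) • x) 0]
      exact zero_mem _

end Spread

end Groth.Agent.CohqA.FlatCpx
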