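import Mathlib.CategoryTheory.Sites.SheafCohomology.Basic
import Groth.Agent.CohqA.ExtCompare

/-!
# The free abelian sheaf on an object of a site

`freeSheaf J U` is the sheafification of the free abelian presheaf on `yoneda.obj U`.
`homEquiv U F : (freeSheaf J U ⟶ F) ≃+ F.obj.obj (op U)` is evaluation at the universal section.
`Sheaf.H' F n U` is by definition `Ext (freeSheaf J U) F n`.
-/

set_option autoImplicit false

universe w v u

open CategoryTheory Limits Opposite Abelian Groth.Agent.CohqA.ExtCompare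

namespace Groth.Agent.CohqA.FreeSheaf

variable {C : Type u} [Category.{v} C]

section Presheaf

/-- The free abelian presheaf on an object. -/
noncomputable abbrev freePre (U : C) : Cᵒᵖ ⥤ AddCommGrpCat.{v} := yoneda.obj U ⋙ AddCommGrpCat.free

/-- The morphism from the free presheaf attached to a section. -/
noncomputable def liftPre {U : C} (P : Cᵒᵖ ⥤ AddCommGrpCat.{v}) (s : P.obj (op U)) :
    freePre U ⟶ P where
  app V := AddCommGrpCat.ofHom (FreeAbelianGroup.lift
    (fun f : (yoneda.obj U).obj V => (P.map (Quiver.Hom.op (show V.unop ⟶ U from f)) s : P.obj V)))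
  naturality V W g := by
    refine AddCommGrpCat.hom_ext (FreeAbelianGroup.lift_ext _ _ fun f => ?_)
    change (FreeAbelianGroup.lift _) (FreeAbelianGroup.map _ (FreeAbelianGroup.of f)) =
      P.map g ((FreeAbelianGroup.lift _) (FreeAbelianGroup.of f))
    rw [FreeAbelianGroup.map_of_apply, FreeAbelianGroup.lift_apply_of,
      FreeAbelianGroup.lift_apply_of]
    change P.map (Quiver.Hom.op (g.unop ≫ (show V.unop ⟶ U from f))) s = P.map g (P.map _ s)
    rw [op_comp, P.map_comp]
    rfl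

theorem liftPre_app_of {U : C} (P : Cᵒᵖ ⥤ AddCommGrpCat.{v}) (s : P.obj (op U)) {V : C}
    (f : V ⟶ U) :
    (liftPre P s).app (op V) (FreeAbelianGroup.of f) = P.map f.op s :=
  FreeAbelianGroup.lift_apply_of _ _

theorem freePre_hom_ext {U : C} {P : Cᵒᵖ ⥤ AddCommGrpCat.{v}} (φ ψ : freePre U ⟶ P)
    (h : φ.app (op U) (FreeAbelianGroup.of (𝟙 U)) = ψ.app (op U) (FreeAbelianGroup.of (𝟙 U))) :
    φ = ψ := by
  ext V : 2
  refine AddCommGrpCat.hom_ext (FreeAbelianGroup.lift_ext _ _ fun f => ?_)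
  have key : ∀ χ : freePre U ⟶ P, χ.app V (FreeAbelianGroup.of f) =
      P.map (Quiver.Hom.op (show V.unop ⟶ U from f))
        (χ.app (op U) (FreeAbelianGroup.of (𝟙 U))) := by
    intro χ
    have := ConcreteCategory.congr_hom
      (χ.naturality (Quiver.Hom.op (show V.unop ⟶ U from f))) (FreeAbelianGroup.of (𝟙 U))
    change χ.app V (FreeAbelianGroup.map _ (FreeAbelianGroup.of (𝟙 U))) = P.map _ _ at this
    rw [FreeAbelianGroup.map_of_apply] at this
    refine Eq.trans ?_ this
    congr 2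
    exact (Category.comp_id (show V.unop ⟶ U from f)).symm
  exact ((key φ).trans (congrArg _ h)).trans (key ψ).symm

/-- Morphisms out of the free abelian presheaf on `U` are sections over `U`. -/
noncomputable def homPreEquiv (U : C) (P : Cᵒᵖ ⥤ AddCommGrpCat.{v}) :
    (freePre U ⟶ P) ≃+ P.obj (op U) where
  toFun φ := φ.app (op U) (FreeAbelianGroup.of (𝟙 U))
  invFun s := liftPre P s
  left_inv φ := freePre_hom_ext _ _ ((liftPre_app_of P _ (𝟙 U)).trans (by simp))
  right_inv s := (liftPre_app_of P s (𝟙 U)).trans (by simp)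
  map_add' φ ψ := rfl

end Presheaf

variable (J : GrothendieckTopology C) [HasSheafify J AddCommGrpCat.{v}]

/-- The free abelian sheaf on an object. -/
noncomputable abbrev freeSheaf (U : C) : Sheaf J AddCommGrpCat.{v} :=
  (presheafToSheaf J _).obj (yoneda.obj U ⋙ AddCommGrpCat.free)

/-- The morphism of free sheaves attached to a morphism. -/
noncomputable abbrev freeSheafMap {U V : C} (f : U ⟶ V) : freeSheaf J U ⟶ freeSheaf J V :=
  (presheafToSheaf J _).map (Functor.whiskerRight (yoneda.map f) _)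

/-- The universal section of the free abelian sheaf on `U`. -/
noncomputable def univ (U : C) : (freeSheaf J U).obj.obj (op U) :=
  (toSheafify J (freePre U)).app (op U) (FreeAbelianGroup.of (𝟙 U))

variable {J}

/-- Morphisms out of the free abelian sheaf on `U` are sections over `U`. -/
noncomputable def homEquiv (U : C) (F : Sheaf J AddCommGrpCat.{v}) :
    (freeSheaf J U ⟶ F) ≃+ F.obj.obj (op U) :=
  ((sheafificationAdjunction J AddCommGrpCat.{v}).homAddEquiv _ F).trans (homPreEquiv U F.obj)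

theorem homEquiv_apply (U : C) (F : Sheaf J AddCommGrpCat.{v}) (φ : freeSheaf J U ⟶ F) :
    homEquiv U F φ = φ.hom.app (op U) (univ J U) := rfl

theorem homEquiv_comp {U : C} {F G : Sheaf J AddCommGrpCat.{v}} (φ : freeSheaf J U ⟶ F)
    (ψ : F ⟶ G) : homEquiv U G (φ ≫ ψ) = ψ.hom.app (op U) (homEquiv U F φ) := rfl

theorem homEquiv_symm_apply {U : C} {F : Sheaf J AddCommGrpCat.{v}} (s : F.obj.obj (op U)) :
    ((homEquiv U F).symm s).hom.app (op U) (univ J U) = s := by
  rw [← homEquiv_apply, AddEquiv.apply_symm_apply]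

theorem hom_ext {U : C} {F : Sheaf J AddCommGrpCat.{v}} (φ ψ : freeSheaf J U ⟶ F)
    (h : φ.hom.app (op U) (univ J U) = ψ.hom.app (op U) (univ J U)) : φ = ψ :=
  (homEquiv U F).injective h

theorem homEquiv_symm_comp {U : C} {F G : Sheaf J AddCommGrpCat.{v}} (s : F.obj.obj (op U))
    (ψ : F ⟶ G) : (homEquiv U F).symm s ≫ ψ = (homEquiv U G).symm (ψ.hom.app (op U) s) := by
  apply (homEquiv U G).injective
  rw [homEquiv_comp]
  simp

theorem freeSheafMap_univ {U V : C} (f : U ⟶ V) :
    (freeSheafMap J f).hom.app (op U) (univ J U) = (freeSheaf J V).obj.map f.op (univ J V) := by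
  have h1 := ConcreteCategory.congr_hom (NatTrans.congr_app
    (toSheafify_naturality J (Functor.whiskerRight (yoneda.map f) AddCommGrpCat.free)) (op U))
    (FreeAbelianGroup.of (𝟙 U))
  have h2 := ConcreteCategory.congr_hom ((toSheafify J (freePre V)).naturality f.op)
    (FreeAbelianGroup.of (𝟙 V))
  change (toSheafify J (freePre V)).app (op U)
    (FreeAbelianGroup.map _ (FreeAbelianGroup.of (𝟙 U))) = _ at h1
  change (toSheafify J (freePre V)).app (op U)
    (FreeAbelianGroup.map _ (FreeAbelianGroup.of (𝟙 V))) = _ at h2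
  rw [FreeAbelianGroup.map_of_apply] at h1 h2
  refine Eq.trans h1.symm (Eq.trans ?_ h2)
  congr 2
  change 𝟙 U ≫ f = f ≫ 𝟙 V
  simp

theorem homEquiv_freeSheafMap_comp {U V : C} (f : U ⟶ V) {F : Sheaf J AddCommGrpCat.{v}}
    (φ : freeSheaf J V ⟶ F) :
    homEquiv U F (freeSheafMap J f ≫ φ) = F.obj.map f.op (homEquiv V F φ) := by
  have h := ConcreteCategory.congr_hom (φ.hom.naturality f.op) (univ J V)
  change φ.hom.app (op U) ((freeSheafMap J f).hom.app (op U) (univ J U)) = _
  rw [freeSheafMap_univ]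
  exact h

section H'

variable [HasExt.{w} (Sheaf J AddCommGrpCat.{v})]

/-- `H'^0(U, F) = F(U)`. -/
noncomputable def H'₀Equiv (F : Sheaf J AddCommGrpCat.{v}) (U : C) :
    Ext.{w} (freeSheaf J U) F 0 ≃+ F.obj.obj (op U) :=
  ext₀Equiv (homEquiv U F)

theorem H'₀Equiv_mk₀ {F : Sheaf J AddCommGrpCat.{v}} {U : C} (φ : freeSheaf J U ⟶ F) :
    H'₀Equiv F U (Ext.mk₀.{w} φ) = homEquiv U F φ :=
  ext₀Equiv_mk₀ _ _

theorem H'₀Equiv_res {F : Sheaf J AddCommGrpCat.{v}} {U V : C} (f : U ⟶ V)
    (x : Ext.{w} (freeSheaf J V) F 0) :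
    H'₀Equiv F U ((Ext.mk₀ (freeSheafMap J f)).comp x (zero_add 0)) =
      F.obj.map f.op (H'₀Equiv F V x) :=
  ext₀Equiv_precomp _ _ _ (F.obj.map f.op) (homEquiv_freeSheafMap_comp f) x

theorem H'₀Equiv_mapF {F G : Sheaf J AddCommGrpCat.{v}} (ψ : F ⟶ G) {U : C}
    (x : Ext.{w} (freeSheaf J U) F 0) :
    H'₀Equiv G U (x.comp (Ext.mk₀ ψ) (add_zero 0)) = ψ.hom.app (op U) (H'₀Equiv F U x) :=
  ext₀Equiv_postcomp _ _ _ (ψ.hom.app (op U)) (fun φ => homEquiv_comp φ ψ) x

end H'

section Terminal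

variable {T : C} (hT : IsTerminal T)

/-- The free abelian presheaf on a terminal object is constant. -/
noncomputable def freePreTerminalIso :
    freePre T ≅ (Functor.const Cᵒᵖ).obj (AddCommGrpCat.of (ULift.{v} ℤ)) :=
  NatIso.ofComponents (fun V =>
    AddEquiv.toAddCommGrpIso (
      letI : Unique ((yoneda.obj T).obj V) :=
        ⟨⟨hT.from V.unop⟩, fun f => hT.hom_ext (show V.unop ⟶ T from f) _⟩
      (FreeAbelianGroup.uniqueEquiv ((yoneda.obj T).obj V)).trans AddEquiv.ulift.symm))
    (by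
      intro V W f
      refine AddCommGrpCat.hom_ext (FreeAbelianGroup.lift_ext _ _ fun g => ?_)
      rfl)

/-- The free abelian sheaf on a terminal object is the constant sheaf. -/
noncomputable def freeTerminalIso :
    freeSheaf J T ≅ (constantSheaf J AddCommGrpCat.{v}).obj (AddCommGrpCat.of (ULift ℤ)) :=
  (presheafToSheaf J _).mapIso (freePreTerminalIso hT)

variable [HasExt.{w} (Sheaf J AddCommGrpCat.{v})]

/-- `H'^n(T, F) ≃+ H^n(F)` for `T` terminal. -/
noncomputable def H'TerminalEquiv (F : Sheaf J AddCommGrpCat.{v}) (n : ℕ) :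
    Ext.{w} (freeSheaf J T) F n ≃+ Sheaf.H.{w} F n :=
  precompIso (freeTerminalIso (J := J) hT).symm F n

theorem H'TerminalEquiv_map {F G : Sheaf J AddCommGrpCat.{v}} (φ : F ⟶ G) (n : ℕ)
    (x : Ext.{w} (freeSheaf J T) F n) :
    H'TerminalEquiv hT G n (x.comp (Ext.mk₀ φ) (add_zero n)) =
      Sheaf.H.map φ n (H'TerminalEquiv hT F n x) :=
  precompIso_comp_mk₀ _ _ _

end Terminal

end Groth.Agent.CohqA.FreeSheaf
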