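import Mathlib.Algebra.Homology.DerivedCategory.Ext.Map
import Mathlib.Algebra.Homology.DerivedCategory.Ext.ExactSequences
import Mathlib.Algebra.Homology.DerivedCategory.Ext.EnoughInjectives
import Mathlib.CategoryTheory.Preadditive.Injective.Preserves

/-!
# The canonical map `Ext^n(A, G F) → Ext^n(L A, F)` for an adjunction `L ⊣ G` with `L` exact

It is natural in `A` and `F`, compatible with connecting maps, and bijective when `F` belongs to a
class of objects which is "`G`-acyclic".
-/

universe w w' v v' u u'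

open CategoryTheory Limits Abelian

namespace Groth.Agent.CohqA.HDIExt

variable {C : Type u} [Category.{v} C] [Abelian C] [HasExt.{w} C]
variable {D : Type u'} [Category.{v'} D] [Abelian D] [HasExt.{w'} D]
variable {L : D ⥤ C} {G : C ⥤ D} (adj : L ⊣ G) [L.Additive] [PreservesFiniteLimits L]
  [PreservesFiniteColimits L]

/-- The canonical map `Ext^n(A, G F) → Ext^n(L A, F)`. -/
noncomputable def canon (A : D) (F : C) (n : ℕ) :
    Ext.{w'} A (G.obj F) n →+ Ext.{w} (L.obj A) F n :=
  ((Ext.mk₀ (adj.counit.app F)).postcomp (L.obj A) (add_zero n)).comp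
    (L.mapExtAddHom A (G.obj F) n)

lemma canon_apply (A : D) (F : C) (n : ℕ) (x : Ext.{w'} A (G.obj F) n) :
    canon adj A F n x =
      (x.mapExactFunctor L : Ext.{w} _ _ n).comp (Ext.mk₀ (adj.counit.app F)) (add_zero n) := rfl

lemma canon_mk₀ (A : D) (F : C) (φ : A ⟶ G.obj F) :
    canon adj A F 0 (Ext.mk₀ φ) = Ext.mk₀ ((adj.homEquiv A F).symm φ) := by
  rw [canon_apply, Ext.mapExactFunctor_mk₀, Ext.mk₀_comp_mk₀, Adjunction.homEquiv_counit]

lemma canon_bijective_zero (A : D) (F : C) : Function.Bijective (canon adj A F 0) := by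
  have h : canon adj A F 0 ∘ Ext.mk₀ = Ext.mk₀ ∘ (adj.homEquiv A F).symm := by
    ext φ : 1
    exact canon_mk₀ adj A F φ
  have h1 : Function.Bijective (canon adj A F 0 ∘ Ext.mk₀) := by
    rw [h]
    exact (Ext.mk₀_bijective _ _).comp (adj.homEquiv A F).symm.bijective
  exact (Function.Bijective.of_comp_iff _ (Ext.mk₀_bijective _ _)).1 h1

/-- naturality in `A` -/
lemma canon_precomp {A B : D} (a : A ⟶ B) (F : C) (n : ℕ) (x : Ext.{w'} B (G.obj F) n) :
    canon adj A F n ((Ext.mk₀ a).comp x (zero_add n)) =
      (Ext.mk₀ (L.map a)).comp (canon adj B F n x) (zero_add n) := by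
  rw [canon_apply, canon_apply, Ext.mapExactFunctor_comp, Ext.mapExactFunctor_mk₀]
  rw [Ext.comp_assoc]
  omega

/-- naturality in `A`, general degree -/
lemma canon_precomp' {A B : D} {m : ℕ} (a : Ext.{w'} A B m) (F : C) {n k : ℕ} (h : m + n = k)
    (x : Ext.{w'} B (G.obj F) n) :
    canon adj A F k (a.comp x h) =
      (a.mapExactFunctor L : Ext.{w} _ _ m).comp (canon adj B F n x) h := by
  rw [canon_apply, canon_apply, Ext.mapExactFunctor_comp]
  rw [Ext.comp_assoc]
  omega

/-- naturality in `F` -/
lemma canon_postcomp (A : D) {F F' : C} (φ : F ⟶ F') (n : ℕ) (x : Ext.{w'} A (G.obj F) n) :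
    canon adj A F' n (x.comp (Ext.mk₀ (G.map φ)) (add_zero n)) =
      (canon adj A F n x).comp (Ext.mk₀ φ) (add_zero n) := by
  rw [canon_apply, canon_apply, Ext.mapExactFunctor_comp, Ext.mapExactFunctor_mk₀]
  rw [Ext.comp_assoc_of_third_deg_zero, Ext.comp_assoc_of_third_deg_zero, Ext.mk₀_comp_mk₀,
    Ext.mk₀_comp_mk₀]
  congr 2
  exact adj.counit.naturality φ

/-- compatibility with connecting maps -/
lemma canon_extClass (A : D) {S : ShortComplex C} (hS : S.ShortExact) [G.Additive]
    (hGS : (S.map G).ShortExact) {n m : ℕ} (h : n + 1 = m) (x : Ext.{w'} A (S.map G).X₃ n) :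
    canon adj A S.X₁ m (x.comp hGS.extClass h) =
      (canon adj A S.X₃ n x).comp hS.extClass h := by
  let φ : (S.map G).map L ⟶ S :=
    { τ₁ := adj.counit.app _
      τ₂ := adj.counit.app _
      τ₃ := adj.counit.app _
      comm₁₂ := (adj.counit.naturality S.f).symm
      comm₂₃ := (adj.counit.naturality S.g).symm }
  have hT := hGS.map_of_exact L
  let y : Ext.{w} (L.obj A) ((S.map G).map L).X₃ n := x.mapExactFunctor L
  have hnat := ShortComplex.ShortExact.extClass_naturality hT hS φ
  have e1 : ((x.comp hGS.extClass h).mapExactFunctor L : Ext.{w} _ _ m) =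
      (x.mapExactFunctor L).comp (hGS.extClass.mapExactFunctor L) h :=
    Ext.mapExactFunctor_comp L _ _ _
  have e2 : (hGS.extClass.mapExactFunctor L : Ext.{w} _ _ 1) = hT.extClass :=
    Ext.mapExactFunctor_extClass L hGS
  have e3 : (x.mapExactFunctor L).comp (hGS.extClass.mapExactFunctor L) h =
      y.comp hT.extClass h := congrArg (fun z => Ext.comp y z h) e2
  have e4 : (y.comp hT.extClass h).comp (Ext.mk₀ φ.τ₁) (add_zero m) =
      (y.comp (Ext.mk₀ φ.τ₃) (add_zero n)).comp hS.extClass h := by
    rw [Ext.comp_assoc_of_third_deg_zero, hnat, ← Ext.comp_assoc_of_second_deg_zero]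
  exact (congrArg (fun z => Ext.comp z (Ext.mk₀ φ.τ₁) (add_zero m)) (e1.trans e3)).trans e4

/-- precomposition with an isomorphism is bijective on `Ext` -/
lemma precomp_iso_bijective {A B : C} (a : A ⟶ B) [IsIso a] (F : C) (n : ℕ) :
    Function.Bijective ((Ext.mk₀.{w} a).precomp F (zero_add n)) := by
  constructor
  · intro x y h
    have h' := congrArg (fun z => (Ext.mk₀ (inv a)).comp z (zero_add n)) h
    simpa using h'
  · intro y
    exact ⟨(Ext.mk₀ (inv a)).comp y (zero_add n), by simp⟩

section Bijective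

variable [G.Additive]

/-- A class of objects that is `G`-acyclic in the sense of an inductive dimension shift. -/
structure AcyclicClass (G : C ⥤ D) [G.Additive] (P : C → Prop) : Prop where
  shift : ∀ F, P F → ∃ (S : ShortComplex C), S.ShortExact ∧ (S.map G).ShortExact ∧
    Injective S.X₂ ∧ P S.X₃ ∧ S.X₁ = F

/-- If `G` preserves injective objects and `P` is a `G`-acyclic class, the canonical map is
bijective for all objects in the class `P`. -/
theorem canon_bijective {P : C → Prop} (hP : AcyclicClass G P) [G.PreservesInjectiveObjects]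
    (A : D) (n : ℕ) : ∀ (F : C), P F → Function.Bijective (canon adj A F n) := by
  induction n with
  | zero => intro F _; exact canon_bijective_zero adj A F
  | succ n ih =>
    intro F hF
    obtain ⟨S, hS, hGS, hI, hQ, rfl⟩ := hP.shift F hF
    have hGI : Injective (S.map G).X₂ := Functor.PreservesInjectiveObjects.injective_obj hI
    have ihQ := ih _ hQ
    constructor
    · rw [injective_iff_map_eq_zero]
      intro x hx
      obtain ⟨y, rfl⟩ := Ext.covariant_sequence_exact₁ A hGS x (Ext.eq_zero_of_injective _) rfl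
      rw [canon_extClass adj A hS hGS rfl] at hx
      obtain ⟨z, hz⟩ := Ext.covariant_sequence_exact₃ _ hS _ rfl hx
      obtain ⟨z', rfl⟩ : ∃ z' : Ext.{w'} A (S.map G).X₂ n, canon adj A S.X₂ n z' = z := by
        cases n with
        | zero => exact (canon_bijective_zero adj A S.X₂).2 z
        | succ n => exact ⟨0, (map_zero (canon adj A S.X₂ (n + 1))).trans
            (Ext.eq_zero_of_injective z).symm⟩
      have hy : z'.comp (Ext.mk₀ (S.map G).g) (add_zero n) = y := by
        apply ihQ.1
        rw [← hz]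
        exact canon_postcomp adj A S.g n z'
      rw [← hy, Ext.comp_assoc_of_second_deg_zero, hGS.comp_extClass]
      exact Ext.comp_zero _ _ _ _ _
    · intro y
      obtain ⟨x, rfl⟩ := Ext.covariant_sequence_exact₁ _ hS y (Ext.eq_zero_of_injective _) rfl
      obtain ⟨x, rfl⟩ := ihQ.2 x
      exact ⟨x.comp hGS.extClass rfl, canon_extClass adj A hS hGS rfl x⟩

end Bijective

end Groth.Agent.CohqA.HDIExt
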