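import Mathlib.CategoryTheory.Sites.SheafCohomology.Basic
import Mathlib.Algebra.Homology.DerivedCategory.Ext.ExactSequences
import Groth.Agent.CohqA.FastInst

/-!
# The free abelian sheaf `Z_U` on an object of a site, and `H^0`

`Sheaf.H' F n U` is `Ext^n(Z_U, F)`.  We identify `Hom(Z_U, F)` with `F(U)` naturally.
-/

universe u

open CategoryTheory Limits Opposite Abelian
open scoped Groth.Agent.CohqA.FastInst

namespace Groth.Agent.CohqA.HDIFree

variable {C : Type u} [SmallCategory C] (J : GrothendieckTopology C)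

/-- The functor `U ↦ Z_U`, as in the definition of `Sheaf.H'`. -/
noncomputable abbrev ZF : C ⥤ Sheaf J AddCommGrpCat.{u} :=
  yoneda ⋙ (Functor.whiskeringRight _ _ _).obj AddCommGrpCat.free ⋙ presheafToSheaf _ _

/-- The tautological section of `Z_U` over `U`. -/
noncomputable def gen (U : C) : ((ZF J).obj U).obj.obj (op U) :=
  (toSheafify J (yoneda.obj U ⋙ AddCommGrpCat.free)).app (op U) (FreeAbelianGroup.of (𝟙 U))

variable {J}

/-- evaluation of a morphism `Z_U ⟶ F` at the tautological section -/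
noncomputable def sec {U : C} {F : Sheaf J AddCommGrpCat.{u}} :
    ((ZF J).obj U ⟶ F) →+ F.obj.obj (op U) where
  toFun φ := φ.hom.app (op U) (gen J U)
  map_zero' := rfl
  map_add' _ _ := rfl

lemma sec_apply {U : C} {F : Sheaf J AddCommGrpCat.{u}} (φ : (ZF J).obj U ⟶ F) :
    sec φ = φ.hom.app (op U) (gen J U) := rfl

lemma sec_comp {U : C} {F G : Sheaf J AddCommGrpCat.{u}} (φ : (ZF J).obj U ⟶ F) (ψ : F ⟶ G) :
    sec (φ ≫ ψ) = ψ.hom.app (op U) (sec φ) := rfl

lemma gen_map {U V : C} (h : V ⟶ U) :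
    ((ZF J).map h).hom.app (op V) (gen J V) = ((ZF J).obj U).obj.map h.op (gen J U) := by
  have h1 := (sheafificationAdjunction J AddCommGrpCat.{u}).unit.naturality
    (Functor.whiskerRight (yoneda.map h) AddCommGrpCat.free)
  have h2 := NatTrans.congr_app h1 (op V)
  have h3 := ConcreteCategory.congr_hom h2 (FreeAbelianGroup.of (𝟙 V))
  have h4 := (toSheafify J (yoneda.obj U ⋙ AddCommGrpCat.free)).naturality h.op
  have h5 := ConcreteCategory.congr_hom h4 (FreeAbelianGroup.of (𝟙 U))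
  refine h3.symm.trans (Eq.trans ?_ h5)
  change (toSheafify J (yoneda.obj U ⋙ AddCommGrpCat.free)).app (op V) _ =
    (toSheafify J (yoneda.obj U ⋙ AddCommGrpCat.free)).app (op V) _
  congr 1
  change FreeAbelianGroup.map _ (FreeAbelianGroup.of _) =
    FreeAbelianGroup.map _ (FreeAbelianGroup.of _)
  rw [FreeAbelianGroup.map_of_apply, FreeAbelianGroup.map_of_apply]
  congr 1
  change 𝟙 V ≫ h = h ≫ 𝟙 U
  simp

lemma sec_map {U V : C} (h : V ⟶ U) {F : Sheaf J AddCommGrpCat.{u}} (φ : (ZF J).obj U ⟶ F) :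
    sec ((ZF J).map h ≫ φ) = F.obj.map h.op (sec φ) := by
  rw [sec_apply, sec_apply]
  change φ.hom.app (op V) (((ZF J).map h).hom.app (op V) (gen J V)) = _
  rw [gen_map]
  exact ConcreteCategory.congr_hom (φ.hom.naturality h.op) (gen J U)

lemma sec_bijective {U : C} {F : Sheaf J AddCommGrpCat.{u}} :
    Function.Bijective (sec (U := U) (F := F)) := by
  have key : (sec (U := U) (F := F) : ((ZF J).obj U ⟶ F) → F.obj.obj (op U)) =
      (yonedaEquiv (X := U) (F := F.obj ⋙ forget AddCommGrpCat.{u})) ∘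
      ((AddCommGrpCat.adj.{u}.whiskerRight Cᵒᵖ).homEquiv (yoneda.obj U) F.obj) ∘
      ((sheafificationAdjunction J AddCommGrpCat.{u}).homEquiv _ F) := by
    ext φ
    rw [Function.comp_apply, Function.comp_apply, yonedaEquiv_apply, Adjunction.homEquiv_unit, Adjunction.homEquiv_unit]
    rfl
  rw [key]
  exact (yonedaEquiv.bijective.comp (Equiv.bijective _)).comp (Equiv.bijective _)

/-- `Hom(Z_U, F) ≃ F(U)` -/
noncomputable def secEquiv (U : C) (F : Sheaf J AddCommGrpCat.{u}) :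
    ((ZF J).obj U ⟶ F) ≃+ F.obj.obj (op U) :=
  AddEquiv.ofBijective sec sec_bijective

section Ext

/-- `H^0(U, F) = F(U)` -/
noncomputable def h0 (U : C) (F : Sheaf J AddCommGrpCat.{u}) :
    Ext.{u} ((ZF J).obj U) F 0 ≃+ F.obj.obj (op U) :=
  Ext.addEquiv₀.trans (secEquiv U F)

lemma h0_mk₀ {U : C} {F : Sheaf J AddCommGrpCat.{u}} (φ : (ZF J).obj U ⟶ F) :
    h0 U F (Ext.mk₀ φ) = sec φ := by
  change sec (Ext.addEquiv₀ (Ext.mk₀ φ)) = sec φ
  congr 1
  exact Ext.homEquiv₀.apply_symm_apply φ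

/-- naturality of `h0` in the sheaf -/
lemma h0_postcomp {U : C} {F G : Sheaf J AddCommGrpCat.{u}} (ψ : F ⟶ G)
    (x : Ext.{u} ((ZF J).obj U) F 0) :
    h0 U G (x.comp (Ext.mk₀ ψ) (add_zero 0)) = ψ.hom.app (op U) (h0 U F x) := by
  obtain ⟨φ, rfl⟩ := (Ext.mk₀_bijective _ _).2 x
  rw [Ext.mk₀_comp_mk₀, h0_mk₀, h0_mk₀, sec_comp]

/-- naturality of `h0` in the object -/
lemma h0_precomp {U V : C} (h : V ⟶ U) {F : Sheaf J AddCommGrpCat.{u}}
    (x : Ext.{u} ((ZF J).obj U) F 0) :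
    h0 V F ((Ext.mk₀ ((ZF J).map h)).comp x (zero_add 0)) = F.obj.map h.op (h0 U F x) := by
  obtain ⟨φ, rfl⟩ := (Ext.mk₀_bijective _ _).2 x
  rw [Ext.mk₀_comp_mk₀, h0_mk₀, h0_mk₀, sec_map]

/-- sections lift when `H^1` of the kernel vanishes -/
lemma surjective_of_subsingleton_H1 {S : ShortComplex (Sheaf J AddCommGrpCat.{u})}
    (hS : S.ShortExact) (U : C) (h : Subsingleton (Ext.{u} ((ZF J).obj U) S.X₁ 1)) :
    Function.Surjective (S.g.hom.app (op U)) := by
  intro t
  obtain ⟨x, hx⟩ := (h0 U S.X₃).surjective t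
  obtain ⟨y, hy⟩ := Ext.covariant_sequence_exact₃ _ hS x rfl (Subsingleton.elim _ _)
  exact ⟨h0 U S.X₂ y, by rw [← h0_postcomp, hy, hx]⟩

/-- dimension shifting: vanishing of the cohomology of the quotient. -/
lemma subsingleton_quot {S : ShortComplex (Sheaf J AddCommGrpCat.{u})}
    (hS : S.ShortExact) (A : Sheaf J AddCommGrpCat.{u}) (q : ℕ)
    (h₁ : Subsingleton (Ext.{u} A S.X₁ (q + 1)))
    (h₂ : Subsingleton (Ext.{u} A S.X₂ q)) :
    Subsingleton (Ext.{u} A S.X₃ q) := by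
  refine subsingleton_of_forall_eq 0 fun x => ?_
  obtain ⟨y, rfl⟩ := Ext.covariant_sequence_exact₃ _ hS x rfl (Subsingleton.elim _ _)
  rw [Subsingleton.elim y 0, Ext.zero_comp]

end Ext

end Groth.Agent.CohqA.HDIFree
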