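import Mathlib.Topology.Sheaves.Functors
import Mathlib.Topology.Sheaves.LocallySurjective
import Mathlib.Topology.Sheaves.AddCommGrpCat
import Mathlib.CategoryTheory.Abelian.GrothendieckCategory.HasExt
import Mathlib.CategoryTheory.Abelian.GrothendieckAxioms.Sheaf
import Mathlib.Algebra.Category.Grp.AB
import Groth.Agent.CohqA.HDIExt
import Groth.Agent.CohqA.HDIFree
import Groth.Agent.CohqA.FastInst

/-!
# Cohomology of a direct image of abelian sheaves on topological spaces

For `f : X ⟶ Y` continuous, we define the natural map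
`pushH : H^n(W, f_* F) → H^n(f⁻¹ W, F)` and show that it is bijective when there is a basis `B` of `Y`
with `H^q(f⁻¹ V, F) = 0` for all `V ∈ B`, `q > 0`.
-/

universe u

open CategoryTheory Limits Opposite Abelian TopologicalSpace
open scoped Groth.Agent.CohqA.FastInst

namespace Groth.Agent.CohqA.HDITop

open HDIFree HDIExt

/-- The free abelian sheaf on an open. -/
noncomputable abbrev ZO {X : TopCat.{u}} (U : Opens X) : Sheaf (Opens.grothendieckTopology X) AddCommGrpCat.{u} :=
  (ZF (Opens.grothendieckTopology X)).obj U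

/-- the map `Z_V → Z_U` for `V ≤ U` -/
noncomputable abbrev ZOmap {X : TopCat.{u}} {U V : Opens X} (h : V ≤ U) : ZO V ⟶ ZO U :=
  (ZF (Opens.grothendieckTopology X)).map (homOfLE h)

variable {X Y : TopCat.{u}} (f : X ⟶ Y)

/-- direct image (definitionally `TopCat.Sheaf.pushforward`) -/
noncomputable abbrev push : Sheaf (Opens.grothendieckTopology X) AddCommGrpCat.{u} ⥤ Sheaf (Opens.grothendieckTopology Y) AddCommGrpCat.{u} :=
  (Opens.map f).sheafPushforwardContinuous AddCommGrpCat.{u} (Opens.grothendieckTopology Y)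
    (Opens.grothendieckTopology X)

/-- inverse image (definitionally `TopCat.Sheaf.pullback`) -/
noncomputable abbrev pull : Sheaf (Opens.grothendieckTopology Y) AddCommGrpCat.{u} ⥤ Sheaf (Opens.grothendieckTopology X) AddCommGrpCat.{u} :=
  (Opens.map f).sheafPullback AddCommGrpCat.{u} (Opens.grothendieckTopology Y)
    (Opens.grothendieckTopology X)

/-- the adjunction -/
noncomputable abbrev adj : pull f ⊣ push f :=
  (Opens.map f).sheafAdjunctionContinuous AddCommGrpCat.{u} (Opens.grothendieckTopology Y)
    (Opens.grothendieckTopology X)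

instance push_additive : @Functor.Additive _ _ _ _ Abelian.toPreadditive Abelian.toPreadditive
    (push f) where

attribute [local instance] reflectsLimits_of_reflectsIsomorphisms in
lemma lan_preservesFiniteLimits :
    PreservesFiniteLimits ((Opens.map f).op.lan : (_ ⥤ _ ⥤ AddCommGrpCat.{u})) :=
  lan_preservesFiniteLimits_of_flat _ _

instance pull_preservesFiniteLimits : PreservesFiniteLimits (pull f) := by
  have := lan_preservesFiniteLimits f
  exact Functor.sheafPullbackConstruction.preservesFiniteLimits _ _ _ _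

instance pull_preservesColimits : PreservesColimits (pull f) :=
  (adj f).leftAdjoint_preservesColimits

instance pull_preservesFiniteColimits : PreservesFiniteColimits (pull f) :=
  PreservesColimitsOfSize.preservesFiniteColimits _

instance pull_additive : @Functor.Additive _ _ _ _ Abelian.toPreadditive Abelian.toPreadditive
    (pull f) :=
  letI : Preadditive (Sheaf (Opens.grothendieckTopology X) AddCommGrpCat.{u}) :=
    Abelian.toPreadditive
  letI : Preadditive (Sheaf (Opens.grothendieckTopology Y) AddCommGrpCat.{u}) :=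
    Abelian.toPreadditive
  Functor.additive_of_preserves_binary_products _

instance push_preservesLimits : PreservesLimits (push f) :=
  (adj f).rightAdjoint_preservesLimits

instance push_preservesInjectiveObjects : (push f).PreservesInjectiveObjects :=
  Functor.preservesInjectiveObjects_of_adjunction_of_preservesMonomorphisms (adj f)

/-- the section of `F` over `f⁻¹ W` attached to a morphism `f⁻¹ Z_W ⟶ F`. -/
noncomputable def psec (W : Opens Y) {F : Sheaf (Opens.grothendieckTopology X) AddCommGrpCat.{u}} (φ : (pull f).obj (ZO W) ⟶ F) :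
    F.obj.obj (op ((Opens.map f).obj W)) :=
  sec (U := W) (F := (push f).obj F) ((adj f).homEquiv (ZO W) F φ)

lemma psec_bijective (W : Opens Y) (F : Sheaf (Opens.grothendieckTopology X) AddCommGrpCat.{u}) :
    Function.Bijective (psec f W (F := F)) :=
  (sec_bijective (U := W) (F := (push f).obj F)).comp ((adj f).homEquiv (ZO W) F).bijective

lemma psec_comp (W : Opens Y) {F G : Sheaf (Opens.grothendieckTopology X) AddCommGrpCat.{u}} (φ : (pull f).obj (ZO W) ⟶ F) (ψ : F ⟶ G) :
    psec f W (φ ≫ ψ) = ψ.hom.app (op ((Opens.map f).obj W)) (psec f W φ) := by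
  rw [psec, Adjunction.homEquiv_naturality_right, sec_comp]
  rfl

lemma psec_map {V W : Opens Y} (h : V ≤ W) {F : Sheaf (Opens.grothendieckTopology X) AddCommGrpCat.{u}} (φ : (pull f).obj (ZO W) ⟶ F) :
    psec f V ((pull f).map (ZOmap h) ≫ φ) =
      F.obj.map ((Opens.map f).map (homOfLE h)).op (psec f W φ) := by
  rw [psec, Adjunction.homEquiv_naturality_left, sec_map]
  rfl

/-- The canonical map `f⁻¹ Z_W ⟶ Z_{f⁻¹ W}`. -/
noncomputable def pullZO (W : Opens Y) : (pull f).obj (ZO W) ⟶ ZO ((Opens.map f).obj W) :=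
  (psec_bijective f W _).2 (gen (Opens.grothendieckTopology X) ((Opens.map f).obj W)) |>.choose

lemma psec_pullZO (W : Opens Y) :
    psec f W (pullZO f W) = gen (Opens.grothendieckTopology X) ((Opens.map f).obj W) :=
  (psec_bijective f W _).2 (gen (Opens.grothendieckTopology X) ((Opens.map f).obj W)) |>.choose_spec

lemma psec_pullZO_comp (W : Opens Y) {F : Sheaf (Opens.grothendieckTopology X) AddCommGrpCat.{u}} (φ : ZO ((Opens.map f).obj W) ⟶ F) :
    psec f W (pullZO f W ≫ φ) = sec φ := by
  rw [psec_comp, psec_pullZO]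
  rfl

lemma pullZO_comp_bijective (W : Opens Y) (F : Sheaf (Opens.grothendieckTopology X) AddCommGrpCat.{u}) :
    Function.Bijective (fun φ : ZO ((Opens.map f).obj W) ⟶ F => pullZO f W ≫ φ) := by
  have h1 : (fun φ : ZO ((Opens.map f).obj W) ⟶ F => sec φ) =
      (psec f W (F := F)) ∘ (fun φ : ZO ((Opens.map f).obj W) ⟶ F => pullZO f W ≫ φ) := by
    ext φ
    exact (psec_pullZO_comp f W φ).symm
  have h2 : Function.Bijective (fun φ : ZO ((Opens.map f).obj W) ⟶ F => sec φ) := sec_bijective
  rw [h1] at h2
  exact (Function.Bijective.of_comp_iff' (psec_bijective f W F) _).1 h2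

instance isIso_pullZO (W : Opens Y) : IsIso (pullZO f W) := by
  obtain ⟨r, hr⟩ := (pullZO_comp_bijective f W _).2 (𝟙 ((pull f).obj (ZO W)))
  refine ⟨r, hr, ?_⟩
  apply (pullZO_comp_bijective f W _).1
  dsimp only at hr ⊢
  rw [← Category.assoc, hr, Category.id_comp, Category.comp_id]

lemma pullZO_naturality {V W : Opens Y} (h : V ≤ W) :
    (pull f).map (ZOmap h) ≫ pullZO f W =
      pullZO f V ≫ (ZF (Opens.grothendieckTopology X)).map ((Opens.map f).map (homOfLE h)) := by
  apply (psec_bijective f V _).1
  rw [psec_map, psec_pullZO_comp, psec_pullZO]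
  exact (gen_map _).symm

section PushH

/-- The canonical map `H^n(W, f_* F) → H^n(f⁻¹ W, F)`. -/
noncomputable def pushH (W : Opens Y) (F : Sheaf (Opens.grothendieckTopology X) AddCommGrpCat.{u}) (n : ℕ) :
    Ext.{u} (ZO W) ((push f).obj F) n →+ Ext.{u} (ZO ((Opens.map f).obj W)) F n :=
  ((Ext.mk₀ (inv (pullZO f W))).precomp F (zero_add n)).comp (canon (adj f) (ZO W) F n)

lemma pushH_apply (W : Opens Y) (F : Sheaf (Opens.grothendieckTopology X) AddCommGrpCat.{u}) (n : ℕ) (x : Ext.{u} (ZO W) ((push f).obj F) n) :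
    pushH f W F n x = (Ext.mk₀ (inv (pullZO f W))).comp (canon (adj f) (ZO W) F n x)
      (zero_add n) := rfl

/-- naturality of `pushH` in the sheaf -/
lemma pushH_postcomp (W : Opens Y) {F G : Sheaf (Opens.grothendieckTopology X) AddCommGrpCat.{u}} (ψ : F ⟶ G) (n : ℕ)
    (x : Ext.{u} (ZO W) ((push f).obj F) n) :
    pushH f W G n (x.comp (Ext.mk₀ ((push f).map ψ)) (add_zero n)) =
      (pushH f W F n x).comp (Ext.mk₀ ψ) (add_zero n) := by
  rw [pushH_apply, canon_postcomp, pushH_apply, Ext.comp_assoc_of_third_deg_zero]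

/-- naturality of `pushH` in the open -/
lemma pushH_precomp {V W : Opens Y} (h : V ≤ W) (F : Sheaf (Opens.grothendieckTopology X) AddCommGrpCat.{u}) (n : ℕ)
    (x : Ext.{u} (ZO W) ((push f).obj F) n) :
    pushH f V F n ((Ext.mk₀ (ZOmap h)).comp x (zero_add n)) =
      (Ext.mk₀ ((ZF (Opens.grothendieckTopology X)).map ((Opens.map f).map (homOfLE h)))).comp
        (pushH f W F n x) (zero_add n) := by
  rw [pushH_apply, canon_precomp, pushH_apply, ← Ext.comp_assoc _ _ _ (zero_add 0) _ (by omega),
    ← Ext.comp_assoc _ _ _ (zero_add 0) _ (by omega), Ext.mk₀_comp_mk₀, Ext.mk₀_comp_mk₀]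
  congr 2
  rw [IsIso.inv_comp_eq, ← Category.assoc, IsIso.eq_comp_inv, pullZO_naturality]

/-- compatibility of `pushH` with connecting maps -/
lemma pushH_extClass (W : Opens Y) {S : ShortComplex (Sheaf (Opens.grothendieckTopology X) AddCommGrpCat.{u})} (hS : S.ShortExact)
    (hGS : (S.map (push f)).ShortExact) {n m : ℕ} (h : n + 1 = m)
    (x : Ext.{u} (ZO W) (S.map (push f)).X₃ n) :
    pushH f W S.X₁ m (x.comp hGS.extClass h) =
      (pushH f W S.X₃ n x).comp hS.extClass h := by
  rw [pushH_apply, canon_extClass, pushH_apply, Ext.comp_assoc]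
  omega

/-- `H^q(f⁻¹ V, F) = 0` for all `V` in `B` and `q > 0`. -/
def AcyclicOn (B : Set (Opens Y)) (F : Sheaf (Opens.grothendieckTopology X) AddCommGrpCat.{u}) : Prop :=
  ∀ V ∈ B, ∀ q : ℕ, Subsingleton (Ext.{u} (ZO ((Opens.map f).obj V)) F (q + 1))

/-- An epimorphism criterion: a morphism of abelian sheaves which is surjective on a basis
is an epimorphism. -/
lemma epi_of_surjective_basis {Z : TopCat.{u}} {B : Set (Opens Z)} (hB : Opens.IsBasis B)
    {F G : Sheaf (Opens.grothendieckTopology Z) AddCommGrpCat.{u}} (φ : F ⟶ G) (h : ∀ V ∈ B, Function.Surjective (φ.hom.app (op V))) : Epi φ := by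
  rw [← Sheaf.isLocallySurjective_iff_epi']
  refine ⟨fun {U} s x hx => ?_⟩
  obtain ⟨V, hV, hxV, hVU⟩ := Opens.isBasis_iff_nbhd.1 hB hx
  obtain ⟨t, ht⟩ := h V hV (G.obj.map (homOfLE hVU).op s)
  exact ⟨V, homOfLE hVU, ⟨t, ht⟩, hxV⟩

/-- short exact sequences whose kernel is acyclic on a basis stay exact after direct image -/
lemma map_shortExact {B : Set (Opens Y)} (hB : Opens.IsBasis B)
    {S : ShortComplex (Sheaf (Opens.grothendieckTopology X) AddCommGrpCat.{u})} (hS : S.ShortExact)
    (h1 : ∀ V ∈ B, Subsingleton (Ext.{u} (ZO ((Opens.map f).obj V)) S.X₁ 1)) :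
    (S.map (push f)).ShortExact := by
  have := hS.mono_f
  have h3 : ((S.map (push f))).Exact ∧ Mono (S.map (push f)).f :=
    ⟨hS.exact.map_of_mono_of_preservesKernel (push f) hS.mono_f inferInstance,
      (inferInstance : Mono ((push f).map S.f))⟩
  have h4 : Epi ((push f).map S.g) :=
    epi_of_surjective_basis hB _ (fun V hV =>
      surjective_of_subsingleton_H1 hS ((Opens.map f).obj V) (h1 V hV))
  exact { exact := h3.1, mono_f := h3.2, epi_g := h4 }

/-- the class of sheaves acyclic over the preimages of a basis is an acyclic class for `f_*` -/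
lemma acyclicClass {B : Set (Opens Y)} (hB : Opens.IsBasis B) :
    AcyclicClass (push f) (AcyclicOn f B) where
  shift F hF := by
    let S : ShortComplex (Sheaf (Opens.grothendieckTopology X) AddCommGrpCat.{u}) := ShortComplex.mk (Injective.ι F) (cokernel.π (Injective.ι F))
      (by simp)
    have hS : S.ShortExact :=
      { exact := ShortComplex.exact_of_g_is_cokernel _ (cokernelIsCokernel (Injective.ι F))
        mono_f := by dsimp [S]; infer_instance
        epi_g := by dsimp [S]; infer_instance }
    have hI : Injective S.X₂ := by dsimp [S]; infer_instance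
    refine ⟨S, hS, map_shortExact f hB hS (fun V hV => hF V hV 0), hI, ?_, rfl⟩
    intro V hV q
    exact subsingleton_quot hS _ _ (hF V hV (q + 1))
      (subsingleton_of_forall_eq 0 fun x => Ext.eq_zero_of_injective x)

/-- **Leray for acyclic direct images.** If `H^q(f⁻¹ V, F) = 0` for `q > 0` and all `V` in a basis
of `Y`, then `H^n(W, f_* F) → H^n(f⁻¹ W, F)` is bijective for every open `W` of `Y`. -/
theorem pushH_bijective {B : Set (Opens Y)} (hB : Opens.IsBasis B) (W : Opens Y) {F : Sheaf (Opens.grothendieckTopology X) AddCommGrpCat.{u}}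
    (hF : AcyclicOn f B F) (n : ℕ) : Function.Bijective (pushH f W F n) := by
  have h1 := canon_bijective (adj f) (acyclicClass f hB) (ZO W) n F hF
  exact (precomp_iso_bijective (inv (pullZO f W)) F n).comp h1

end PushH

end Groth.Agent.CohqA.HDITop
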