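import Groth.Prelude.Def_Coh
import Groth.Prelude.Def_CohTop
import Groth.Agent.CohtopA.RpushSheafify
import Groth.Agent.CohtopA.RestrCoh
import Groth.Agent.CohqA.AffineVanish
import Groth.Agent.CohqA.HTop

set_option autoImplicit false
universe u
open CategoryTheory Opposite TopologicalSpace AlgebraicGeometry

namespace Groth.Agent.CohqA.HDIZero

/-- A morphism from a presheaf vanishing on a basis to a sheaf is zero. -/
theorem hom_eq_zero {X : TopCat.{u}} (P : (Opens X)ᵒᵖ ⥤ AddCommGrpCat.{u})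
    (G : Sheaf (Opens.grothendieckTopology X) AddCommGrpCat.{u})
    (B : Set (Opens X)) (hB : Opens.IsBasis B) (h : ∀ V ∈ B, Subsingleton (P.obj (op V)))
    (φ : P ⟶ G.obj) : φ = 0 := by
  ext U x
  obtain ⟨U⟩ := U
  have hU := (Opens.isBasis_iff_cover.mp hB) U
  obtain ⟨Us, hUs, hsup⟩ := hU
  refine TopCat.Sheaf.eq_of_locally_eq' (X := X) G (fun V : Us => V.1) U
    (fun V => homOfLE (hsup ▸ le_sSup V.2)) ?_ _ _ ?_
  · rw [hsup, sSup_eq_iSup']
  · intro V
    have := h V.1 (hUs V.2)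
    have e1 := ConcreteCategory.congr_hom
      (φ.naturality (homOfLE (hsup ▸ le_sSup V.2) : V.1 ⟶ U).op) x
    refine e1.symm.trans ?_
    have e2 : (P.map (homOfLE (hsup ▸ le_sSup V.2) : V.1 ⟶ U).op) x = 0 :=
      Subsingleton.elim _ _
    rw [ConcreteCategory.comp_apply, e2, map_zero]
    exact (map_zero (G.obj.map _).hom).symm

/-- The sheafification of a presheaf vanishing on a basis is zero. -/
theorem isZero_sheafify {X : TopCat.{u}} (P : (Opens X)ᵒᵖ ⥤ AddCommGrpCat.{u})
    (B : Set (Opens X)) (hB : Opens.IsBasis B) (h : ∀ V ∈ B, Subsingleton (P.obj (op V))) :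
    Limits.IsZero ((presheafToSheaf (Opens.grothendieckTopology X) AddCommGrpCat.{u}).obj P) := by
  rw [Limits.IsZero.iff_id_eq_zero]
  apply ((sheafificationAdjunction (Opens.grothendieckTopology X) AddCommGrpCat.{u}).homEquiv
    _ _).injective
  exact (hom_eq_zero P _ B hB h _).trans (hom_eq_zero P _ B hB h _).symm

variable {X Y : Scheme.{u}}

/-- `R^i f_* F = 0` if `H^i(f⁻¹V, F) = 0` for `V` in a basis. -/
theorem isZero_RpushAb (f : X ⟶ Y) (F : Sheaf (Opens.grothendieckTopology X) AddCommGrpCat.{u})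
    (i : ℕ) (B : Set Y.Opens) (hB : Opens.IsBasis B)
    (h : ∀ V ∈ B, Subsingleton (Sheaf.H' F i (f ⁻¹ᵁ V))) :
    Limits.IsZero ((Coh.RpushAb f i).obj F) := by
  refine Limits.IsZero.of_iso (isZero_sheafify
    ((Opens.map f.base).op ⋙ Sheaf.cohomologyPresheaf.{u} F i) B hB h)
    (CohtopA.RpushSheafify.rpushObjIso (Opens.grothendieckTopology X)
    (Opens.grothendieckTopology Y) (Opens.map f.base) F i)

/-- Higher direct images of quasi-coherent modules along affine morphisms vanish. -/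
theorem isZero_RpushAb_of_isAffineHom (f : X ⟶ Y) [IsAffineHom f] (M : X.Modules) [Coh.IsQCoh M]
    (i : ℕ) (hi : 0 < i) : Limits.IsZero ((Coh.RpushAb f i).obj (Coh.toAb M)) := by
  refine isZero_RpushAb f _ i {V | IsAffineOpen V} Y.isBasis_affineOpens fun V hV => ?_
  have hW : IsAffineOpen (f ⁻¹ᵁ V) := hV.preimage f
  exact AffineVanish.HU_subsingleton M i hi _ hW

end Groth.Agent.CohqA.HDIZero
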