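import Groth.Agent.CohqA.AffCrit
import Groth.Agent.Divis.IdealFT

/-!
# Lifting modulo ideal sheaves: reduction to ideal sheaves of finite type
-/

set_option autoImplicit false
universe u

open CategoryTheory Limits AlgebraicGeometry Opposite TopologicalSpace

namespace Groth.Agent.CohqA.LiftFT

open Groth.Agent.CohqA.AffCrit

variable {X : Scheme.{u}}

/-- If a section over an open `W` lies in `K` on affine opens covering `W`, it does on all affine opens. -/
lemma mem_ideal_of_cover (K : X.IdealSheafData) {W : X.Opens} (s : Γ(X, W)) {κ : Type*}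
    (a : κ → X.affineOpens) (ha : W = ⨆ k, (a k).1)
    (h : ∀ k, X.presheaf.map (homOfLE ((le_iSup (fun k ↦ (a k).1) k).trans_eq ha.symm)).op s ∈
      K.ideal (a k)) (V : X.affineOpens) (hV : V.1 ≤ W) :
    X.presheaf.map (homOfLE hV).op s ∈ K.ideal V := by
  refine Divis.IdealFT.mem_ideal_of_subschemeι_app_eq_zero K W s
    (Divis.IdealFT.subschemeι_app_eq_zero K W s fun x hx ↦ ?_) V hV
  obtain ⟨k, hk⟩ := Opens.mem_iSup.mp (ha.le hx)
  exact ⟨a k, (le_iSup (fun k ↦ (a k).1) k).trans_eq ha.symm, hk, h k⟩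

/-- On a qcqs scheme it is enough to lift modulo ideal sheaves of finite type. -/
theorem liftProp_of_ft [CompactSpace X] [QuasiSeparatedSpace X]
    (h : ∀ K : X.IdealSheafData, BlowUp.IsFiniteTypeIdeal K → LiftProp K) (K : X.IdealSheafData) :
    LiftProp K := by
  intro ι _ U hU s hs
  -- the differences over the overlaps
  let W : ι × ι → X.Opens := fun p ↦ (U p.1).1 ⊓ (U p.2).1
  have hW : ∀ p, IsCompact (W p : Set X) := fun p ↦
    (U p.1).2.isCompact.inter_of_isOpen (U p.2).2.isCompact (U p.1).1.isOpen (U p.2).1.isOpen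
  let d : ∀ p, Γ(X, W p) := fun p ↦ X.presheaf.map (homOfLE inf_le_left).op (s p.1) -
    X.presheaf.map (homOfLE inf_le_right).op (s p.2)
  have hbasis : Opens.IsBasis (Set.range (fun V : X.affineOpens ↦ V.1)) := by
    have := X.isBasis_affineOpens
    rwa [← Subtype.range_coe (s := X.affineOpens)] at this
  choose κ hκ a ha using fun p ↦ hbasis.exists_iSup_eq_of_isCompact (W p) (hW p)
  have hle : ∀ p k, (a p k).1 ≤ W p := fun p k ↦
    (le_iSup (fun k ↦ (a p k).1) k).trans_eq (ha p).symm
  obtain ⟨K', hK', hft, hmem⟩ := Divis.IdealFT.exists_ft_mem_family K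
    (ι := Σ p, κ p) (fun q ↦ a q.1 q.2)
    (fun q ↦ Ideal.span {X.presheaf.map (homOfLE (hle q.1 q.2)).op (d q.1)})
    (fun q ↦ ⟨{X.presheaf.map (homOfLE (hle q.1 q.2)).op (d q.1)}, by rw [Finset.coe_singleton]⟩) (fun q ↦ by
      rw [Ideal.span_singleton_le_iff_mem]
      dsimp only [d]
      rw [map_sub, res_res, res_res]
      exact hs _ _ _ _ _)
  obtain ⟨t, ht⟩ := h K' hft ι U hU s (by
    intro i j V hi hj
    have := mem_ideal_of_cover K' (d (i, j)) (a (i, j)) (ha (i, j)) (fun k ↦ by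
      exact (Ideal.span_singleton_le_iff_mem _).mp (hmem ⟨(i, j), k⟩)) V (le_inf hi hj)
    dsimp only [d] at this
    rw [map_sub, res_res, res_res] at this
    exact this)
  exact ⟨t, fun i ↦ hK' _ (ht i)⟩

end Groth.Agent.CohqA.LiftFT
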