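import Mathlib.RingTheory.Regular.RegularSequence
import Mathlib.RingTheory.Ideal.AssociatedPrime.Finiteness
import Mathlib.LinearAlgebra.Matrix.Determinant.Basic
import Mathlib.LinearAlgebra.Matrix.Adjugate

/-!
# Linkage of regular sequences

`R` Noetherian local, `J` an ideal, `f, h : Fin n → R` weakly regular sequences on `R ⧸ J` inside the maximal
ideal and `M` a matrix with `f ≡ M h mod J`.  Then, modulo `J`,
`(f) : (h) = (f) + (det M)` and `(f) : det M = (h)`.
-/

set_option autoImplicit false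

namespace Groth.Agent.CohqA.Linkage

open RingTheory.Sequence Ideal
open scoped Pointwise

variable {R : Type*} [CommRing R]

/-- elementwise weakly regular sequences modulo `J` -/
def WReg (J : Ideal R) : List R → Prop
  | [] => True
  | r :: rs => (∀ x, r * x ∈ J → x ∈ J) ∧ WReg (J ⊔ Ideal.span {r}) rs

@[simp] lemma wreg_nil (J : Ideal R) : WReg J [] := trivial

lemma wreg_cons (J : Ideal R) (r : R) (rs : List R) :
    WReg J (r :: rs) ↔ (∀ x, r * x ∈ J → x ∈ J) ∧ WReg (J ⊔ Ideal.span {r}) rs := Iff.rfl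

lemma ker_factor (J : Ideal R) (r : R) :
    LinearMap.ker (Submodule.factor (le_sup_left : J ≤ J ⊔ Ideal.span {r})) =
      r • (⊤ : Submodule R (R ⧸ J)) := by
  ext x
  obtain ⟨x, rfl⟩ := Submodule.Quotient.mk_surjective _ x
  rw [LinearMap.mem_ker]
  change (Submodule.Quotient.mk x : R ⧸ (J ⊔ Ideal.span {r})) = 0 ↔ _
  rw [Submodule.Quotient.mk_eq_zero, Submodule.mem_smul_pointwise_iff_exists]
  constructor
  · intro h
    obtain ⟨j, hj, z, hz, rfl⟩ := Submodule.mem_sup.mp h
    obtain ⟨a, rfl⟩ := Ideal.mem_span_singleton'.mp hz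
    refine ⟨Submodule.Quotient.mk a, trivial, ?_⟩
    rw [← Submodule.Quotient.mk_smul, smul_eq_mul, Submodule.Quotient.eq]
    have : r * a - (j + a * r) = -j := by ring
    rw [this]; exact neg_mem hj
  · rintro ⟨y, -, hy⟩
    obtain ⟨a, rfl⟩ := Submodule.Quotient.mk_surjective _ y
    rw [← Submodule.Quotient.mk_smul, smul_eq_mul, Submodule.Quotient.eq] at hy
    have : x = -(r * a - x) + a * r := by ring
    rw [this]
    exact add_mem (Submodule.mem_sup_left (neg_mem hy))
      (Submodule.mem_sup_right (Ideal.mem_span_singleton'.mpr ⟨a, rfl⟩))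

/-- `(R/J)/r = R/(J + (r))` -/
noncomputable def quotEquiv (J : Ideal R) (r : R) :
    QuotSMulTop r (R ⧸ J) ≃ₗ[R] R ⧸ (J ⊔ Ideal.span {r}) :=
  (Submodule.quotEquivOfEq _ _ (ker_factor J r).symm).trans
    (LinearMap.quotKerEquivOfSurjective _ (Submodule.factor_surjective _))

lemma isSMulRegular_iff (J : Ideal R) (r : R) :
    IsSMulRegular (R ⧸ J) r ↔ ∀ x, r * x ∈ J → x ∈ J := by
  rw [isSMulRegular_iff_right_eq_zero_of_smul]
  constructor
  · intro h x hx
    have := h (Submodule.Quotient.mk x) (by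
      rw [← Submodule.Quotient.mk_smul, Submodule.Quotient.mk_eq_zero]; exact hx)
    exact (Submodule.Quotient.mk_eq_zero _).mp this
  · intro h x hx
    obtain ⟨x, rfl⟩ := Submodule.Quotient.mk_surjective _ x
    rw [← Submodule.Quotient.mk_smul, Submodule.Quotient.mk_eq_zero] at hx
    exact (Submodule.Quotient.mk_eq_zero _).mpr (h x hx)

lemma wreg_iff (J : Ideal R) (rs : List R) : WReg J rs ↔ IsWeaklyRegular (R ⧸ J) rs := by
  induction rs generalizing J with
  | nil => simp
  | cons r rs ih =>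
    rw [wreg_cons, isWeaklyRegular_cons_iff, isSMulRegular_iff, ih,
      (quotEquiv J r).isWeaklyRegular_congr]

lemma WReg.perm [IsLocalRing R] [IsNoetherianRing R] {J : Ideal R} {rs rs' : List R}
    (h : WReg J rs) (hp : rs.Perm rs') (hm : ∀ r ∈ rs, r ∈ IsLocalRing.maximalIdeal R) :
    WReg J rs' := by
  rw [wreg_iff] at h ⊢
  exact IsLocalRing.isWeaklyRegular_of_perm_of_subset_maximalIdeal h hp hm

lemma wreg_append (J : Ideal R) (rs ss : List R) :
    WReg J (rs ++ ss) ↔ WReg J rs ∧ WReg (J ⊔ Ideal.ofList rs) ss := by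
  induction rs generalizing J with
  | nil => simp
  | cons r rs ih =>
    rw [List.cons_append, wreg_cons, wreg_cons, ih, and_assoc, Ideal.ofList_cons, sup_assoc]

lemma ofList_ofFn {n : ℕ} (f : Fin n → R) : Ideal.ofList (List.ofFn f) = Ideal.span (Set.range f) := by
  unfold Ideal.ofList
  congr 1
  ext x
  simp [List.mem_ofFn]

lemma range_eq {n : ℕ} (f : Fin (n + 1) → R) :
    Ideal.span (Set.range f) = Ideal.span {f 0} ⊔ Ideal.span (Set.range (Fin.tail f)) := by
  rw [← Ideal.span_union]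
  congr 1
  ext x
  simp only [Set.mem_range, Set.mem_union, Set.mem_singleton_iff, Fin.exists_fin_succ]
  constructor
  · rintro (h | ⟨i, h⟩)
    · exact Or.inl h.symm
    · exact Or.inr ⟨i, h⟩
  · rintro (h | ⟨i, h⟩)
    · exact Or.inl h.symm
    · exact Or.inr ⟨i, h⟩

/-- moving the first element of a sequence to the end, elementwise -/
lemma WReg.last [IsLocalRing R] [IsNoetherianRing R] {J : Ideal R} {n : ℕ} {f : Fin (n + 1) → R}
    (h : WReg J (List.ofFn f)) (hm : ∀ i, f i ∈ IsLocalRing.maximalIdeal R) :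
    WReg J (List.ofFn (Fin.tail f)) ∧
      ∀ x, f 0 * x ∈ J ⊔ Ideal.span (Set.range (Fin.tail f)) → x ∈ J ⊔ Ideal.span (Set.range (Fin.tail f)) := by
  rw [List.ofFn_succ] at h
  have h2 := h.perm (rs' := List.ofFn (Fin.tail f) ++ [f 0]) (List.perm_append_singleton _ _).symm (by
    intro r hr
    rw [← List.ofFn_succ, List.mem_ofFn] at hr
    obtain ⟨i, rfl⟩ := hr
    exact hm i)
  rw [wreg_append, ofList_ofFn] at h2
  exact ⟨h2.1, h2.2.1⟩

lemma WReg.of_last [IsLocalRing R] [IsNoetherianRing R] {J : Ideal R} {n : ℕ} {f : Fin n → R} {y : R}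
    (h : WReg J (List.ofFn f)) (hm : ∀ i, f i ∈ IsLocalRing.maximalIdeal R)
    (hy : y ∈ IsLocalRing.maximalIdeal R)
    (h' : ∀ x, y * x ∈ J ⊔ Ideal.span (Set.range f) → x ∈ J ⊔ Ideal.span (Set.range f)) :
    WReg (J ⊔ Ideal.span {y}) (List.ofFn f) := by
  have h2 : WReg J (List.ofFn f ++ [y]) := by
    rw [wreg_append, ofList_ofFn]
    exact ⟨h, h', trivial⟩
  have h3 := h2.perm (rs' := y :: List.ofFn f) (List.perm_append_singleton _ _) (by
    intro r hr
    rw [List.mem_append, List.mem_ofFn, List.mem_singleton] at hr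
    rcases hr with ⟨i, rfl⟩ | rfl
    · exact hm i
    · exact hy)
  exact h3.2

lemma cramer_aux {n : ℕ} (M : Matrix (Fin (n + 1)) (Fin (n + 1)) R) (c : Fin (n + 1) → R) :
    ∑ j, c j * M.adjugate j 0 = (M.updateRow 0 c).det := by
  rw [Matrix.det_eq_sum_mul_adjugate_row (M.updateRow 0 c) 0]
  refine Finset.sum_congr rfl fun j _ => ?_
  rw [Matrix.updateRow_self, Matrix.adjugate_apply, Matrix.adjugate_apply, Matrix.updateRow_idem]

/-- Cramer modulo an ideal: if `f i ≡ (M h) i` mod `I` and `f i ∈ I` for `i ≠ 0`, then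
`det M * (c · h) ≡ det (M with row 0 replaced by c) * f 0`. -/
lemma cramer_mod {n : ℕ} (I : Ideal R) (M : Matrix (Fin (n + 1)) (Fin (n + 1)) R)
    (f h c : Fin (n + 1) → R) (hM : ∀ i, f i - ∑ j, M i j * h j ∈ I) (hf : ∀ i : Fin n, f i.succ ∈ I) :
    M.det * (∑ j, c j * h j) - (M.updateRow 0 c).det * f 0 ∈ I := by
  have h1 : ∀ i, M.det * h i = ∑ k, M.adjugate i k * (∑ j, M k j * h j) := by
    intro i
    have := congrFun (Matrix.mulVec_mulVec h M.adjugate M) i
    rw [Matrix.adjugate_mul] at this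
    simp only [Matrix.mulVec, dotProduct, Matrix.smul_apply, Matrix.one_apply, smul_eq_mul,
      mul_ite, mul_one, mul_zero, ite_mul, zero_mul, Finset.sum_ite_eq, Finset.mem_univ, if_true] at this
    exact this.symm
  have h2 : M.det * (∑ j, c j * h j) = ∑ j, c j * ∑ k, M.adjugate j k * (∑ l, M k l * h l) := by
    rw [Finset.mul_sum]
    refine Finset.sum_congr rfl fun j _ => ?_
    rw [← h1 j]; ring
  rw [h2, ← cramer_aux, Finset.sum_mul, ← Finset.sum_sub_distrib]
  refine Ideal.sum_mem _ fun j _ => ?_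
  rw [mul_assoc, ← mul_sub]
  refine Ideal.mul_mem_left _ _ ?_
  rw [Fin.sum_univ_succ]
  have e : M.adjugate j 0 * ∑ l, M 0 l * h l + ∑ i : Fin n, M.adjugate j i.succ * ∑ l, M i.succ l * h l -
      M.adjugate j 0 * f 0 = -(M.adjugate j 0 * (f 0 - ∑ l, M 0 l * h l)) +
        ∑ i : Fin n, M.adjugate j i.succ * ∑ l, M i.succ l * h l := by ring
  rw [e]
  refine add_mem (neg_mem (Ideal.mul_mem_left _ _ (hM 0))) (Ideal.sum_mem _ fun i _ => ?_)
  refine Ideal.mul_mem_left _ _ ?_
  have : ∑ l, M i.succ l * h l = f i.succ - (f i.succ - ∑ l, M i.succ l * h l) := by ring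
  rw [this]
  exact sub_mem (hf i) (hM _)

/-- Schur complement of a unit in the first row. -/
lemma det_schur {n : ℕ} (M : Matrix (Fin (n + 1)) (Fin (n + 1)) R) (u : R) (hu : u * M 0 0 = 1) :
    M.det = M 0 0 * (Matrix.of fun i j : Fin n => M i.succ j.succ - M i.succ 0 * u * M 0 j.succ).det := by
  set B : Matrix (Fin (n + 1)) (Fin (n + 1)) R :=
    Matrix.of fun i j => M i j - (if j = 0 then 0 else u * M 0 j) * M i 0 with hB
  have hdet : M.det = B.det := by
    rw [← Matrix.det_transpose M, ← Matrix.det_transpose B]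
    refine Matrix.det_eq_of_forall_row_eq_smul_add_const (fun j => if j = 0 then 0 else u * M 0 j) 0
      (by simp) fun i j => ?_
    simp only [hB, Matrix.transpose_apply, Matrix.of_apply, if_true, zero_mul, sub_zero]
    ring
  rw [hdet, Matrix.det_succ_row_zero, Fin.sum_univ_succ]
  have hz : ∑ i : Fin n, (-1) ^ ((i.succ : Fin (n + 1)) : ℕ) * B 0 i.succ *
      (B.submatrix Fin.succ (Fin.succAbove i.succ)).det = 0 := by
    refine Finset.sum_eq_zero fun i _ => ?_
    have : B 0 i.succ = 0 := by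
      simp only [hB, Matrix.of_apply, Fin.succ_ne_zero, if_false]
      calc _ = M 0 i.succ * (1 - u * M 0 0) := by ring
        _ = 0 := by rw [hu]; ring
    rw [this]; ring
  rw [hz, add_zero]
  have h00 : B 0 0 = M 0 0 := by simp [hB]
  have hN : B.submatrix Fin.succ (Fin.succAbove 0) =
      Matrix.of fun i j : Fin n => M i.succ j.succ - M i.succ 0 * u * M 0 j.succ := by
    ext i j
    simp only [hB, Matrix.submatrix_apply, Matrix.of_apply, Fin.succAbove_zero, Fin.succ_ne_zero,
      if_false]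
    ring
  rw [h00, hN]
  simp

/-- The two linkage statements. -/
def Link (J : Ideal R) {n : ℕ} (f h : Fin n → R) (M : Matrix (Fin n) (Fin n) R) : Prop :=
  (∀ x, (∀ j, x * h j ∈ J ⊔ Ideal.span (Set.range f)) →
      x ∈ J ⊔ Ideal.span (Set.range f) ⊔ Ideal.span {M.det}) ∧
    ∀ x, x * M.det ∈ J ⊔ Ideal.span (Set.range f) → x ∈ J ⊔ Ideal.span (Set.range h)

lemma mem_sup_span_singleton {I : Ideal R} {a x : R} :
    x ∈ I ⊔ Ideal.span {a} ↔ ∃ b, x - b * a ∈ I := by
  constructor
  · intro h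
    obtain ⟨i, hi, z, hz, rfl⟩ := Submodule.mem_sup.mp h
    obtain ⟨b, rfl⟩ := Ideal.mem_span_singleton'.mp hz
    exact ⟨b, by simpa using hi⟩
  · rintro ⟨b, hb⟩
    have : x = (x - b * a) + b * a := by ring
    rw [this]
    exact add_mem (Submodule.mem_sup_left hb)
      (Submodule.mem_sup_right (Ideal.mem_span_singleton'.mpr ⟨b, rfl⟩))

lemma step [IsLocalRing R] [IsNoetherianRing R] {n : ℕ}
    (ih : ∀ (J : Ideal R) (f h : Fin n → R) (M : Matrix (Fin n) (Fin n) R),
      (∀ i, f i ∈ IsLocalRing.maximalIdeal R) → (∀ i, h i ∈ IsLocalRing.maximalIdeal R) →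
      WReg J (List.ofFn f) → WReg J (List.ofFn h) → (∀ i, f i - ∑ j, M i j * h j ∈ J) → Link J f h M)
    (J : Ideal R) (f h : Fin (n + 1) → R) (M : Matrix (Fin (n + 1)) (Fin (n + 1)) R)
    (hfm : ∀ i, f i ∈ IsLocalRing.maximalIdeal R) (hhm : ∀ i, h i ∈ IsLocalRing.maximalIdeal R)
    (hf : WReg J (List.ofFn f)) (hh : WReg J (List.ofFn h)) (hM : ∀ i, f i - ∑ j, M i j * h j ∈ J)
    (c : Fin (n + 1) → R) (u : R) (hu : u * c 0 = 1)
    (hy : ∀ x, (∑ j, c j * h j) * x ∈ J ⊔ Ideal.span (Set.range (Fin.tail f)) →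
      x ∈ J ⊔ Ideal.span (Set.range (Fin.tail f))) : Link J f h M := by
  set y : R := ∑ j, c j * h j with hydef
  set I : Ideal R := J ⊔ Ideal.span (Set.range (Fin.tail f)) with hI
  set J' : Ideal R := J ⊔ Ideal.span {y} with hJ'
  have hym : y ∈ IsLocalRing.maximalIdeal R :=
    Ideal.sum_mem _ fun j _ => Ideal.mul_mem_left _ _ (hhm j)
  obtain ⟨hf1, hf0⟩ := hf.last hfm
  obtain ⟨hh1, hh0⟩ := hh.last hhm
  rw [← hI] at hf0
  have hf' : WReg J' (List.ofFn (Fin.tail f)) := hf1.of_last (fun i => hfm _) hym hy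
  have hySum : y = c 0 * h 0 + ∑ j : Fin n, c j.succ * h j.succ := by
    rw [hydef, Fin.sum_univ_succ]
  have hh' : WReg J' (List.ofFn (Fin.tail h)) := by
    refine hh1.of_last (fun i => hhm _) hym fun x hx => ?_
    have h1 : (∑ j : Fin n, c j.succ * h j.succ) ∈ J ⊔ Ideal.span (Set.range (Fin.tail h)) :=
      Ideal.sum_mem _ fun j _ => Ideal.mul_mem_left _ _
        (Submodule.mem_sup_right (Ideal.subset_span ⟨j, rfl⟩))
    have h2 : h 0 * (c 0 * x) ∈ J ⊔ Ideal.span (Set.range (Fin.tail h)) := by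
      have : h 0 * (c 0 * x) = y * x - (∑ j : Fin n, c j.succ * h j.succ) * x := by
        rw [hySum]; ring
      rw [this]
      exact sub_mem hx (Ideal.mul_mem_right _ _ h1)
    have h3 := hh0 _ h2
    have : x = u * (c 0 * x) := by rw [← mul_assoc, hu, one_mul]
    rw [this]
    exact Ideal.mul_mem_left _ _ h3
  set N : Matrix (Fin n) (Fin n) R :=
    Matrix.of fun i j => M i.succ j.succ - M i.succ 0 * u * c j.succ with hN
  have hMN : ∀ i, Fin.tail f i - ∑ j, N i j * Fin.tail h j ∈ J' := by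
    intro i
    have e : Fin.tail f i - ∑ j, N i j * Fin.tail h j =
        (f i.succ - ∑ j, M i.succ j * h j) + (M i.succ 0 * u) * y := by
      rw [hySum, Fin.sum_univ_succ]
      simp only [hN, Matrix.of_apply, Fin.tail, sub_mul, Finset.sum_sub_distrib]
      have : ∑ x : Fin n, M i.succ 0 * u * c x.succ * h x.succ =
          M i.succ 0 * u * ∑ x : Fin n, c x.succ * h x.succ := by
        rw [Finset.mul_sum]; exact Finset.sum_congr rfl fun _ _ => by ring
      rw [this, mul_add, ← mul_assoc (M i.succ 0 * u) (c 0), mul_assoc (M i.succ 0) u (c 0), hu, mul_one]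
      ring
    rw [e]
    exact add_mem (Submodule.mem_sup_left (hM _))
      (Submodule.mem_sup_right (Ideal.mem_span_singleton'.mpr ⟨_, rfl⟩))
  obtain ⟨P1, P2⟩ := ih J' (Fin.tail f) (Fin.tail h) N (fun i => hfm _) (fun i => hhm _) hf' hh' hMN
  -- the determinant of `M` with first row `c`
  have hdet : (M.updateRow 0 c).det = c 0 * N.det := by
    have := det_schur (M.updateRow 0 c) u (by simpa using hu)
    rw [this, Matrix.updateRow_self]
    congr 2
  have hcr : M.det * y - (c 0 * N.det) * f 0 ∈ I := by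
    rw [← hdet]
    exact cramer_mod I M f h c (fun i => Submodule.mem_sup_left (hM i))
      fun i => Submodule.mem_sup_right (Ideal.subset_span ⟨i, rfl⟩)
  have hIf : J ⊔ Ideal.span (Set.range f) = I ⊔ Ideal.span {f 0} := by
    rw [range_eq, hI, sup_comm (Ideal.span {f 0}), sup_assoc]
  have hJ'f : J' ⊔ Ideal.span (Set.range (Fin.tail f)) = I ⊔ Ideal.span {y} := by
    rw [hI, hJ', sup_assoc, sup_comm (Ideal.span {y}), sup_assoc]
  rw [hJ'f] at P1 P2
  refine ⟨fun x hx => ?_, fun x hx => ?_⟩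
  · rw [hIf] at hx ⊢
    choose b hb using fun j => mem_sup_span_singleton.mp (hx j)
    -- `x y ≡ b f₀`
    have h1 : x * y - (∑ j, c j * b j) * f 0 ∈ I := by
      have : x * y - (∑ j, c j * b j) * f 0 = ∑ j, c j * (x * h j - b j * f 0) := by
        rw [hydef, Finset.mul_sum, Finset.sum_mul, ← Finset.sum_sub_distrib]
        exact Finset.sum_congr rfl fun _ _ => by ring
      rw [this]
      exact Ideal.sum_mem _ fun j _ => Ideal.mul_mem_left _ _ (hb j)
    set B := ∑ j, c j * b j with hB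
    have h2 : ∀ j, B * h j - b j * y ∈ I := by
      intro j
      refine hf0 _ ?_
      have : f 0 * (B * h j - b j * y) = y * (x * h j - b j * f 0) - h j * (x * y - B * f 0) := by ring
      rw [this]
      exact sub_mem (Ideal.mul_mem_left _ _ (hb j)) (Ideal.mul_mem_left _ _ h1)
    have h3 := P1 B fun j => mem_sup_span_singleton.mpr ⟨b j.succ, h2 j.succ⟩
    obtain ⟨t, ht⟩ := mem_sup_span_singleton.mp h3
    obtain ⟨s, hs⟩ := mem_sup_span_singleton.mp ht
    -- `B = i + s y + t det N`
    have h4 : y * (x - s * f 0 - t * u * M.det) ∈ I := by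
      have e : y * (x - s * f 0 - t * u * M.det) =
          (x * y - B * f 0) + f 0 * (B - t * N.det - s * y) - t * u * (M.det * y - (c 0 * N.det) * f 0) := by
        have : t * u * (c 0 * N.det * f 0) = t * N.det * f 0 := by
          calc _ = t * (u * c 0) * N.det * f 0 := by ring
            _ = _ := by rw [hu]; ring
        calc _ = (x * y - B * f 0) + f 0 * (B - t * N.det - s * y) - t * u * (M.det * y) +
              t * N.det * f 0 := by ring
          _ = _ := by rw [← this]; ring
      rw [e]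
      exact sub_mem (add_mem h1 (Ideal.mul_mem_left _ _ hs)) (Ideal.mul_mem_left _ _ hcr)
    have h5 := hy _ h4
    refine mem_sup_span_singleton.mpr ⟨t * u, mem_sup_span_singleton.mpr ⟨s, ?_⟩⟩
    have : x - t * u * M.det - s * f 0 = x - s * f 0 - t * u * M.det := by ring
    rw [this]; exact h5
  · rw [hIf] at hx
    obtain ⟨b, hb⟩ := mem_sup_span_singleton.mp hx
    have h1 : x * (c 0 * N.det) - b * y ∈ I := by
      refine hf0 _ ?_
      have : f 0 * (x * (c 0 * N.det) - b * y) =
          y * (x * M.det - b * f 0) - x * (M.det * y - c 0 * N.det * f 0) := by ring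
      rw [this]
      exact sub_mem (Ideal.mul_mem_left _ _ hb) (Ideal.mul_mem_left _ _ hcr)
    have h2 := P2 (x * c 0) (mem_sup_span_singleton.mpr ⟨b, by rwa [mul_assoc]⟩)
    have h3 : J' ⊔ Ideal.span (Set.range (Fin.tail h)) ≤ J ⊔ Ideal.span (Set.range h) := by
      refine sup_le (sup_le le_sup_left ?_) ?_
      · rw [Ideal.span_singleton_le_iff_mem]
        refine Submodule.mem_sup_right (Ideal.sum_mem _ fun j _ => Ideal.mul_mem_left _ _
          (Ideal.subset_span ⟨j, rfl⟩))
      · rw [range_eq h]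
        exact le_sup_right.trans le_sup_right
    have h4 : x = u * (x * c 0) := by
      calc x = x * (u * c 0) := by rw [hu, mul_one]
        _ = _ := by ring
    rw [h4]
    exact Ideal.mul_mem_left _ _ (h3 h2)

/-- Prime avoidance: a combination `y` of the `h j` with a unit coefficient and regular modulo `I`. -/
lemma exists_comb [IsLocalRing R] [IsNoetherianRing R] {n : ℕ} (I : Ideal R) (h : Fin n → R)
    (hH : ¬ Ideal.span (Set.range h) ≤ IsLocalRing.maximalIdeal R * Ideal.span (Set.range h))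
    (z : R) (hz : z ∈ I ⊔ Ideal.span (Set.range h)) (hz' : ∀ x, z * x ∈ I → x ∈ I) :
    ∃ c : Fin n → R, (∃ k, IsUnit (c k)) ∧ ∀ x, (∑ j, c j * h j) * x ∈ I → x ∈ I := by
  classical
  set H := Ideal.span (Set.range h) with hHdef
  have hfin : (associatedPrimes R (R ⧸ I)).Finite := associatedPrimes.finite R (R ⧸ I)
  set s : Finset (Ideal R) := insert (IsLocalRing.maximalIdeal R * H) hfin.toFinset with hs
  have key : ¬ ((H : Set R) ⊆ ⋃ P ∈ (↑s : Set (Ideal R)), (P : Set R)) := by
    intro hsub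
    have := (Ideal.subset_union_prime (f := fun P : Ideal R => P) (IsLocalRing.maximalIdeal R * H)
      (IsLocalRing.maximalIdeal R * H) (fun P hP hne _ => by
        rw [hs, Finset.mem_insert] at hP
        rcases hP with hP | hP
        · exact absurd hP hne
        · exact ((hfin.mem_toFinset).mp hP).isPrime)).mp hsub
    obtain ⟨P, hP, hle⟩ := this
    rw [hs, Finset.mem_insert] at hP
    rcases hP with rfl | hP
    · exact hH hle
    · rw [hfin.mem_toFinset] at hP
      have hIP : I ≤ P := by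
        have := IsAssociatedPrime.annihilator_le hP
        rwa [Submodule.annihilator_top, Ideal.annihilator_quotient] at this
      have hzP : z ∈ ⋃ p ∈ associatedPrimes R (R ⧸ I), (p : Set R) :=
        Set.mem_biUnion hP ((sup_le hIP hle) hz)
      rw [biUnion_associatedPrimes_eq_zero_divisors] at hzP
      obtain ⟨x, hx0, hx⟩ := hzP
      obtain ⟨x, rfl⟩ := Ideal.Quotient.mk_surjective x
      rw [← Ideal.Quotient.mk_eq_mk, ← Submodule.Quotient.mk_smul, Submodule.Quotient.mk_eq_zero] at hx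
      exact hx0 (Ideal.Quotient.eq_zero_iff_mem.mpr (hz' x hx))
  rw [Set.not_subset] at key
  obtain ⟨y, hyH, hy⟩ := key
  obtain ⟨c, hc⟩ := (Ideal.mem_span_range_iff_exists_fun (R := R) (v := h) (x := y)).mp hyH
  refine ⟨c, ?_, fun x hx => ?_⟩
  · by_contra hcon
    push Not at hcon
    refine hy (Set.mem_biUnion (x := IsLocalRing.maximalIdeal R * H) (by simp [hs]) ?_)
    rw [← hc]
    exact Ideal.sum_mem _ fun j _ => Ideal.mul_mem_mul ((IsLocalRing.mem_maximalIdeal _).mpr (hcon j))
      (Ideal.subset_span ⟨j, rfl⟩)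
  · rw [hc] at hx
    by_contra hxI
    have hmem : y ∈ {r : R | ∃ x : R ⧸ I, x ≠ 0 ∧ r • x = 0} := by
      refine ⟨Ideal.Quotient.mk I x, ?_, ?_⟩
      · rwa [Ne, Ideal.Quotient.eq_zero_iff_mem]
      · rw [← Ideal.Quotient.mk_eq_mk, ← Submodule.Quotient.mk_smul, Submodule.Quotient.mk_eq_zero]
        exact hx
    rw [← biUnion_associatedPrimes_eq_zero_divisors] at hmem
    obtain ⟨P, hP, hyP⟩ := Set.mem_iUnion₂.mp hmem
    exact hy (Set.mem_biUnion (x := P) (by simp [hs, hP]) hyP)

omit [CommRing R] in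
lemma range_comp_perm {n : ℕ} (h : Fin n → R) (σ : Equiv.Perm (Fin n)) :
    Set.range (h ∘ σ) = Set.range h := σ.surjective.range_comp h

/-- Invariance under simultaneous permutation of the columns of `M` and of `h`. -/
lemma Link.of_perm {J : Ideal R} {n : ℕ} {f h : Fin n → R} {M : Matrix (Fin n) (Fin n) R}
    (σ : Equiv.Perm (Fin n)) (H : Link J f (h ∘ σ) (M.submatrix id σ)) : Link J f h M := by
  obtain ⟨P1, P2⟩ := H
  have hdet : (M.submatrix id σ).det = (Equiv.Perm.sign σ : ℤ) * M.det := by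
    rw [Matrix.det_permute']
  have hsq : ((Equiv.Perm.sign σ : ℤ) : R) * ((Equiv.Perm.sign σ : ℤ) : R) = 1 := by
    rw [← Int.cast_mul, ← Units.val_mul, Int.units_mul_self]
    simp
  refine ⟨fun x hx => ?_, fun x hx => ?_⟩
  · have h1 := P1 x fun j => hx (σ j)
    rw [hdet] at h1
    have hle : Ideal.span {((Equiv.Perm.sign σ : ℤ) : R) * M.det} ≤ Ideal.span {M.det} := by
      rw [Ideal.span_singleton_le_iff_mem]
      exact Ideal.mul_mem_left _ _ (Ideal.mem_span_singleton_self _)
    exact sup_le_sup_left hle _ h1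
  · have h1 := P2 (x * ((Equiv.Perm.sign σ : ℤ) : R)) (by
      rw [hdet, mul_assoc, ← mul_assoc ((Equiv.Perm.sign σ : ℤ) : R), hsq, one_mul]; exact hx)
    rw [range_comp_perm] at h1
    have : x = (x * ((Equiv.Perm.sign σ : ℤ) : R)) * ((Equiv.Perm.sign σ : ℤ) : R) := by
      rw [mul_assoc, hsq, mul_one]
    rw [this]
    exact Ideal.mul_mem_right _ _ h1

/-- **Linkage.** -/
theorem link [IsLocalRing R] [IsNoetherianRing R] {n : ℕ} :
    ∀ (J : Ideal R) (f h : Fin n → R) (M : Matrix (Fin n) (Fin n) R),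
      (∀ i, f i ∈ IsLocalRing.maximalIdeal R) → (∀ i, h i ∈ IsLocalRing.maximalIdeal R) →
      WReg J (List.ofFn f) → WReg J (List.ofFn h) → (∀ i, f i - ∑ j, M i j * h j ∈ J) →
      Link J f h M := by
  induction n with
  | zero =>
    intro J f h M _ _ _ _ _
    refine ⟨fun x _ => ?_, fun x hx => ?_⟩
    · rw [Matrix.det_isEmpty]
      exact Submodule.mem_sup_right (by rw [Ideal.span_singleton_one]; trivial)
    · rw [Matrix.det_isEmpty, mul_one] at hx
      have : Set.range f = Set.range h := by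
        rw [Set.range_eq_empty, Set.range_eq_empty]
      rwa [this] at hx
  | succ n ih =>
    intro J f h M hfm hhm hf hh hM
    by_cases hJ : J = ⊤
    · subst hJ
      exact ⟨fun x _ => by simp, fun x _ => by simp⟩
    obtain ⟨hf1, hf0⟩ := hf.last hfm
    have hH : ¬ Ideal.span (Set.range h) ≤ IsLocalRing.maximalIdeal R * Ideal.span (Set.range h) := by
      intro hle
      have hbot : Ideal.span (Set.range h) = ⊥ :=
        Submodule.eq_bot_of_le_smul_of_le_jacobson_bot (IsLocalRing.maximalIdeal R) _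
          (IsNoetherian.noetherian _) hle (IsLocalRing.maximalIdeal_le_jacobson _)
      have h0 : h 0 = 0 := by
        have : h 0 ∈ Ideal.span (Set.range h) := Ideal.subset_span ⟨0, rfl⟩
        rwa [hbot, Ideal.mem_bot] at this
      rw [List.ofFn_succ, wreg_cons, h0] at hh
      exact hJ ((Ideal.eq_top_iff_one _).mpr (hh.1 1 (by simp)))
    have hz : f 0 ∈ (J ⊔ Ideal.span (Set.range (Fin.tail f))) ⊔ Ideal.span (Set.range h) := by
      have : f 0 = (f 0 - ∑ j, M 0 j * h j) + ∑ j, M 0 j * h j := by ring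
      rw [this]
      exact add_mem (Submodule.mem_sup_left (Submodule.mem_sup_left (hM 0)))
        (Submodule.mem_sup_right (Ideal.sum_mem _ fun j _ => Ideal.mul_mem_left _ _
          (Ideal.subset_span ⟨j, rfl⟩)))
    obtain ⟨c, ⟨k, hk⟩, hc⟩ := exists_comb _ h hH (f 0) hz hf0
    set σ : Equiv.Perm (Fin (n + 1)) := Equiv.swap 0 k with hσ
    refine Link.of_perm σ ?_
    obtain ⟨u, hu⟩ := hk.exists_left_inv
    refine step ih J f (h ∘ σ) (M.submatrix id σ) hfm (fun i => hhm _) hf ?_ ?_ (c ∘ σ) u ?_ ?_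
    · refine hh.perm (Equiv.Perm.ofFn_comp_perm σ h).symm ?_
      intro r hr
      obtain ⟨i, rfl⟩ := List.mem_ofFn.mp hr
      exact hhm i
    · intro i
      have : ∑ j, (M.submatrix id σ) i j * (h ∘ σ) j = ∑ j, M i j * h j :=
        Equiv.sum_comp σ fun j => M i j * h j
      rw [this]; exact hM i
    · simpa [hσ] using hu
    · have : ∑ j, (c ∘ σ) j * (h ∘ σ) j = ∑ j, c j * h j := Equiv.sum_comp σ fun j => c j * h j
      rw [this]; exact hc

lemma wreg_bot_iff (rs : List R) : WReg ⊥ rs ↔ IsWeaklyRegular R rs := by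
  rw [wreg_iff]
  exact (Submodule.quotEquivOfEqBot (⊥ : Ideal R) rfl).isWeaklyRegular_congr rs

lemma mem_maximalIdeal_of_isRegular [IsLocalRing R] {rs : List R} (h : IsRegular R rs) {r : R}
    (hr : r ∈ rs) : r ∈ IsLocalRing.maximalIdeal R := by
  refine IsLocalRing.le_maximalIdeal (J := Ideal.ofList rs) ?_ (Ideal.subset_span hr)
  intro htop
  refine h.top_ne_smul ?_
  rw [htop, Submodule.top_smul]

/-- **Linkage of regular sequences**: for `f = M h` with `f`, `h` regular sequences of length `n` in a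
Noetherian local ring, `(f) : (h) ≤ (f) + (det M)` and `(f) : det M ≤ (h)`. -/
theorem link_of_isRegular [IsLocalRing R] [IsNoetherianRing R] {n : ℕ} (f h : Fin n → R)
    (M : Matrix (Fin n) (Fin n) R) (hf : IsRegular R (List.ofFn f)) (hh : IsRegular R (List.ofFn h))
    (hM : ∀ i, f i = ∑ j, M i j * h j) :
    (∀ x, (∀ j, x * h j ∈ Ideal.span (Set.range f)) →
      x ∈ Ideal.span (Set.range f) ⊔ Ideal.span {M.det}) ∧
    ∀ x, x * M.det ∈ Ideal.span (Set.range f) → x ∈ Ideal.span (Set.range h) := by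
  have := link ⊥ f h M (fun i => mem_maximalIdeal_of_isRegular hf (List.mem_ofFn.mpr ⟨i, rfl⟩))
    (fun i => mem_maximalIdeal_of_isRegular hh (List.mem_ofFn.mpr ⟨i, rfl⟩))
    ((wreg_bot_iff _).mpr hf.toIsWeaklyRegular) ((wreg_bot_iff _).mpr hh.toIsWeaklyRegular)
    (fun i => by rw [hM i, sub_self]; exact zero_mem _)
  simpa only [Link, bot_sup_eq] using this

/-- `det M` multiplies `(h)` into `(f)` (any commutative ring). -/
theorem det_mul_mem {n : ℕ} (f h : Fin n → R) (M : Matrix (Fin n) (Fin n) R)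
    (hM : ∀ i, f i = ∑ j, M i j * h j) (i : Fin n) : M.det * h i ∈ Ideal.span (Set.range f) := by
  have h1 : M.det * h i = ∑ k, M.adjugate i k * f k := by
    have := congrFun (Matrix.mulVec_mulVec h M.adjugate M) i
    rw [Matrix.adjugate_mul] at this
    simp only [Matrix.mulVec, dotProduct, Matrix.smul_apply, Matrix.one_apply, smul_eq_mul,
      mul_ite, mul_one, mul_zero, ite_mul, zero_mul, Finset.sum_ite_eq, Finset.mem_univ, if_true] at this
    rw [← this]
    exact Finset.sum_congr rfl fun k _ => by rw [hM k]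
  rw [h1]
  exact Ideal.sum_mem _ fun k _ => Ideal.mul_mem_left _ _ (Ideal.subset_span ⟨k, rfl⟩)

/-- Colon form: `(f) : (h) = (f) + (det M)` and `(f) : (det M) = (h)`. -/
theorem colon_eq [IsLocalRing R] [IsNoetherianRing R] {n : ℕ} (f h : Fin n → R)
    (M : Matrix (Fin n) (Fin n) R) (hf : IsRegular R (List.ofFn f)) (hh : IsRegular R (List.ofFn h))
    (hM : ∀ i, f i = ∑ j, M i j * h j) :
    (Ideal.span (Set.range f)).colon (Ideal.span (Set.range h) : Set R) =
      Ideal.span (Set.range f) ⊔ Ideal.span {M.det} ∧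
    (Ideal.span (Set.range f)).colon {M.det} = Ideal.span (Set.range h) := by
  obtain ⟨P1, P2⟩ := link_of_isRegular f h M hf hh hM
  have hfh : Ideal.span (Set.range f) ≤ Ideal.span (Set.range h) := by
    rw [Ideal.span_le]
    rintro _ ⟨i, rfl⟩
    rw [hM i]
    exact Ideal.sum_mem _ fun j _ => Ideal.mul_mem_left _ _ (Ideal.subset_span ⟨j, rfl⟩)
  constructor
  · apply le_antisymm
    · intro x hx
      refine P1 x fun j => ?_
      exact Submodule.mem_colon.mp hx _ (Ideal.subset_span ⟨j, rfl⟩)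
    · refine sup_le ?_ ?_
      · intro x hx
        rw [Submodule.mem_colon]
        intro y _
        exact Ideal.mul_mem_right _ _ hx
      · rw [Ideal.span_singleton_le_iff_mem, Submodule.mem_colon]
        intro y hy
        rw [smul_eq_mul]
        have : Ideal.span (Set.range h) ≤
            Submodule.comap (LinearMap.mulLeft R M.det) (Ideal.span (Set.range f)) := by
          rw [Ideal.span_le]
          rintro _ ⟨i, rfl⟩
          exact det_mul_mem f h M hM i
        exact this hy
  · apply le_antisymm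
    · intro x hx
      refine P2 x ?_
      exact Submodule.mem_colon.mp hx _ rfl
    · rw [Ideal.span_le]
      rintro _ ⟨i, rfl⟩
      rw [SetLike.mem_coe, Submodule.mem_colon]
      rintro _ rfl
      rw [smul_eq_mul, mul_comm]
      exact det_mul_mem f h M hM i

end Groth.Agent.CohqA.Linkage
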