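import Groth.Agent.CohqA.CechBCGeom
import Groth.Agent.CohqA.FlatCpxSpread
import Groth.Agent.Fdesc.StructMod

/-!
# `O`-acyclic morphisms to affine schemes, and base change

`IsAcyc f` for `f : X ⟶ Y`: `Γ(Y) → Γ(X)` is bijective and `H^n(X, O) = 0` for `n > 0`
(to be used for `Y` affine and `f` separated quasi-compact).
-/

set_option autoImplicit false
universe u v

open CategoryTheory TopologicalSpace Opposite Limits AlgebraicGeometry TensorProduct

namespace Groth.Agent.CohqA.CechE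

open Groth.Agent.Ega3B.CubeData Groth.Agent.Ega3B.CombRes Groth.Agent.CohqA.FlatCpx
open Groth.Agent.CohqA.CechZero Groth.Agent.CohqA.CechK

/-- A separated quasi-compact scheme over an affine scheme has a finite affine cover with affine
intersections. -/
theorem exists_affCov {X Y : Scheme.{u}} (f : X ⟶ Y) [IsAffine Y] [IsSeparated f] [QuasiCompact f] :
    ∃ (n : ℕ) (U : Fin n → X.Opens), IsAffCov U := by
  have : CompactSpace X := (quasiCompact_iff_compactSpace (f := f)).1 inferInstance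
  have hinf : ∀ (U V : X.Opens), IsAffineOpen U → IsAffineOpen V → IsAffineOpen (U ⊓ V) := by
    have h1 : IsAffineHom (pullback.diagonal f) := inferInstance
    intro U V hU hV
    exact isAffineHom_diagonal_iff.1 h1 ⊤ (isAffineOpen_top Y) U (by simp) V (by simp) hU hV
  have h2 : IsCompact ((⊤ : X.Opens) : Set X) := isCompact_univ
  have hb : Opens.IsBasis (Set.range (Subtype.val : X.affineOpens → X.Opens)) := by
    rw [Subtype.range_coe]
    exact X.isBasis_affineOpens
  obtain ⟨κ, hκ, a, ha⟩ := hb.exists_iSup_eq_of_isCompact ⊤ h2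
  obtain ⟨n, ⟨e⟩⟩ := Finite.exists_equiv_fin κ
  refine ⟨n, fun i => (a (e.symm i) : X.Opens), ⟨?_, ?_⟩⟩
  · rw [ha]
    exact (e.symm.iSup_comp (g := fun i => (a i : X.Opens)))
  · intro s hs
    induction hs using Finset.Nonempty.cons_induction with
    | singleton i =>
      rw [Finset.inf_singleton]
      exact (a (e.symm i)).2
    | cons i s hi hs ih =>
      rw [Finset.inf_cons]
      exact hinf _ _ (a (e.symm i)).2 ih

section Flat

variable {X : Scheme.{u}} {A R : Type u} [CommRing A] [CommRing R] [Algebra R A]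
  (φ : A →+* Γ(X, ⊤))

theorem flat_sec {S : Scheme.{u}} [IsAffine S] {p : X ⟶ S} [Flat p] (eR : R ≃+* Γ(S, ⊤))
    (hp : ∀ r, (p.app ⊤).hom (eR r) = φ (algebraMap R A r)) (W : X.Opens) (hW : IsAffineOpen W) :
    Module.Flat R (Sec φ W) := by
  have h1 : (p.appLE ⊤ W le_top).hom.Flat := p.flat_appLE (isAffineOpen_top S) hW le_top
  have h2 : (algebraMap R (Sec φ W)) = (p.appLE ⊤ W le_top).hom.comp eR.toRingHom := by
    ext r
    change (X.presheaf.map (homOfLE le_top).op).hom (φ (algebraMap R A r)) =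
      (p.appLE ⊤ W le_top).hom (eR r)
    rw [← hp]
    rfl
  have h3 : ((p.appLE ⊤ W le_top).hom.comp eR.toRingHom).Flat :=
    RingHom.Flat.comp (RingHom.Flat.of_bijective eR.bijective) h1
  rw [← h2] at h3
  exact RingHom.flat_algebraMap_iff.1 h3

variable {ι : Type} [LinearOrder ι] [Fintype ι] (U : ι → X.Opens)

theorem flat_E {S : Scheme.{u}} [IsAffine S] {p : X ⟶ S} [Flat p] (eR : R ≃+* Γ(S, ⊤))
    (hp : ∀ r, (p.app ⊤).hom (eR r) = φ (algebraMap R A r)) (hU : IsAffCov U) (n : ℕ)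
    (hn : 1 ≤ n) : Module.Flat R (E φ U n) := by
  classical
  obtain ⟨m, rfl⟩ : ∃ m, n = m + 1 := ⟨n - 1, by omega⟩
  have h1 : ∀ b : (DD U).B m, Module.Flat R (Sec φ ((DD U).W m b)) := fun b =>
    flat_sec φ eR hp _ (isAffineOpen_W hU m b)
  have h2 : Module.Flat R (∀ b : (DD U).B m, Sec φ ((DD U).W m b)) :=
    Module.Flat.of_linearEquiv (DFinsupp.linearEquivFunOnFintype (R := R)).symm
  exact h2

end Flat

/-- `O`-acyclic morphisms (to affine schemes). -/
structure IsAcyc {X Y : Scheme.{u}} (f : X ⟶ Y) : Prop where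
  bij : Function.Bijective (f.app ⊤).hom
  van : ∀ n, Subsingleton (Coh.HH X (Coh.structureModule X) (n + 1))

theorem isAcyc_iff {X Y : Scheme.{u}} (f : X ⟶ Y) {A : Type u} [CommRing A] (eA : A ≃+* Γ(Y, ⊤))
    {φ : A →+* Γ(X, ⊤)} (hφ : ∀ a, φ a = (f.app ⊤).hom (eA a))
    {ι : Type} [LinearOrder ι] [Fintype ι] {U : ι → X.Opens} (hU : IsAffCov U) :
    IsAcyc f ↔ ∀ n, ExAt (fun n => (dE φ U n : E φ U n → E φ U (n + 1))) n := by
  have : (Coh.structureModule X).IsQuasicoherent := Fdesc.StructMod.isQCoh_structureModule X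
  rw [exAt_iff φ hU]
  have h1 : (φ : A → Γ(X, ⊤)) = (f.app ⊤).hom ∘ eA := funext hφ
  have h2 : Function.Bijective φ ↔ Function.Bijective (f.app ⊤).hom := by
    rw [h1]
    exact ⟨fun h => (Function.Bijective.of_comp_iff _ eA.bijective).1 h,
      fun h => h.comp eA.bijective⟩
  rw [h2]
  exact ⟨fun h => ⟨h.1, h.2⟩, fun h => ⟨h.1, h.2⟩⟩

end Groth.Agent.CohqA.CechE
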