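import Groth.Agent.CohqA.OAcyc
import Mathlib.RingTheory.Flat.FaithfullyFlat.Basic

/-!
# Base change of `O`-acyclic morphisms
-/

set_option autoImplicit false
universe u v w

open CategoryTheory TopologicalSpace Opposite Limits AlgebraicGeometry TensorProduct

namespace Groth.Agent.CohqA.FlatCpx

section

variable {R : Type u} [CommRing R] {C : ℕ → Type v} [∀ n, AddCommGroup (C n)]
  [∀ n, Module R (C n)] {d : ∀ n, C n →ₗ[R] C (n + 1)} (Q : Type w) [AddCommGroup Q] [Module R Q]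

theorem exAt_succ_iff_exact (hdd : ∀ n x, d (n + 1) (d n x) = 0) (n : ℕ) :
    ExAt (fun n => (d n : C n → C (n + 1))) (n + 1) ↔ Function.Exact (d n) (d (n + 1)) := by
  constructor
  · intro h x
    exact ⟨fun hx => h x hx, by rintro ⟨y, rfl⟩; exact hdd n y⟩
  · intro h x hx
    exact (h x).1 hx

theorem rTensor_dd (hdd : ∀ n x, d (n + 1) (d n x) = 0) (n : ℕ) (x : C n ⊗[R] Q) :
    (d (n + 1)).rTensor Q ((d n).rTensor Q x) = 0 := by
  rw [← LinearMap.comp_apply, ← LinearMap.rTensor_comp,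
    show d (n + 1) ∘ₗ d n = 0 from LinearMap.ext (hdd n), LinearMap.rTensor_zero]
  rfl

theorem exAt_rTensor_of_flat [Module.Flat R Q] (hdd : ∀ n x, d (n + 1) (d n x) = 0) {n : ℕ}
    (h : ExAt (fun n => (d n : C n → C (n + 1))) n) :
    ExAt (X := fun n => C n ⊗[R] Q) (fun n => ((d n).rTensor Q : _ → _)) n := by
  cases n with
  | zero =>
    have h1 : Function.Injective (d 0) := (injective_iff_map_eq_zero _).2 h
    intro x hx
    exact (injective_iff_map_eq_zero _).1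
      (Module.Flat.rTensor_preserves_injective_linearMap (M := Q) (d 0) h1) x hx
  | succ n =>
    rw [exAt_succ_iff_exact hdd] at h
    rw [exAt_succ_iff_exact (C := fun n => C n ⊗[R] Q) (d := fun n => (d n).rTensor Q)
      (rTensor_dd Q hdd)]
    exact Module.Flat.rTensor_exact Q h

theorem exAt_of_rTensor_of_faithfullyFlat [Module.FaithfullyFlat R Q]
    (hdd : ∀ n x, d (n + 1) (d n x) = 0) {n : ℕ}
    (h : ExAt (X := fun n => C n ⊗[R] Q) (fun n => ((d n).rTensor Q : _ → _)) n) :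
    ExAt (fun n => (d n : C n → C (n + 1))) n := by
  cases n with
  | zero =>
    have h1 : Function.Exact ((0 : C 0 →ₗ[R] C 0).rTensor Q) ((d 0).rTensor Q) := by
      intro x
      rw [LinearMap.rTensor_zero]
      exact ⟨fun hx => ⟨0, (h x hx).symm⟩, by rintro ⟨y, rfl⟩; exact map_zero _⟩
    have h2 := Module.FaithfullyFlat.rTensor_reflects_exact R Q _ _ h1
    intro x hx
    obtain ⟨y, hy⟩ := (h2 x).1 hx
    exact hy.symm
  | succ n =>
    rw [exAt_succ_iff_exact (C := fun n => C n ⊗[R] Q) (d := fun n => (d n).rTensor Q)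
      (rTensor_dd Q hdd)] at h
    rw [exAt_succ_iff_exact hdd]
    exact Module.FaithfullyFlat.rTensor_reflects_exact R Q _ _ h

end

end Groth.Agent.CohqA.FlatCpx

namespace Groth.Agent.CohqA.CechE

open Groth.Agent.Ega3B.CubeData Groth.Agent.Ega3B.CombRes Groth.Agent.CohqA.FlatCpx
open Groth.Agent.CohqA.CechZero Groth.Agent.CohqA.CechK

section Squares

variable {X Y S X' Y' T : Scheme.{u}} {f : X ⟶ Y} {g : Y ⟶ S} {f' : X' ⟶ Y'} {g' : Y' ⟶ T}
  {h : T ⟶ S} {gY : Y' ⟶ Y} {gX : X' ⟶ X}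

theorem isAffine_of_sq [IsAffine Y] [IsAffine S] [IsAffine T] (sq2 : IsPullback gY g' g h) :
    IsAffine Y' := by
  have : IsAffineHom gY := MorphismProperty.of_isPullback sq2.flip inferInstance
  exact isAffine_of_isAffineHom gY

variable {A R R' : Type u} [CommRing A] [CommRing R] [CommRing R'] [Algebra R A] [Algebra R R']

/-- The fundamental equivalence. -/
theorem sq_isAcyc_iff [IsAffine Y] [IsAffine S] [IsAffine T] (sq1 : IsPullback gX f' f gY)
    (sq2 : IsPullback gY g' g h) (eA : A ≃+* Γ(Y, ⊤)) (eR : R ≃+* Γ(S, ⊤)) (eR' : R' ≃+* Γ(T, ⊤))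
    (hg : ∀ r, eA (algebraMap R A r) = (g.app ⊤).hom (eR r))
    (hh : ∀ r, eR' (algebraMap R R' r) = (h.app ⊤).hom (eR r))
    {φ : A →+* Γ(X, ⊤)} (hφ : ∀ a, φ a = (f.app ⊤).hom (eA a))
    {ι : Type} [LinearOrder ι] [Fintype ι] {U : ι → X.Opens} (hU : IsAffCov U) :
    IsAcyc f' ↔ ∀ n, ExAt (X := fun n => E φ U n ⊗[R] R')
        (fun n => (((dE φ U n).restrictScalars R).rTensor R' : _ → _)) n := by
  have hY' : IsAffine Y' := isAffine_of_sq sq2
  have hgX : IsAffineHom gX := MorphismProperty.of_isPullback sq1.flip inferInstance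
  let A' : Type u := Γ(Y', ⊤)
  letI : CommRing A' := inferInstanceAs (CommRing Γ(Y', ⊤))
  letI : Algebra A A' := ((gY.app ⊤).hom.comp eA.toRingHom).toAlgebra
  letI : Algebra R' A' := ((g'.app ⊤).hom.comp eR'.toRingHom).toAlgebra
  letI : Algebra R A' := (((gY.app ⊤).hom.comp eA.toRingHom).comp (algebraMap R A)).toAlgebra
  haveI : IsScalarTower R A A' := IsScalarTower.of_algebraMap_eq fun r => rfl
  haveI : IsScalarTower R R' A' := IsScalarTower.of_algebraMap_eq fun r => by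
    change (gY.app ⊤).hom (eA (algebraMap R A r)) = (g'.app ⊤).hom (eR' (algebraMap R R' r))
    rw [hg, hh]
    have h1 : (gY ≫ g).app ⊤ = (g' ≫ h).app ⊤ := by rw [sq2.w]
    rw [Scheme.Hom.comp_app, Scheme.Hom.comp_app] at h1
    exact congrArg (fun t => t.hom (eR r)) h1
  let φ' : A' →+* Γ(X', ⊤) := (f'.app ⊤).hom
  have hφ' : ∀ a, φ' (algebraMap A A' a) = (gX.app ⊤).hom (φ a) := by
    intro a
    rw [hφ]
    have h1 : (gX ≫ f).app ⊤ = (f' ≫ gY).app ⊤ := by rw [sq1.w]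
    rw [Scheme.Hom.comp_app, Scheme.Hom.comp_app] at h1
    exact (congrArg (fun t => t.hom (eA a)) h1).symm
  have hA : IsBaseChange R' (IsScalarTower.toAlgHom R A A').toLinearMap := by
    have h1 := isIso_pushoutSection_of_isAffineOpen sq2 (US := ⊤) (UT := ⊤) (UX := ⊤) (UY := ⊤)
      le_top le_top (by exact (inf_top_eq _).symm) (isAffineOpen_top S) (isAffineOpen_top T)
      (isAffineOpen_top Y)
    rw [isIso_pushoutSection_iff] at h1
    have h2 : IsPushout (CommRingCat.ofHom (algebraMap R R')) (CommRingCat.ofHom (algebraMap R A))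
        (CommRingCat.ofHom (algebraMap R' A')) (CommRingCat.ofHom (algebraMap A A')) := by
      refine h1.flip.of_iso (RingEquiv.toCommRingCatIso eR.symm)
        (RingEquiv.toCommRingCatIso eR'.symm) (RingEquiv.toCommRingCatIso eA.symm)
        (Iso.refl _) ?_ ?_ ?_ ?_
      · ext s
        obtain ⟨r, rfl⟩ := eR.surjective s
        apply eR'.injective
        change eR' (eR'.symm ((h.appLE ⊤ ⊤ _).hom (eR r))) = eR' (algebraMap R R' (eR.symm (eR r)))
        rw [eR'.apply_symm_apply, eR.symm_apply_apply, hh, Scheme.Hom.app_eq_appLE]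
        rfl
      · ext s
        obtain ⟨r, rfl⟩ := eR.surjective s
        apply eA.injective
        change eA (eA.symm ((g.appLE ⊤ ⊤ _).hom (eR r))) = eA (algebraMap R A (eR.symm (eR r)))
        rw [eA.apply_symm_apply, eR.symm_apply_apply, hg, Scheme.Hom.app_eq_appLE]
        rfl
      · ext s
        obtain ⟨r, rfl⟩ := eR'.surjective s
        change (g'.appLE ⊤ ⊤ _).hom (eR' r) = (g'.app ⊤).hom (eR' (eR'.symm (eR' r)))
        rw [eR'.symm_apply_apply, Scheme.Hom.app_eq_appLE]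
        rfl
      · ext s
        obtain ⟨r, rfl⟩ := eA.surjective s
        change (gY.appLE ⊤ ⊤ _).hom (eA r) = (gY.app ⊤).hom (eA (eA.symm (eA r)))
        rw [eA.symm_apply_apply, Scheme.Hom.app_eq_appLE]
        rfl
    exact (CommRingCat.isPushout_iff_isPushout.1 h2).out
  have hp : ∀ r, ((f ≫ g).app ⊤).hom (eR r) = φ (algebraMap R A r) := by
    intro r
    rw [hφ, hg, Scheme.Hom.comp_app]
    rfl
  have hp' : ∀ r, ((f' ≫ g').app ⊤).hom (eR' r) = φ' (algebraMap R' A' r) := by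
    intro r
    rw [Scheme.Hom.comp_app]
    rfl
  have hE := isBaseChange_pullE_of_sq gX φ φ' hφ' U (sq1.paste_vert sq2) eR eR' hh hp hp' hA hU
  rw [isAcyc_iff f' (RingEquiv.refl A') (φ := φ') (fun a => rfl) (isAffCov_preimage gX hU)]
  exact forall_congr' fun n => (exAt_baseChange_iff gX φ φ' hφ' U hE n).symm

/-- `O`-acyclicity is stable under arbitrary base change of a base over which `X` is flat. -/
theorem IsAcyc.baseChange_of_flat [IsAffine Y] [IsAffine S] [IsAffine T] [IsSeparated f]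
    [QuasiCompact f] [Flat (f ≫ g)] (sq1 : IsPullback gX f' f gY)
    (sq2 : IsPullback gY g' g h) (hf : IsAcyc f) : IsAcyc f' := by
  obtain ⟨m, U, hU⟩ := exists_affCov f
  letI : Algebra Γ(S, ⊤) Γ(Y, ⊤) := (g.app ⊤).hom.toAlgebra
  letI : Algebra Γ(S, ⊤) Γ(T, ⊤) := (h.app ⊤).hom.toAlgebra
  let φ : Γ(Y, ⊤) →+* Γ(X, ⊤) := (f.app ⊤).hom
  rw [sq_isAcyc_iff (A := Γ(Y, ⊤)) (R := Γ(S, ⊤)) (R' := Γ(T, ⊤)) sq1 sq2 (RingEquiv.refl _)
    (RingEquiv.refl _) (RingEquiv.refl _) (fun r => rfl) (fun r => rfl) (φ := φ) (fun a => rfl) hU]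
  have hex := (isAcyc_iff f (RingEquiv.refl Γ(Y, ⊤)) (φ := φ) (fun a => rfl) hU).1 hf
  obtain ⟨N, hN⟩ := subsingleton_E φ U
  have hp : ∀ r : Γ(S, ⊤), ((f ≫ g).app ⊤).hom (RingEquiv.refl Γ(S, ⊤) r) =
      φ (algebraMap Γ(S, ⊤) Γ(Y, ⊤) r) := by
    intro r
    rw [Scheme.Hom.comp_app]
    rfl
  intro n
  exact exAt_rTensor_of_exact (R := Γ(S, ⊤)) (C := E φ U)
    (d := fun n => (dE φ U n).restrictScalars Γ(S, ⊤)) (dE_dE φ U)
    (flat_E φ U (RingEquiv.refl Γ(S, ⊤)) hp hU) N hN hex n Γ(T, ⊤)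

/-- `O`-acyclicity is stable under flat base change. -/
theorem IsAcyc.baseChange_flat [IsAffine Y] [IsAffine S] [IsAffine T] [IsSeparated f]
    [QuasiCompact f] [Flat h] (sq1 : IsPullback gX f' f gY)
    (sq2 : IsPullback gY g' g h) (hf : IsAcyc f) : IsAcyc f' := by
  obtain ⟨m, U, hU⟩ := exists_affCov f
  letI : Algebra Γ(S, ⊤) Γ(Y, ⊤) := (g.app ⊤).hom.toAlgebra
  letI : Algebra Γ(S, ⊤) Γ(T, ⊤) := (h.app ⊤).hom.toAlgebra
  let φ : Γ(Y, ⊤) →+* Γ(X, ⊤) := (f.app ⊤).hom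
  rw [sq_isAcyc_iff (A := Γ(Y, ⊤)) (R := Γ(S, ⊤)) (R' := Γ(T, ⊤)) sq1 sq2 (RingEquiv.refl _)
    (RingEquiv.refl _) (RingEquiv.refl _) (fun r => rfl) (fun r => rfl) (φ := φ) (fun a => rfl) hU]
  have hex := (isAcyc_iff f (RingEquiv.refl Γ(Y, ⊤)) (φ := φ) (fun a => rfl) hU).1 hf
  have hfl : Module.Flat Γ(S, ⊤) Γ(T, ⊤) := by
    have h1 : (h.appLE ⊤ ⊤ le_top).hom.Flat := h.flat_appLE (isAffineOpen_top S)
      (isAffineOpen_top T) le_top
    have h2 : (h.app ⊤).hom = (h.appLE ⊤ ⊤ le_top).hom := by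
      rw [Scheme.Hom.app_eq_appLE]
      rfl
    have h3 : (h.app ⊤).hom.Flat := h2.symm ▸ h1
    exact h3
  intro n
  exact exAt_rTensor_of_flat (R := Γ(S, ⊤)) (C := E φ U)
    (d := fun n => (dE φ U n).restrictScalars Γ(S, ⊤)) Γ(T, ⊤) (dE_dE φ U) (hex n)

/-- Descent of `O`-acyclicity along a faithfully flat base change. -/
theorem IsAcyc.of_baseChange [IsAffine Y] [IsAffine S] [IsAffine T] [IsSeparated f]
    [QuasiCompact f] (hh : (h.app ⊤).hom.FaithfullyFlat) (sq1 : IsPullback gX f' f gY)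
    (sq2 : IsPullback gY g' g h) (hf : IsAcyc f') : IsAcyc f := by
  obtain ⟨m, U, hU⟩ := exists_affCov f
  letI : Algebra Γ(S, ⊤) Γ(Y, ⊤) := (g.app ⊤).hom.toAlgebra
  letI : Algebra Γ(S, ⊤) Γ(T, ⊤) := (h.app ⊤).hom.toAlgebra
  let φ : Γ(Y, ⊤) →+* Γ(X, ⊤) := (f.app ⊤).hom
  rw [sq_isAcyc_iff (A := Γ(Y, ⊤)) (R := Γ(S, ⊤)) (R' := Γ(T, ⊤)) sq1 sq2 (RingEquiv.refl _)
    (RingEquiv.refl _) (RingEquiv.refl _) (fun r => rfl) (fun r => rfl) (φ := φ) (fun a => rfl)
    hU] at hf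
  rw [isAcyc_iff f (RingEquiv.refl Γ(Y, ⊤)) (φ := φ) (fun a => rfl) hU]
  have hfl : Module.FaithfullyFlat Γ(S, ⊤) Γ(T, ⊤) := hh
  intro n
  exact exAt_of_rTensor_of_faithfullyFlat (R := Γ(S, ⊤)) (C := E φ U)
    (d := fun n => (dE φ U n).restrictScalars Γ(S, ⊤)) Γ(T, ⊤) (dE_dE φ U) (hf n)

end Squares

end Groth.Agent.CohqA.CechE
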