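import Groth.Agent.CohqA.BCT71

/-!
Local generation of `K ⊗ q^* N` by sections `k ⊗ q^* m`.
-/

set_option autoImplicit false
set_option backward.isDefEq.respectTransparency.types true
universe u

open CategoryTheory CategoryTheory.Limits AlgebraicGeometry Opposite TopologicalSpace

namespace Groth.Agent.CohqA.BCT71

open Groth.Agent.VarietyB.TensLoc Groth.Agent.VarietyB.ExactLoc Groth.Agent.CycB.StalkExact
open Groth.Agent.VarietyB.PullLoc Groth.Agent.VarietyB.ProjForm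
open Groth.Agent.VarietyB.PullSec (sec sec_apply sec_smul sec_res germ_sec)

variable {X Z : Scheme.{u}} (q : Z ⟶ X) (K : Z.Modules) (N : X.Modules)

/-- restriction of functions -/
noncomputable abbrev ores {U V : Z.Opens} (h : V ≤ U) (a : Γ(Z, U)) : Γ(Z, V) :=
  Z.presheaf.map (homOfLE h).op a

theorem res_sec {U U' : X.Opens} {V V' : Z.Opens} (e : V ≤ q ⁻¹ᵁ U) (e' : V' ≤ q ⁻¹ᵁ U')
    (hU : U' ≤ U) (hV : V' ≤ V) (m : Γ(N, U)) :
    res ((Scheme.Modules.pullback q).obj N) hV (sec q N e m) = sec q N e' (res N hU m) :=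
  sec_res q N e e' hU hV m

/-- Sections of `q^* N` which are combinations of pull-backs of sections, near `y`. -/
def PGen (y : Z) (σ : ((Scheme.Modules.pullback q).obj N).presheaf.stalk y) : Prop :=
  ∃ (V : Z.Opens) (W : X.Opens) (e : V ≤ q ⁻¹ᵁ W) (hy : y ∈ V) (n : ℕ) (a : Fin n → Γ(Z, V))
    (m : Fin n → Γ(N, W)), σ = ((Scheme.Modules.pullback q).obj N).presheaf.germ V y hy
      (∑ i, a i • sec q N e (m i))

variable {q N} in
theorem PGen.shrink {y : Z} {σ : ((Scheme.Modules.pullback q).obj N).presheaf.stalk y}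
    (h : PGen q N y σ) (V₀ : Z.Opens) (hV₀ : y ∈ V₀) (W₀ : X.Opens) (hW₀ : q y ∈ W₀) :
    ∃ (V : Z.Opens) (W : X.Opens) (_ : V ≤ V₀) (_ : W ≤ W₀) (e : V ≤ q ⁻¹ᵁ W) (hy : y ∈ V) (n : ℕ)
      (a : Fin n → Γ(Z, V)) (m : Fin n → Γ(N, W)),
      σ = ((Scheme.Modules.pullback q).obj N).presheaf.germ V y hy
      (∑ i, a i • sec q N e (m i)) := by
  obtain ⟨V, W, e, hy, n, a, m, rfl⟩ := h
  have e' : V ⊓ V₀ ⊓ q ⁻¹ᵁ W₀ ≤ q ⁻¹ᵁ (W ⊓ W₀) := fun z hz => ⟨e hz.1.1, hz.2⟩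
  have hV : V ⊓ V₀ ⊓ q ⁻¹ᵁ W₀ ≤ V := inf_le_left.trans inf_le_left
  refine ⟨V ⊓ V₀ ⊓ q ⁻¹ᵁ W₀, W ⊓ W₀, inf_le_left.trans inf_le_right, inf_le_right, e',
    ⟨⟨hy, hV₀⟩, hW₀⟩, n, fun i => ores hV (a i), fun i => res N inf_le_left (m i), ?_⟩
  rw [← germ_res _ hV ⟨⟨hy, hV₀⟩, hW₀⟩]
  congr 1
  rw [res_sum]
  refine Finset.sum_congr rfl fun i _ => ?_
  rw [res_smul, res_sec q N e e' inf_le_left hV]

variable {q N} in
theorem PGen.add {y : Z} {σ τ : ((Scheme.Modules.pullback q).obj N).presheaf.stalk y}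
    (hσ : PGen q N y σ) (hτ : PGen q N y τ) : PGen q N y (σ + τ) := by
  obtain ⟨V, W, e, hy, n, a, m, rfl⟩ := hσ
  obtain ⟨V', W', hV, hW, e', hy', n', a', m', rfl⟩ := hτ.shrink V hy W (e hy)
  refine ⟨V', W', e', hy', n + n', Fin.append (fun i => ores hV (a i)) a',
    Fin.append (fun i => res N hW (m i)) m', ?_⟩
  rw [← germ_res _ hV hy', ← map_add]
  congr 1
  rw [res_sum, Fin.sum_univ_add]
  simp only [Fin.append_left, Fin.append_right]
  congr 1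
  refine Finset.sum_congr rfl fun i _ => ?_
  rw [res_smul, res_sec q N e e' hW hV]

variable {q N} in
theorem PGen.smul {y : Z} {σ : ((Scheme.Modules.pullback q).obj N).presheaf.stalk y}
    (hσ : PGen q N y σ) (r : Z.presheaf.stalk y) : PGen q N y (r • σ) := by
  obtain ⟨V₀, hy₀, r, rfl⟩ := Z.presheaf.exists_germ_eq r
  obtain ⟨V, W, hV, -, e, hy, n, a, m, rfl⟩ := hσ.shrink V₀ hy₀ ⊤ trivial
  refine ⟨V, W, e, hy, n, fun i => ores hV r * a i, m, ?_⟩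
  have h1 : Z.presheaf.germ V₀ y hy₀ r = Z.presheaf.germ V y hy (ores hV r) :=
    (TopCat.Presheaf.germ_res_apply _ _ _ _ _).symm
  rw [h1, ← germ_smul]
  congr 1
  rw [Finset.smul_sum]
  exact Finset.sum_congr rfl fun i _ => (mul_smul _ _ _).symm

theorem pGen_all (y : Z) (σ : ((Scheme.Modules.pullback q).obj N).presheaf.stalk y) :
    PGen q N y σ := by
  have h : σ ∈ Submodule.span (Z.presheaf.stalk y)
      (Set.range (Fdesc.PullbackStalk.canAdd q N y)) := by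
    rw [Fdesc.PullbackStalk.span_range_canAdd]
    trivial
  induction h using Submodule.span_induction with
  | mem x hx =>
    obtain ⟨t, rfl⟩ := hx
    obtain ⟨W, hW, s, rfl⟩ := TopCat.Presheaf.exists_germ_eq N.presheaf t
    refine ⟨q ⁻¹ᵁ W, W, le_refl _, hW, 1, fun _ => 1, fun _ => s, ?_⟩
    rw [Fin.sum_univ_one, one_smul]
    exact (germ_sec q N (le_refl _) y hW s).symm
  | zero => exact ⟨⊤, ⊤, fun _ _ => trivial, trivial, 0, Fin.elim0, Fin.elim0, by simp⟩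
  | add x z _ _ hx hz => exact hx.add hz
  | smul a x _ hx => exact hx.smul a

/-- The pure tensor `k ⊗ q^* m`. -/
noncomputable def pt {V : Z.Opens} {W : X.Opens} (e : V ≤ q ⁻¹ᵁ W) (k : Γ(K, V)) (m : Γ(N, W)) :
    Γ((E q K).obj N, V) := tmul k (sec q N e m)

theorem res_pt {V V' : Z.Opens} {W W' : X.Opens} (e : V ≤ q ⁻¹ᵁ W) (e' : V' ≤ q ⁻¹ᵁ W')
    (hV : V' ≤ V) (hW : W' ≤ W) (k : Γ(K, V)) (m : Γ(N, W)) :
    res _ hV (pt q K N e k m) = pt q K N e' (res K hV k) (res N hW m) := by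
  refine (res_tmul hV k _).trans ?_
  rw [res_sec q N e e' hW hV]
  rfl

theorem map_pt {N' : X.Modules} (φ : N ⟶ N') {V : Z.Opens} {W : X.Opens} (e : V ≤ q ⁻¹ᵁ W)
    (k : Γ(K, V)) (m : Γ(N, W)) :
    ((E q K).map φ).app V (pt q K N e k m) = pt q K N' e k (φ.app W m) :=
  E_map_app_tmul_sec q K φ e k m

/-- The sum of the `k i ⊗ q^* (m i)`. -/
noncomputable def ps {V : Z.Opens} {W : X.Opens} (e : V ≤ q ⁻¹ᵁ W) {n : ℕ} (k : Fin n → Γ(K, V))
    (m : Fin n → Γ(N, W)) : Γ((E q K).obj N, V) := ∑ i, pt q K N e (k i) (m i)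

theorem res_ps {V V' : Z.Opens} {W W' : X.Opens} (e : V ≤ q ⁻¹ᵁ W) (e' : V' ≤ q ⁻¹ᵁ W')
    (hV : V' ≤ V) (hW : W' ≤ W) {n : ℕ} (k : Fin n → Γ(K, V)) (m : Fin n → Γ(N, W)) :
    res _ hV (ps q K N e k m) = ps q K N e' (fun i => res K hV (k i)) (fun i => res N hW (m i)) := by
  rw [ps, res_sum]
  exact Finset.sum_congr rfl fun i _ => res_pt q K N e e' hV hW _ _

theorem ps_append {V : Z.Opens} {W : X.Opens} (e : V ≤ q ⁻¹ᵁ W) {n n' : ℕ} (k : Fin n → Γ(K, V))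
    (m : Fin n → Γ(N, W)) (k' : Fin n' → Γ(K, V)) (m' : Fin n' → Γ(N, W)) :
    ps q K N e (Fin.append k k') (Fin.append m m') = ps q K N e k m + ps q K N e k' m' := by
  rw [ps, Fin.sum_univ_add]
  simp only [Fin.append_left, Fin.append_right]
  rfl

theorem map_ps {N' : X.Modules} (φ : N ⟶ N') {V : Z.Opens} {W : X.Opens} (e : V ≤ q ⁻¹ᵁ W)
    {n : ℕ} (k : Fin n → Γ(K, V)) (m : Fin n → Γ(N, W)) :
    ((E q K).map φ).app V (ps q K N e k m) = ps q K N' e k (fun i => φ.app W (m i)) := by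
  rw [ps, map_sum]
  exact Finset.sum_congr rfl fun i _ => map_pt q K N φ e _ _

/-- Sections of `K ⊗ q^* N` which are, near `y`, sums of sections `k ⊗ q^* m`. -/
def EGen (y : Z) {V₀ : Z.Opens} (t : Γ((E q K).obj N, V₀)) : Prop :=
  ∃ (V : Z.Opens) (W : X.Opens) (hV : V ≤ V₀) (e : V ≤ q ⁻¹ᵁ W) (_ : y ∈ V) (n : ℕ)
    (k : Fin n → Γ(K, V)) (m : Fin n → Γ(N, W)), res _ hV t = ps q K N e k m

variable {q K N} in
theorem EGen.shrink {y : Z} {V₀ : Z.Opens} {t : Γ((E q K).obj N, V₀)} (h : EGen q K N y t)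
    (V₁ : Z.Opens) (hV₁ : y ∈ V₁) (W₁ : X.Opens) (hW₁ : q y ∈ W₁) :
    ∃ (V : Z.Opens) (W : X.Opens) (_ : IsAffineOpen V) (_ : IsAffineOpen W) (_ : V ≤ V₁)
      (_ : W ≤ W₁) (hV : V ≤ V₀) (e : V ≤ q ⁻¹ᵁ W)
      (_ : y ∈ V) (n : ℕ) (k : Fin n → Γ(K, V)) (m : Fin n → Γ(N, W)),
      res _ hV t = ps q K N e k m := by
  obtain ⟨V, W, hV, e, hy, n, k, m, h⟩ := h
  obtain ⟨W', hW', hyW', hWle⟩ := exists_isAffineOpen_mem_and_subset (x := q y) (U := W ⊓ W₁)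
    ⟨e hy, hW₁⟩
  obtain ⟨V', hV', hyV', hVle⟩ := exists_isAffineOpen_mem_and_subset (x := y)
    (U := V ⊓ V₁ ⊓ q ⁻¹ᵁ W') ⟨⟨hy, hV₁⟩, hyW'⟩
  have e' : V' ≤ q ⁻¹ᵁ W' := fun z hz => (hVle hz).2
  have h1 : V' ≤ V := fun z hz => (hVle hz).1.1
  have h2 : W' ≤ W := fun z hz => (hWle hz).1
  refine ⟨V', W', hV', hW', fun z hz => (hVle hz).1.2, fun z hz => (hWle hz).2, h1.trans hV, e',
    hyV', n, fun i => res K h1 (k i), fun i => res N h2 (m i), ?_⟩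
  rw [← res_res _ hV h1, h, res_ps q K N e e' h1 h2]

variable {q K N} in
theorem EGen.add {y : Z} {V₀ : Z.Opens} {t t' : Γ((E q K).obj N, V₀)} (h : EGen q K N y t)
    (h' : EGen q K N y t') : EGen q K N y (t + t') := by
  obtain ⟨V, W, hV, e, hy, n, k, m, h⟩ := h
  obtain ⟨V', W', -, -, hVV, hWW, hV', e', hy', n', k', m', h'⟩ := h'.shrink V hy W (e hy)
  refine ⟨V', W', hV', e', hy', n + n', Fin.append (fun i => res K hVV (k i)) k',
    Fin.append (fun i => res N hWW (m i)) m', ?_⟩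
  rw [ps_append]
  refine (map_add _ _ _).trans ?_
  congr 1
  rw [← res_ps q K N e e' hVV hWW, ← h, res_res]

variable {q K N} in
theorem EGen.of_res {y : Z} {V₀ V₁ : Z.Opens} {t : Γ((E q K).obj N, V₀)} (hle : V₁ ≤ V₀)
    (h : EGen q K N y (res _ hle t)) : EGen q K N y t := by
  obtain ⟨V, W, hV, e, hy, n, k, m, h⟩ := h
  exact ⟨V, W, hV.trans hle, e, hy, n, k, m, by rw [← res_res _ hle hV, h]⟩

theorem EGen.zero {y : Z} {V₀ : Z.Opens} (hy : y ∈ V₀) : EGen q K N y (0 : Γ((E q K).obj N, V₀)) :=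
  ⟨V₀, ⊤, le_refl _, fun _ _ => trivial, hy, 0, Fin.elim0, Fin.elim0,
    (map_zero _).trans (Fin.sum_univ_zero _).symm⟩

theorem EGen.sum {y : Z} {V₀ : Z.Opens} (hy : y ∈ V₀) {n : ℕ} (t : Fin n → Γ((E q K).obj N, V₀))
    (h : ∀ i, EGen q K N y (t i)) : EGen q K N y (∑ i, t i) := by
  refine Finset.sum_induction t (EGen q K N y) (fun a b ha hb => ha.add hb) (EGen.zero q K N hy)
    (fun i _ => h i)

theorem EGen.tmul {y : Z} {V₀ : Z.Opens} (hy : y ∈ V₀) (k : Γ(K, V₀))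
    (s : Γ((Scheme.Modules.pullback q).obj N, V₀)) :
    EGen q K N y (show Γ((E q K).obj N, V₀) from VarietyB.TensLoc.tmul k s) := by
  obtain ⟨V, W, hV, -, e, hyV, n, a, m, h⟩ := (pGen_all q N y
    (((Scheme.Modules.pullback q).obj N).presheaf.germ V₀ y hy s)).shrink V₀ hy ⊤ trivial
  rw [← germ_res _ hV hyV] at h
  have h2 : ((Scheme.Modules.pullback q).obj N).presheaf.germ V y hyV
      (res _ hV s - ∑ i, a i • sec q N e (m i)) = 0 := by
    rw [map_sub, h, sub_self]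
  obtain ⟨V', hV', hyV', h3⟩ := exists_res_eq_zero _ hyV _ h2
  have h4 : res _ hV' (res _ hV s) = res _ hV' (∑ i, a i • sec q N e (m i)) :=
    sub_eq_zero.mp ((map_sub _ _ _).symm.trans h3)
  rw [res_res, res_sum] at h4
  refine ⟨V', W, hV'.trans hV, hV'.trans e, hyV', n, fun i => ores hV' (a i) • res K (hV'.trans hV) k,
    m, ?_⟩
  refine (res_tmul (hV'.trans hV) k s).trans ?_
  rw [h4]
  refine (map_sum (Ega2.Tens.tmulHom K ((Scheme.Modules.pullback q).obj N) V'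
    (res K (hV'.trans hV) k)) _ _).trans ?_
  refine Finset.sum_congr rfl fun i _ => ?_
  rw [res_smul, res_sec q N e (hV'.trans e) (le_refl W) hV', res_self]
  refine (Ega2.Tens.tmul_smul (ores hV' (a i)) (res K (hV'.trans hV) k) _).trans ?_
  exact (Ega2.Tens.smul_tmul (ores hV' (a i)) (res K (hV'.trans hV) k) _).symm

theorem eGen_all {y : Z} {V₀ : Z.Opens} (hy : y ∈ V₀) (t : Γ((E q K).obj N, V₀)) :
    EGen q K N y t := by
  obtain ⟨V, i, hyV, n, m, m', h⟩ := Ega2.Tens.exists_sum_tmul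
    (M := K) (N := (Scheme.Modules.pullback q).obj N) t hy
  refine EGen.of_res i.le ?_
  have h2 : res _ i.le t = ∑ j, (show Γ((E q K).obj N, V) from
    VarietyB.TensLoc.tmul (m j) (m' j)) := h
  rw [h2]
  exact EGen.sum q K N hyV _ fun j => EGen.tmul q K N hyV _ _

end Groth.Agent.CohqA.BCT71
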