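import Groth.Agent.VarietyB.ExactLoc
import Mathlib.Algebra.Homology.QuasiIso
import Mathlib.Algebra.Homology.HomologySequence

/-!
A local criterion, on sections, for a map of complexes of `O_X`-modules to be a quasi-isomorphism.
-/

set_option autoImplicit false
set_option backward.isDefEq.respectTransparency.types true
universe u

open CategoryTheory CategoryTheory.Limits AlgebraicGeometry Opposite TopologicalSpace

namespace Groth.Agent.CohqA.QisoLocal

open Groth.Agent.VarietyB.TensLoc Groth.Agent.VarietyB.ExactLoc Groth.Agent.CycB.StalkExact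

variable {X : Scheme.{u}}

theorem comp_app {M N P : X.Modules} (f : M ⟶ N) (g : N ⟶ P) {U : X.Opens} (s : Γ(M, U)) :
    (f ≫ g).app U s = g.app U (f.app U s) := rfl

/-- A morphism is an epimorphism if it is locally surjective on sections. -/
theorem epi_of_local {M N : X.Modules} (φ : M ⟶ N)
    (h : ∀ (U : X.Opens) (t : Γ(N, U)), ∀ x ∈ U, ∃ (V : X.Opens) (h : V ≤ U), x ∈ V ∧
      ∃ s : Γ(M, V), φ.app V s = res N h t) : Epi φ := by
  refine epi_of_stalk φ fun x m => ?_
  obtain ⟨V, hxV, s, rfl⟩ := N.presheaf.exists_germ_eq m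
  obtain ⟨W, hWV, hxW, t, ht⟩ := h V s x hxV
  refine ⟨M.presheaf.germ W x hxW t, ?_⟩
  rw [stalkLin_germ, ht, germ_res]

/-- A morphism is a monomorphism if sections killed by it are locally zero. -/
theorem mono_of_local {M N : X.Modules} (φ : M ⟶ N)
    (h : ∀ (U : X.Opens) (s : Γ(M, U)), φ.app U s = 0 → ∀ x ∈ U, ∃ (V : X.Opens) (h : V ≤ U), x ∈ V ∧
      res M h s = 0) : Mono φ := by
  refine mono_of_stalk φ fun x => ?_
  rw [injective_iff_map_eq_zero]
  intro m hm
  obtain ⟨V, hxV, s, rfl⟩ := M.presheaf.exists_germ_eq m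
  rw [stalkLin_germ] at hm
  obtain ⟨W, hWV, hxW, hW⟩ := exists_res_eq_zero N hxV _ hm
  rw [← app_res] at hW
  obtain ⟨W', hW'W, hxW', h'⟩ := h W _ hW x hxW
  rw [← germ_res M hWV hxW, ← germ_res M hW'W hxW', h', map_zero]

/-- Sections over `U`. -/
noncomputable def secF (U : X.Opens) : X.Modules ⥤ Ab.{u} :=
  Scheme.Modules.toPresheaf X ⋙ (evaluation _ _).obj (op U)

instance (U : X.Opens) : (secF U).Additive where
  map_add := rfl

instance (U : X.Opens) : PreservesFiniteLimits (secF U) := by
  have h0 : PreservesLimitsOfSize.{u, u} (Scheme.Modules.toPresheaf X) := inferInstance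
  have h1 : PreservesFiniteLimits (Scheme.Modules.toPresheaf X) := inferInstance
  have h2 : PreservesFiniteLimits ((evaluation (TopologicalSpace.Opens X)ᵒᵖ Ab.{u}).obj (op U)) :=
    ⟨fun _ _ _ => inferInstance⟩
  exact comp_preservesFiniteLimits _ _

/-- Left exactness of sections. -/
theorem exists_section_of_exact (S : ShortComplex X.Modules) (hS : S.Exact) [Mono S.f]
    {U : X.Opens} (s : Γ(S.X₂, U)) (hs : S.g.app U s = 0) : ∃ t : Γ(S.X₁, U), S.f.app U t = s := by
  have h1 : (S.map (secF U)).Exact :=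
    hS.map_of_mono_of_preservesKernel (secF U) inferInstance inferInstance
  rw [ShortComplex.ab_exact_iff] at h1
  exact h1 s hs

section Cx

variable {ι : Type*} {c : ComplexShape ι} {C D : HomologicalComplex X.Modules c} (φ : C ⟶ D)

/-- The section `t` of `D.X i` over `U` is a boundary. -/
def IsBd (D : HomologicalComplex X.Modules c) (i : ι) (U : X.Opens) (t : Γ(D.X i, U)) : Prop :=
  ∃ (j : ι) (w : Γ(D.X j, U)), (D.d j i).app U w = t

/-- The section `t` of `D.X i` over `U` is a cocycle. -/
def IsCyc (D : HomologicalComplex X.Modules c) (i : ι) (U : X.Opens) (t : Γ(D.X i, U)) : Prop :=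
  ∀ j : ι, (D.d i j).app U t = 0

theorem exists_cycle {i : ι} {U : X.Opens} {t : Γ(D.X i, U)} (ht : IsCyc D i U t) :
    ∃ z : Γ(D.cycles i, U), (D.iCycles i).app U z = t := by
  let S : ShortComplex X.Modules := ShortComplex.mk (D.iCycles i) (D.d i (c.next i))
    (D.iCycles_d _ _)
  have hS : S.Exact := ShortComplex.exact_of_f_is_kernel _ (D.cyclesIsKernel i (c.next i) rfl)
  have : Mono S.f := inferInstanceAs (Mono (D.iCycles i))
  exact exists_section_of_exact S hS t (ht _)

theorem isCyc_iCycles {i : ι} {U : X.Opens} (z : Γ(D.cycles i, U)) :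
    IsCyc D i U ((D.iCycles i).app U z) := fun j => by
  have h : D.iCycles i ≫ D.d i j = 0 := D.iCycles_d i j
  exact congr(($h).app U z)

theorem homologyπ_eq_zero_of_isBd {i : ι} {U : X.Opens} (z : Γ(D.cycles i, U))
    (hz : IsBd D i U ((D.iCycles i).app U z)) : (D.homologyπ i).app U z = 0 := by
  obtain ⟨j, w, hw⟩ := hz
  have h1 : (D.toCycles j i).app U w = z := by
    apply app_injective_of_mono (D.iCycles i) U
    rw [← hw]
    have h := D.toCycles_i j i
    exact congr(($h).app U w)
  rw [← h1]
  have h := D.toCycles_comp_homologyπ j i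
  exact congr(($h).app U w)

/-- A section of `Zⁱ` which is zero in `Hⁱ` is locally a boundary. -/
theorem exists_isBd {i : ι} {U : X.Opens} (z : Γ(D.cycles i, U))
    (hz : (D.homologyπ i).app U z = 0) {x : X} (hx : x ∈ U) :
    ∃ (V : X.Opens) (h : V ≤ U), x ∈ V ∧ IsBd D i V (res _ h ((D.iCycles i).app U z)) := by
  let S : ShortComplex X.Modules := ShortComplex.mk (D.toCycles (c.prev i) i) (D.homologyπ i)
    (D.toCycles_comp_homologyπ _ _)
  have hS : S.Exact :=
    ShortComplex.exact_of_g_is_cokernel _ (D.homologyIsCokernel (c.prev i) i rfl)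
  obtain ⟨V, hV, hxV, t, ht⟩ := exists_lift_of_exact S hS z hz hx
  refine ⟨V, hV, hxV, c.prev i, t, ?_⟩
  rw [← app_res]
  change _ = (D.iCycles i).app V (res S.X₂ hV z)
  rw [← ht]
  have h := D.toCycles_i (c.prev i) i
  exact congr(($h).app V t).symm

/-- The local criterion. -/
theorem quasiIso_of_local
    (hs : ∀ (i : ι) (U : X.Opens) (t : Γ(D.X i, U)), IsCyc D i U t → ∀ x ∈ U,
      ∃ (V : X.Opens) (h : V ≤ U), x ∈ V ∧ ∃ s : Γ(C.X i, V), IsCyc C i V s ∧
        IsBd D i V (res _ h t - (φ.f i).app V s))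
    (hi : ∀ (i : ι) (U : X.Opens) (s : Γ(C.X i, U)), IsCyc C i U s → IsBd D i U ((φ.f i).app U s) →
      ∀ x ∈ U, ∃ (V : X.Opens) (h : V ≤ U), x ∈ V ∧ IsBd C i V (res _ h s)) :
    QuasiIso φ := by
  rw [quasiIso_iff]
  intro i
  rw [quasiIsoAt_iff_isIso_homologyMap]
  have h1 : Epi (HomologicalComplex.homologyMap φ i) := by
    refine epi_of_local _ fun U t x hx => ?_
    obtain ⟨V, hV, hxV, z, hz⟩ := exists_lift_of_epi (D.homologyπ i) t hx
    obtain ⟨W, hW, hxW, s, hs1, hs2⟩ := hs i V _ (isCyc_iCycles z) x hxV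
    obtain ⟨z', hz'⟩ := exists_cycle hs1
    refine ⟨W, hW.trans hV, hxW, (C.homologyπ i).app W z', ?_⟩
    have e1 : (HomologicalComplex.homologyMap φ i).app W ((C.homologyπ i).app W z') =
        (D.homologyπ i).app W ((HomologicalComplex.cyclesMap φ i).app W z') := by
      have h := HomologicalComplex.homologyπ_naturality φ i
      exact congr(($h).app W z')
    have e2 : (D.iCycles i).app W ((HomologicalComplex.cyclesMap φ i).app W z') =
        (φ.f i).app W ((C.iCycles i).app W z') := by
      have h := HomologicalComplex.cyclesMap_i φ i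
      exact congr(($h).app W z')
    have e3 : (D.homologyπ i).app W (res _ hW z - (HomologicalComplex.cyclesMap φ i).app W z') = 0 := by
      apply homologyπ_eq_zero_of_isBd
      rw [map_sub, e2, hz', app_res]
      exact hs2
    rw [map_sub, sub_eq_zero] at e3
    rw [e1, ← e3, app_res, hz, res_res]
  have h2 : Mono (HomologicalComplex.homologyMap φ i) := by
    refine mono_of_local _ fun U s hs x hx => ?_
    obtain ⟨V, hV, hxV, z, hz⟩ := exists_lift_of_epi (C.homologyπ i) s hx
    have e1 : (HomologicalComplex.homologyMap φ i).app V ((C.homologyπ i).app V z) =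
        (D.homologyπ i).app V ((HomologicalComplex.cyclesMap φ i).app V z) := by
      have h := HomologicalComplex.homologyπ_naturality φ i
      exact congr(($h).app V z)
    have e2 : (D.iCycles i).app V ((HomologicalComplex.cyclesMap φ i).app V z) =
        (φ.f i).app V ((C.iCycles i).app V z) := by
      have h := HomologicalComplex.cyclesMap_i φ i
      exact congr(($h).app V z)
    have e3 : (D.homologyπ i).app V ((HomologicalComplex.cyclesMap φ i).app V z) = 0 := by
      rw [← e1, hz, app_res, hs]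
      exact map_zero _
    obtain ⟨W, hW, hxW, hbd⟩ := exists_isBd _ e3 hxV
    rw [e2, ← app_res, ← app_res] at hbd
    obtain ⟨W', hW', hxW', hbd'⟩ := hi i W _ (isCyc_iCycles _) hbd x hxW
    rw [← app_res] at hbd'
    have e4 := homologyπ_eq_zero_of_isBd _ hbd'
    refine ⟨W', (hW'.trans hW).trans hV, hxW', ?_⟩
    rw [← res_res _ hV (hW'.trans hW), ← hz, ← app_res, ← res_res _ hW hW']
    exact e4
  exact isIso_of_mono_of_epi _

end Cx

end Groth.Agent.CohqA.QisoLocal
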