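import Groth.Agent.CohqA.AffineVanish
import Groth.Agent.CohqB.QC2
import Groth.Agent.CurvesC.UnitCoh

/-!
# `H¹` of a quasi-coherent module on a scheme covered by two affine opens

`TwoChart.δ M U V h : Γ(M, U ⊓ V) →+ Coh.HH X M 1` for `h : U ⊔ V = ⊤`, linear over the global
functions, with kernel the differences of restrictions; surjective for `U`, `V` affine and `M`
quasi-coherent.
-/

set_option autoImplicit false
universe w v u

namespace Groth.Agent.CohqA.TwoChart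

open CategoryTheory Opposite Limits AlgebraicGeometry TopologicalSpace Abelian
open Groth.Agent.CohqA.SheafH

section Abstract

variable {A : Type u} [Category.{v} A] [Abelian A] [HasExt.{w} A]
    {X₁ X₂ X₃ X₄ T : A} {f : X₁ ⟶ X₂} {g : X₁ ⟶ X₃} {h : X₂ ⟶ X₄} {k : X₃ ⟶ X₄}
    {w : biprod.lift f (-g) ≫ biprod.desc h k = 0}
    (hS : (ShortComplex.mk (biprod.lift f (-g)) (biprod.desc h k) w).ShortExact)
    (i : T ⟶ X₄)

/-- The connecting map `Hom(X₁, F) → Ext¹(T, F)`. -/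
noncomputable def extδ (F : A) : (X₁ ⟶ F) →+ Ext.{w} T F 1 where
  toFun z := (Ext.mk₀ i).comp (hS.extClass.comp (Ext.mk₀ z) (add_zero 1)) (zero_add 1)
  map_zero' := by rw [Ext.mk₀_zero, Ext.comp_zero, Ext.comp_zero]
  map_add' z z' := by rw [Ext.mk₀_add, Ext.comp_add, Ext.comp_add]

theorem extδ_apply (F : A) (z : X₁ ⟶ F) : extδ hS i F z =
    (Ext.mk₀ i).comp (hS.extClass.comp (Ext.mk₀ z) (add_zero 1)) (zero_add 1) := rfl

theorem extδ_comp {F G : A} (φ : F ⟶ G) (z : X₁ ⟶ F) :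
    (extδ hS i F z).comp (Ext.mk₀ φ) (add_zero 1) = extδ hS i G (z ≫ φ) := by
  rw [extδ_apply, extδ_apply, ← Ext.mk₀_comp_mk₀, Ext.comp_assoc_of_third_deg_zero,
    Ext.comp_assoc_of_third_deg_zero]

theorem extδ_eq_zero_iff [IsIso i] (F : A) (z : X₁ ⟶ F) :
    extδ hS i F z = 0 ↔ ∃ (a : X₂ ⟶ F) (b : X₃ ⟶ F), f ≫ a - g ≫ b = z := by
  constructor
  · intro hz
    have hz' : hS.extClass.comp (Ext.mk₀ z) (add_zero 1) = 0 := by
      have := congr_arg (fun t => (Ext.mk₀ (inv i)).comp t (zero_add 1)) hz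
      simp only [Ext.comp_zero] at this
      rw [extδ_apply, Ext.mk₀_comp_mk₀_assoc, IsIso.inv_hom_id, Ext.mk₀_id_comp] at this
      exact this
    obtain ⟨y, hy⟩ := Ext.contravariant_sequence_exact₁ hS F (Ext.mk₀ z) (add_comm 1 0) hz'
    obtain ⟨y, rfl⟩ := (Ext.mk₀_bijective _ _).2 y
    refine ⟨biprod.inl ≫ y, biprod.inr ≫ y, ?_⟩
    rw [Ext.mk₀_comp_mk₀] at hy
    have hy' := (Ext.mk₀_bijective _ _).1 hy
    rw [← hy']
    change _ = biprod.lift f (-g) ≫ y
    have : biprod.lift f (-g) = f ≫ biprod.inl - g ≫ biprod.inr := by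
      ext <;> simp
    rw [this, Preadditive.sub_comp, Category.assoc, Category.assoc]
  · rintro ⟨a, b, rfl⟩
    have : f ≫ a - g ≫ b = biprod.lift f (-g) ≫ biprod.desc a b := by simp [sub_eq_add_neg]
    rw [extδ_apply, this, ← Ext.mk₀_comp_mk₀]
    have h0 := hS.extClass_comp_assoc (Ext.mk₀ (biprod.desc a b)) (h := add_zero 1)
    rw [h0, Ext.comp_zero]

theorem exists_extδ_eq [IsIso i] (F : A) (h₂ : Subsingleton (Ext.{w} X₂ F 1))
    (h₃ : Subsingleton (Ext.{w} X₃ F 1)) (x : Ext.{w} T F 1) : ∃ z, extδ hS i F z = x := by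
  have hx : (Ext.mk₀ (biprod.desc h k)).comp ((Ext.mk₀ (inv i)).comp x (zero_add 1))
      (zero_add 1) = 0 := by
    apply Ext.biprodAddEquiv.injective
    rw [map_zero]
    ext
    · exact Subsingleton.elim _ _
    · exact Subsingleton.elim _ _
  obtain ⟨z, hz⟩ := Ext.contravariant_sequence_exact₃ hS F _ hx (n₀ := 0) (by omega)
  obtain ⟨z, rfl⟩ := (Ext.mk₀_bijective _ _).2 z
  refine ⟨z, ?_⟩
  rw [extδ_apply, hz, Ext.mk₀_comp_mk₀_assoc, IsIso.hom_inv_id, Ext.mk₀_id_comp]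

end Abstract

section Site

variable {C : Type u} [Category.{u} C] {J : GrothendieckTopology C}
  [HasSheafify J AddCommGrpCat.{u}] [HasExt.{u} (Sheaf J AddCommGrpCat.{u})]
  [HasWeakSheafify J (Type u)] (S : J.MayerVietorisSquare) (hT : IsTerminal S.X₄)

/-- The Mayer-Vietoris connecting map `F(X₁) → H¹(F)`. -/
noncomputable def siteδ (F : Sheaf J AddCommGrpCat.{u}) :
    F.obj.obj (op S.X₁) →+ Sheaf.H F 1 :=
  (extδ (f := freeSheafMap J S.f₁₂) (g := freeSheafMap J S.f₁₃)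
    (h := freeSheafMap J S.f₂₄) (k := freeSheafMap J S.f₃₄) (w := S.shortComplex.zero)
    S.shortComplex_shortExact (constSheafIsoFreeSheaf J hT).hom F).comp
    (homAddEquiv S.X₁ F).symm.toAddMonoidHom

theorem siteδ_apply (F : Sheaf J AddCommGrpCat.{u}) (z : F.obj.obj (op S.X₁)) :
    siteδ S hT F z = extδ (f := freeSheafMap J S.f₁₂) (g := freeSheafMap J S.f₁₃)
    (h := freeSheafMap J S.f₂₄) (k := freeSheafMap J S.f₃₄) (w := S.shortComplex.zero)
    S.shortComplex_shortExact (constSheafIsoFreeSheaf J hT).hom F ((homEquiv S.X₁ F).symm z) :=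
  rfl

theorem siteδ_map {F G : Sheaf J AddCommGrpCat.{u}} (φ : F ⟶ G) (z : F.obj.obj (op S.X₁)) :
    Sheaf.H.map φ 1 (siteδ S hT F z) = siteδ S hT G (φ.hom.app (op S.X₁) z) := by
  refine (extδ_comp _ _ φ _).trans ?_
  rw [siteδ_apply]
  congr 1
  apply (homEquiv S.X₁ G).injective
  rw [homEquiv_comp, Equiv.apply_symm_apply]
  exact congr_arg _ (Equiv.apply_symm_apply _ _)

theorem siteδ_eq_zero_iff (F : Sheaf J AddCommGrpCat.{u}) (z : F.obj.obj (op S.X₁)) :
    siteδ S hT F z = 0 ↔ ∃ (a : F.obj.obj (op S.X₂)) (b : F.obj.obj (op S.X₃)),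
      F.obj.map S.f₁₂.op a - F.obj.map S.f₁₃.op b = z := by
  rw [siteδ_apply, extδ_eq_zero_iff]
  constructor
  · rintro ⟨a, b, h⟩
    refine ⟨homEquiv _ F a, homEquiv _ F b, ?_⟩
    rw [← homEquiv_precomp, ← homEquiv_precomp, ← homAddEquiv_apply, ← homAddEquiv_apply,
      ← map_sub, h]
    exact Equiv.apply_symm_apply _ _
  · rintro ⟨a, b, h⟩
    refine ⟨(homEquiv _ F).symm a, (homEquiv _ F).symm b, ?_⟩
    apply (homAddEquiv S.X₁ F).injective
    rw [map_sub, homAddEquiv_apply, homAddEquiv_apply, homAddEquiv_apply, homEquiv_precomp,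
      homEquiv_precomp, Equiv.apply_symm_apply, Equiv.apply_symm_apply, Equiv.apply_symm_apply, h]

theorem exists_siteδ_eq (F : Sheaf J AddCommGrpCat.{u}) (h₂ : Subsingleton (HU F 1 S.X₂))
    (h₃ : Subsingleton (HU F 1 S.X₃)) (x : Sheaf.H F 1) : ∃ z, siteδ S hT F z = x := by
  obtain ⟨z, hz⟩ := exists_extδ_eq (f := freeSheafMap J S.f₁₂) (g := freeSheafMap J S.f₁₃)
    (h := freeSheafMap J S.f₂₄) (k := freeSheafMap J S.f₃₄) (w := S.shortComplex.zero)
    S.shortComplex_shortExact (constSheafIsoFreeSheaf J hT).hom F h₂ h₃ x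
  refine ⟨homEquiv _ F z, ?_⟩
  rw [siteδ_apply, Equiv.symm_apply_apply]
  exact hz

end Site


section Scheme

open Groth.Agent.CohqA.AffineVanish Groth.Agent.CohqB.QC2

variable {X : Scheme.{u}} (M : X.Modules) {U V : X.Opens} (hcov : U ⊔ V = ⊤)

/-- The Mayer-Vietoris square of two opens covering `X`. -/
noncomputable def mvSquare {X : Scheme.{u}} {U V : X.Opens} (hcov : U ⊔ V = ⊤) :
    (Opens.grothendieckTopology X).MayerVietorisSquare :=
  Opens.mayerVietorisSquare'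
    { X₁ := U ⊓ V
      X₂ := U
      X₃ := V
      X₄ := ⊤
      f₁₂ := homOfLE inf_le_left
      f₁₃ := homOfLE inf_le_right
      f₂₄ := homOfLE le_top
      f₃₄ := homOfLE le_top
      fac := Subsingleton.elim _ _ } hcov.symm rfl

/-- The connecting map `Γ(U ⊓ V, M) → H¹(X, M)` for `U ⊔ V = ⊤`. -/
noncomputable def δ : Γ(M, U ⊓ V) →+ Coh.HH X M 1 :=
  siteδ (mvSquare hcov) (isTerminalTop (α := Opens X)) (Coh.toAb M)

theorem δ_eq_zero_iff (z : Γ(M, U ⊓ V)) : δ M hcov z = 0 ↔ ∃ (a : Γ(M, U)) (b : Γ(M, V)),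
    CohqB.QC2.res M inf_le_left a - CohqB.QC2.res M inf_le_right b = z :=
  siteδ_eq_zero_iff (mvSquare hcov) (isTerminalTop (α := Opens X)) (Coh.toAb M) z

theorem δ_surjective (hU : IsAffineOpen U) (hV : IsAffineOpen V) (hM : Coh.IsQCoh M) :
    Function.Surjective (δ M hcov) :=
  exists_siteδ_eq (mvSquare hcov) (isTerminalTop (α := Opens X)) (Coh.toAb M)
    (HU_subsingleton M 1 one_pos U hU) (HU_subsingleton M 1 one_pos V hV)

theorem δ_smul (r : Coh.Γtop X) (z : Γ(M, U ⊓ V)) :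
    δ M hcov (CohqB.QC2.resR (le_top : U ⊓ V ≤ ⊤) r • z) = r • δ M hcov z :=
  (siteδ_map (mvSquare hcov) (isTerminalTop (α := Opens X)) (Coh.smulAb M r) z).symm

theorem δ_natural {M N : X.Modules} (φ : M ⟶ N) (z : Γ(M, U ⊓ V)) :
    δ N hcov (φ.app (U ⊓ V) z) =
      Sheaf.H.map ((SheafOfModules.toSheaf X.ringCatSheaf).map φ) 1 (δ M hcov z) :=
  (siteδ_map (mvSquare hcov) (isTerminalTop (α := Opens X))
    ((SheafOfModules.toSheaf X.ringCatSheaf).map φ) z).symm

/-- Restriction of scalars from a base ring to functions on an open. -/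
noncomputable def baseHom {A : Type u} [CommRing A] (X : Scheme.{u}) [X.Over (Spec (CommRingCat.of A))]
    (W : X.Opens) : A →+* Γ(X, W) :=
  (CohqB.QC2.resR (le_top : W ≤ ⊤)).comp (Coh.toGlobal (X ↘ Spec (CommRingCat.of A)))

theorem δ_baseSmul {A : Type u} [CommRing A] [X.Over (Spec (CommRingCat.of A))] (a : A)
    (z : Γ(M, U ⊓ V)) :
    δ M hcov (baseHom X (U ⊓ V) a • z) = a • δ M hcov z :=
  δ_smul M hcov (Coh.toGlobal (X ↘ Spec (CommRingCat.of A)) a) z

/-- Two-chart Čech description of `H¹`, with values in quotients of modules over the base. -/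
theorem exists_linearEquiv {A : Type u} [CommRing A] [X.Over (Spec (CommRingCat.of A))]
    (hU : IsAffineOpen U) (hV : IsAffineOpen V) (hM : Coh.IsQCoh M)
    [Module A Γ(M, U ⊓ V)] (hmod : ∀ (a : A) (z : Γ(M, U ⊓ V)), a • z = baseHom X (U ⊓ V) a • z)
    (N : Submodule A Γ(M, U ⊓ V)) (hN : ∀ z, z ∈ N ↔ ∃ (a : Γ(M, U)) (b : Γ(M, V)),
      CohqB.QC2.res M inf_le_left a - CohqB.QC2.res M inf_le_right b = z) :
    ∃ e : (Γ(M, U ⊓ V) ⧸ N) ≃ₗ[A] Coh.HH X M 1, ∀ z, e (Submodule.Quotient.mk z) = δ M hcov z := by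
  let δ' : Γ(M, U ⊓ V) →ₗ[A] Coh.HH X M 1 :=
    { toFun := δ M hcov
      map_add' := map_add _
      map_smul' := fun a z => by
        rw [hmod]
        exact δ_baseSmul M hcov a z }
  have hker : LinearMap.ker δ' = N := by
    ext z
    rw [hN, LinearMap.mem_ker]
    exact δ_eq_zero_iff M hcov z
  subst hker
  exact ⟨δ'.quotKerEquivOfSurjective (δ_surjective M hcov hU hV hM), fun z => rfl⟩

/-- The connecting map `Γ(X, U ⊓ V) → H¹(X, O_X)`. -/
noncomputable def δO : Γ(X, U ⊓ V) →+ Coh.HH X (Coh.structureModule X) 1 :=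
  δ (Coh.structureModule X) hcov

theorem δO_eq_zero_iff (z : Γ(X, U ⊓ V)) : δO hcov z = 0 ↔ ∃ (a : Γ(X, U)) (b : Γ(X, V)),
    CohqB.QC2.resR inf_le_left a - CohqB.QC2.resR inf_le_right b = z :=
  δ_eq_zero_iff (Coh.structureModule X) hcov z

theorem δO_surjective (hU : IsAffineOpen U) (hV : IsAffineOpen V) :
    Function.Surjective (δO hcov) :=
  δ_surjective (Coh.structureModule X) hcov hU hV (CurvesC.UnitCoh.isQCoh_unit X)

theorem δO_baseMul {A : Type u} [CommRing A] [X.Over (Spec (CommRingCat.of A))] (a : A)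
    (z : Γ(X, U ⊓ V)) :
    δO hcov (baseHom X (U ⊓ V) a * z) = a • δO hcov z :=
  δ_baseSmul (Coh.structureModule X) hcov a z

/-- Two-chart Čech description of `H¹(X, O_X)`. -/
theorem exists_linearEquiv_O {A : Type u} [CommRing A] [X.Over (Spec (CommRingCat.of A))]
    (hU : IsAffineOpen U) (hV : IsAffineOpen V) (hcov : U ⊔ V = ⊤)
    [Module A Γ(X, U ⊓ V)] (hmod : ∀ (a : A) (z : Γ(X, U ⊓ V)), a • z = baseHom X (U ⊓ V) a * z)
    (N : Submodule A Γ(X, U ⊓ V)) (hN : ∀ z, z ∈ N ↔ ∃ (a : Γ(X, U)) (b : Γ(X, V)),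
      CohqB.QC2.resR inf_le_left a - CohqB.QC2.resR inf_le_right b = z) :
    ∃ e : (Γ(X, U ⊓ V) ⧸ N) ≃ₗ[A] Coh.HH X (Coh.structureModule X) 1,
      ∀ z, e (Submodule.Quotient.mk z) = δO hcov z := by
  let δ' : Γ(X, U ⊓ V) →ₗ[A] Coh.HH X (Coh.structureModule X) 1 :=
    { toFun := δO hcov
      map_add' := map_add _
      map_smul' := fun a z => by
        rw [hmod]
        exact δO_baseMul hcov a z }
  have hker : LinearMap.ker δ' = N := by
    ext z
    rw [hN, LinearMap.mem_ker]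
    exact δO_eq_zero_iff hcov z
  subst hker
  exact ⟨δ'.quotKerEquivOfSurjective (δO_surjective hcov hU hV), fun z => rfl⟩

/-- The dimension of `H¹(X, O_X)` over the base ring from two affine charts. -/
theorem finrank_quotient_eq {A : Type u} [CommRing A] [X.Over (Spec (CommRingCat.of A))]
    (hU : IsAffineOpen U) (hV : IsAffineOpen V) (hcov : U ⊔ V = ⊤)
    [Module A Γ(X, U ⊓ V)] (hmod : ∀ (a : A) (z : Γ(X, U ⊓ V)), a • z = baseHom X (U ⊓ V) a * z)
    (N : Submodule A Γ(X, U ⊓ V)) (hN : ∀ z, z ∈ N ↔ ∃ (a : Γ(X, U)) (b : Γ(X, V)),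
      CohqB.QC2.resR inf_le_left a - CohqB.QC2.resR inf_le_right b = z) :
    Module.finrank A (Γ(X, U ⊓ V) ⧸ N) = Module.finrank A (Coh.HH X (Coh.structureModule X) 1) := by
  obtain ⟨e, -⟩ := exists_linearEquiv_O hU hV hcov hmod N hN
  exact e.finrank_eq

end Scheme

end Groth.Agent.CohqA.TwoChart
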